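import Cfsg.Agent.BZ.Up
import Cfsg.Agent.H652.Cabanes
import Cfsg.Agent.H669.Basic
import Cfsg.Agent.H829.GowDesc
import Cfsg.Agent.TID.Red.Basic

/-!
# OM (S4894): three transfers of nilpotency (helper57)

* `nil_under` : to a normal subgroup of `p`-power index; `nil_pull` : along a central `p'`-extension, with a twist;
* `nil_push` : to a central quotient.
-/

set_option autoImplicit false
set_option linter.unusedSectionVars false

namespace Cfsg.Agent.OM.Gen.CovT

open Cfsg Subgroup Cfsg.Agent.Blocks Cfsg.Agent.Blocks.Local Cfsg.Agent.Blocks.MinMax Cfsg.Agent.Blocks.ConvCentral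
  Cfsg.Agent.Blocks.Basic
open Cfsg.Agent.BZ.Up (Ov coeff_sing reg_map)

attribute [local instance] Fintype.ofFinite

variable {p : ℕ} [hp : Fact p.Prime] {M : Ideal AlgInt} {G C H L K : Type} [Group G] [Finite G] [Group C] [Finite C] [Group H]
  [Finite H] [Group L] [Finite L] [Group K] [Finite K]

/-! ### central characters -/

section Om

variable [M.IsPrime]

theorem om_same {e : Set (IrrCharacter G)} (he : IsPBlock M e) {χ ψ : IrrCharacter G} (hχ : χ ∈ e) (hψ : ψ ∈ e) {γ : G → ℂ}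
    (h1 : IsClassFunction G γ) (h2 : ∀ g, MemLocalRing M (γ g)) :
    redC M (omega (χ : G → ℂ) γ) = redC M (omega (ψ : G → ℂ) γ) := by
  rw [← H644.lam_toK χ.2 h1 h2, ← H644.lam_toK ψ.2 h1 h2, H644.lam_eq_of_mem he hχ hψ]

theorem om_pair (hM : IsPModular p M) {B : Set (IrrCharacter G)} {Q : Subgroup G}
    {e : Set (IrrCharacter (centralizer (Q : Set G)))} (h : IsBrauerPairOf p M B Q e)
    {ξ : IrrCharacter (centralizer (Q : Set G))} (hξ : ξ ∈ e) {χ : IrrCharacter G} (hχ : χ ∈ B) {γ : G → ℂ}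
    (h1 : IsClassFunction G γ) (h2 : ∀ g, MemLocalRing M (γ g)) :
    redC M (omega (ξ : centralizer (Q : Set G) → ℂ) fun c => γ c) = redC M (omega (χ : G → ℂ) γ) := by
  rw [← H644.lam_toK ξ.2 (H652.PairBasic.isClassFunction_restrict Q h1) fun c => h2 c, ← H644.lam_toK χ.2 h1 h2,
    ← H644.lam_br_eq_lam hM h hξ hχ (H644.isCls_toK h1)]
  rfl

theorem coeff_loc (hM : IsPModular p M) {B : Set (IrrCharacter G)} (hB : IsPBlock M B) (g : G) :
    MemLocalRing M (blockCoeff B g) := H644.memLocalRing_blockCoeff hM (H644.isUnion_of_isPBlock hB) g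

theorem pair_of (hM : IsPModular p M) {B : Set (IrrCharacter G)} (hB : IsPBlock M B) {Q : Subgroup G} (hQ : IsPGroup p Q)
    {ξ : IrrCharacter (centralizer (Q : Set G))}
    (h : redC M (omega (ξ : centralizer (Q : Set G) → ℂ) fun c => blockCoeff B c) = 1) :
    IsBrauerPairOf p M B Q (blockOf M (ξ : centralizer (Q : Set G) → ℂ)) :=
  (H644.isBrauerPairOf_iff_of_mem hM ⟨hQ, isPBlock_blockOf ξ⟩ hB (mem_blockOf_self ξ)).2
    ((H644.lam_toK ξ.2 (H652.PairBasic.isClassFunction_restrict Q (isClassFunction_blockCoeff B))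
      fun c => coeff_loc hM hB c).trans h)

theorem red_ne (hM : IsPModular p M) {m : ℕ} (hm : ¬ p ∣ m) : redC M (m : ℂ) ≠ 0 :=
  mt (redC_eq_zero_iff (memLocalRing_natCast m)).1 (mt (memLocalIdeal_natCast_iff hM m).1 hm)

theorem red_cancel (hM : IsPModular p M) {m : ℕ} (hm : ¬ p ∣ m) {w : ℂ} (hw : MemLocalRing M w)
    (h : redC M (m * w) = redC M (m * 1)) : redC M w = 1 := by
  rw [redC_mul (memLocalRing_natCast m) hw, mul_one] at h
  exact mul_left_cancel₀ (red_ne hM hm) (h.trans (mul_one _).symm)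

theorem mem_of_red {U : Set (IrrCharacter G)} {χ : IrrCharacter G} (h : redC M (omega (χ : G → ℂ) (blockCoeff U)) = 1) :
    χ ∈ U := by
  classical
  by_contra h1
  rw [omega_blockCoeff, if_neg h1, redC_zero] at h
  exact zero_ne_one h

theorem loc_hom (μ : G →* ℂˣ) (g : G) : MemLocalRing M (μ g : ℂ) :=
  memLocalRing_of_isIntegral (IsIntegral.of_pow (Nat.card_pos (α := G)) (by
    rw [← Units.val_pow_eq_pow_val, ← map_pow, pow_card_eq_one', map_one, Units.val_one]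
    exact isIntegral_one))

end Om

theorem om_mem {U : Set (IrrCharacter G)} {χ : IrrCharacter G} (h : χ ∈ U) : omega (χ : G → ℂ) (blockCoeff U) = 1 := by
  classical
  rw [omega_blockCoeff, if_pos h]

theorem om_equiv (e : C ≃* C) {ξ ξ' γ γ' : C → ℂ} (h : ∀ c, ξ' (e c) = ξ c) (h' : ∀ c, γ' (e c) = γ c) :
    omega ξ' γ' = omega ξ γ := by
  rw [omega_def, omega_def, lin_def, lin_def, ← map_one e, h, ← Equiv.sum_comp e.toEquiv]
  simp only [MulEquiv.toEquiv_eq_coe, EquivLike.coe_coe, h, h', map_one]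

theorem cls_tw (μ : C →* ℂˣ) (φ : C →* H) {β : H → ℂ} (h : IsClassFunction H β) :
    IsClassFunction C fun c => (μ c : ℂ) * β (φ c) := fun a b => by
  simp only [map_mul, map_inv, h (φ a) (φ b), mul_inv_cancel_comm]

theorem exists_ov (φ : C →* H) {ξ : C → ℂ} (h : ∑ d, delta (φ d) * ξ d ≠ 0) : ∃ η : IrrCharacter H, Ov φ η ξ := by
  classical
  have := Characters.Core.finite_irr (G := H)
  by_contra h0
  have h1 : ∀ η : IrrCharacter H, ∑ d, (η : H → ℂ) (φ d) * ξ d⁻¹ = 0 := fun η => by_contra fun h2 => h0 ⟨η, h2⟩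
  have h2 : ∑ η : IrrCharacter H, (η : H → ℂ) 1 * ∑ d, (η : H → ℂ) (φ d) * ξ d⁻¹ = 0 := by
    simp only [h1, mul_zero, Finset.sum_const_zero]
  simp only [Finset.mul_sum, ← mul_assoc] at h2
  rw [Finset.sum_comm] at h2
  simp only [← Finset.sum_mul, Characters.Counting.sum_irr_one_mul] at h2
  refine mul_ne_zero (Nat.cast_ne_zero.2 (Nat.card_pos (α := H)).ne') h (Eq.trans ?_ h2)
  rw [Finset.mul_sum, ← Equiv.sum_comp (Equiv.inv C)]
  refine Finset.sum_congr rfl fun d _ => ?_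
  rw [Equiv.inv_apply, map_inv]
  split_ifs with h3
  · rw [h3, inv_one, delta_one, one_mul]
  · rw [delta_ne (mt inv_eq_one.1 h3), zero_mul, mul_zero]

/-- the fibres over the `p`-regular elements have `m` elements -/
def Fb (p m : ℕ) (φ : C →* H) : Prop :=
  ∀ β : H → ℂ, (∀ y, ¬ IsPRegular p y → β y = 0) → ∑ c, β (φ c) = m * ∑ y, β y

theorem Fb.om {m : ℕ} {φ : C →* H} (h : Fb p m φ) (μ : C →* ℂˣ) {η : IrrCharacter H} {ξ : IrrCharacter C}
    (ho : Ov φ η fun c => (μ c : ℂ) * (ξ : C → ℂ) c) {β : H → ℂ} (h1 : IsClassFunction H β)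
    (h2 : ∀ y, ¬ IsPRegular p y → β y = 0) :
    omega (ξ : C → ℂ) (fun c => (μ c : ℂ) * β (φ c)) = m * omega (η : H → ℂ) β := by
  have e := ho.om η.2 (H669.Basic.isIrr_hom_mul μ ξ.2) (γ' := fun y => m * β y) (γ := fun c => β (φ c))
    (fun a b => by simp only [h1 a b]) (fun a b => by simp only [map_mul, map_inv, h1 (φ a) (φ b)]) fun F => by
      rw [h (fun y => β y * F y) fun y hy => by rw [h2 y hy, zero_mul], Finset.mul_sum]
      simp only [mul_assoc]
  simp only [map_one, Units.val_one, one_mul, mul_assoc, ← Finset.mul_sum] at e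
  rw [omega_def, omega_def, lin_def, lin_def, ← mul_div_assoc, e]
  simp only [mul_assoc, mul_left_comm (μ _ : ℂ)]

/-- the map of the centralisers -/
def cm (π : L →* K) (Q : Subgroup L) : centralizer (Q : Set L) →* centralizer ((Q.map π : Subgroup K) : Set K) :=
  (π.comp (centralizer (Q : Set L)).subtype).codRestrict _ fun c => by
    rintro _ ⟨q, hq, rfl⟩
    change π q * π c = π c * π q
    rw [← map_mul, ← map_mul, c.2 q hq]

theorem cm_conj (π : L →* K) (Q : Subgroup L) {x : L} (h : x ∈ normalizer (centralizer (Q : Set L) : Set L))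
    (h' : π x ∈ normalizer (centralizer ((Q.map π : Subgroup K) : Set K) : Set K)) (c : centralizer (Q : Set L)) :
    cm π Q (H649.conjAut _ x h c) = H649.conjAut _ _ h' (cm π Q c) :=
  Subtype.ext (show π (x * c * x⁻¹) = π x * π c * (π x)⁻¹ by rw [map_mul, map_mul, map_inv])

theorem not_reg_one {y : H} (h : ¬ IsPRegular p y) : y ≠ 1 := by
  rintro rfl
  exact h (by rw [IsPRegular, orderOf_one, Nat.dvd_one]; exact hp.out.ne_one)

/-- **nilpotency is pulled back** -/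
theorem master (hM : IsPModular p M) (π : L →* K) (μ : L →* ℂˣ) {m : ℕ} (hm : ¬ p ∣ m) (h1 : Fb p m π)
    (h2 : ∀ Q : Subgroup L, IsPGroup p Q → Fb p m (cm π Q))
    (h3 : ∀ Q : Subgroup L, IsPGroup p Q → ∀ x, π x ∈ centralizer ((Q.map π : Subgroup K) : Set K) → x ∈ centralizer (Q : Set L))
    {B : Set (IrrCharacter K)} (hB : IsNilpotentBlock p M B) {χ : IrrCharacter K} (hχ : χ ∈ B) {ξ : IrrCharacter L}
    (ho : Ov π χ fun l => (μ l : ℂ) * (ξ : L → ℂ) l) : IsNilpotentBlock p M (blockOf M (ξ : L → ℂ)) := by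
  have := isPrime_of_isPModular hM
  refine ⟨isPBlock_blockOf ξ, fun Q e he x hx hs hr => h3 Q he.1.1 x ?_⟩
  obtain ⟨ζ, hζ⟩ := isPBlock_nonempty he.1.2
  have key : ∀ β : K → ℂ, IsClassFunction K β → (∀ y, ¬ IsPRegular p y → β y = 0) → (∀ y, MemLocalRing M (β y)) →
      omega (χ : K → ℂ) β = 1 → redC M (omega (ζ : centralizer (Q : Set L) → ℂ) fun c => (μ c : ℂ) * β (π c)) = redC M (m * 1) :=
    fun β a1 a2 a3 a4 => (om_pair hM he hζ (mem_blockOf_self ξ) (cls_tw μ π a1) fun g =>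
      memLocalRing_mul (loc_hom μ g) (a3 _)).trans (by rw [h1.om μ ho a1 a2, a4])
  let μ' := μ.comp (centralizer (Q : Set L)).subtype
  obtain ⟨η, hη⟩ := exists_ov (cm π Q) (ξ := fun c => (μ' c : ℂ) * (ζ : centralizer (Q : Set L) → ℂ) c) fun h0 => by
    have e := key delta isClassFunction_delta (fun y hy => delta_ne (not_reg_one hy)) memLocalRing_delta
      (omega_delta (Basic.irr_one_ne_zero χ.2))
    rw [omega_def, lin_def, Finset.sum_congr rfl fun c _ => ?_, h0, zero_div, redC_zero, mul_one] at e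
    · exact red_ne hM hm e.symm
    rw [mul_left_comm, mul_assoc]
    by_cases h4 : cm π Q c = 1
    · rw [show π c = 1 from congrArg Subtype.val h4, h4, delta_one, delta_one]
      rfl
    · rw [delta_ne h4, delta_ne (g := π c) fun h5 => h4 (Subtype.ext h5), zero_mul, mul_zero, mul_zero]
  have hx' : π x ∈ normalizer ((Q.map π : Subgroup K) : Set K) := le_normalizer_map _ ⟨x, hx, rfl⟩
  have hb := isPBlock_blockOf (M := M) η
  have hc := H652.PairBasic.isClassFunction_restrict (Q.map π) (isClassFunction_blockCoeff B)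
  refine hB.2 _ _ (pair_of hM hB.1 (he.1.1.map π) (red_cancel hM hm
    (memLocalRing_omega η.2 hc fun c => coeff_loc hM hB.1 c) ?_)) _ hx' ?_ (reg_map π hr)
  · rw [← (h2 Q he.1.1).om μ' hη hc fun y hy => coeff_sing hM hB.1 (by unfold IsPRegular; rwa [orderOf_coe])]
    exact key _ (isClassFunction_blockCoeff B) (fun y => coeff_sing hM hB.1) (coeff_loc hM hB.1) (om_mem hχ)
  have hn := H649.mem_normalizer_centralizer hx'
  have hb' := H649.isPBlock_blkMap (e := H649.conjAut _ _ hn) hb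
  refine (H649.stabilizesBlock_iff hb _).2 ⟨hn, isPBlock_eq_of_mem hb' hb (mem_of_red (red_cancel hM hm
    (memLocalRing_omega η.2 (isClassFunction_blockCoeff _) (coeff_loc hM hb')) ?_)) (mem_blockOf_self η)⟩
  obtain ⟨ζ', hζ', hc'⟩ := hs.2 ζ hζ
  rw [← (h2 Q he.1.1).om μ' hη (isClassFunction_blockCoeff _) fun y => coeff_sing hM hb',
    om_same he.1.2 hζ hζ' (cls_tw μ' _ (isClassFunction_blockCoeff _)) fun g =>
      memLocalRing_mul (loc_hom μ' g) (coeff_loc hM hb' _),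
    om_equiv (H649.conjAut _ x hs.1) (fun c => hc' c _ rfl) (γ := fun c => (μ' c : ℂ) * blockCoeff (blockOf M η.1) (cm π Q c))
      fun c => ?_, (h2 Q he.1.1).om μ' hη (isClassFunction_blockCoeff _) fun y => coeff_sing hM hb,
    om_mem (mem_blockOf_self η)]
  rw [cm_conj π Q hs.1 hn, H649.blockCoeff_blkMap, show μ' (H649.conjAut _ x hs.1 c) = μ' c from
    show μ (x * c * x⁻¹) = μ c by rw [map_mul, map_mul, map_inv, mul_inv_cancel_comm]]

theorem fb_inj {φ : C →* H} (h : Function.Injective φ) (h' : ∀ y, IsPRegular p y → y ∈ Set.range φ) : Fb p 1 φ := fun β hβ => by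
  rw [Nat.cast_one, one_mul]
  exact Fintype.sum_of_injective φ h _ _ (fun y hy => hβ y (mt (h' y) hy)) fun _ => rfl

/-- **(T1)** -/
theorem nil_under (hM : IsPModular p M) (N : Subgroup G) [N.Normal] (hN : ∃ k : ℕ, N.index = p ^ k)
    {B : Set (IrrCharacter G)} (hB : IsNilpotentBlock p M B) {χ : IrrCharacter G} (hχ : χ ∈ B) {η : IrrCharacter N}
    (h : TID.Red.Ov N.subtype (χ : G → ℂ) (η : N → ℂ)) : IsNilpotentBlock p M (blockOf M (η : N → ℂ)) := by
  have hr : ∀ y : G, IsPRegular p y → y ∈ N := fun y => H652.Cabanes.mem_of_isPRegular N hp.out hN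
  have hc : ∀ (Q : Subgroup N) (x : N), (x : G) ∈ centralizer ((Q.map N.subtype : Subgroup G) : Set G) →
      x ∈ centralizer (Q : Set N) := fun Q x hx q hq => Subtype.ext (hx _ ⟨q, hq, rfl⟩)
  refine master hM N.subtype 1 hp.out.not_dvd_one (fb_inj N.subtype_injective fun y hy => ⟨⟨y, hr y hy⟩, rfl⟩)
    (fun Q _ => fb_inj (fun a b e => Subtype.ext (Subtype.ext (congrArg (fun x => x.1) e))) fun y hy => ?_)
    (fun Q _ => hc Q) hB hχ fun h0 => h ?_
  · exact ⟨⟨⟨y, hr y (by unfold IsPRegular; rwa [orderOf_coe])⟩, hc Q _ y.2⟩, rfl⟩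
  · simp only [MonoidHom.one_apply, Units.val_one, one_mul,
      Characters.Core.isCharacter_apply_inv (Characters.Core.isIrr_isCharacter η.2)] at h0
    rw [Characters.Core.classInner_def, h0, mul_zero]

theorem pow_comm {l q : L} (h : l * q * l⁻¹ * q⁻¹ ∈ center L) {n : ℕ} (hq : q ^ n = 1) : (l * q * l⁻¹ * q⁻¹) ^ n = 1 := by
  have e := (show Commute (l * q * l⁻¹ * q⁻¹) q from (mem_center_iff.1 h q).symm).mul_pow n
  rwa [inv_mul_cancel_right, conj_pow, hq, mul_one, mul_one, mul_inv_cancel, eq_comm] at e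

theorem comm_of {l q : L} (h : l * q * l⁻¹ * q⁻¹ ∈ center L) {k n : ℕ} (hq : q ^ p ^ k = 1) (hn : ¬ p ∣ n)
    (hz : (l * q * l⁻¹ * q⁻¹) ^ n = 1) : q * l = l * q := by
  have e := pow_gcd_eq_one.2 ⟨pow_comm h hq, hz⟩
  rw [(Nat.Coprime.pow_left k (hp.out.coprime_iff_not_dvd.2 hn)).gcd_eq_one, pow_one, mul_inv_eq_one,
    mul_inv_eq_iff_eq_mul] at e
  exact e.symm

theorem comm_ker {π : L →* K} {l q : L} (h : π q * π l = π l * π q) : l * q * l⁻¹ * q⁻¹ ∈ π.ker := by
  rw [MonoidHom.mem_ker, map_mul, map_mul, map_mul, map_inv, map_inv, ← h, mul_inv_cancel_right, mul_inv_cancel]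

theorem ov_self (π : L →* K) {χ : K → ℂ} {ξ : L → ℂ} (hξ : IsIrrCharacter L ξ) (h : ∀ l, ξ l = χ (π l)) : Ov π χ ξ := fun h0 => by
  have e := Characters.Core.classInner_irr_self hξ
  simp only [← h, Characters.Core.isCharacter_apply_inv (Characters.Core.isIrr_isCharacter hξ)] at h0
  rw [Characters.Core.classInner_def, h0, mul_zero] at e
  exact zero_ne_one e

/-- **(T2)** -/
theorem nil_pull (hM : IsPModular p M) (π : L →* K) (hπ : Function.Surjective π) (hZ : π.ker ≤ center L)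
    (hk : ¬ p ∣ Nat.card π.ker) (ν : L →* ℂˣ) {B : Set (IrrCharacter K)} (hB : IsNilpotentBlock p M B) {χ : IrrCharacter K}
    (hχ : χ ∈ B) {ξ : IrrCharacter L} (h : ∀ l, (ξ : L → ℂ) l = ν l * (χ : K → ℂ) (π l)) :
    IsNilpotentBlock p M (blockOf M (ξ : L → ℂ)) := by
  have hc : ∀ Q : Subgroup L, IsPGroup p Q → ∀ x, π x ∈ centralizer ((Q.map π : Subgroup K) : Set K) →
      x ∈ centralizer (Q : Set L) := fun Q hQ x hx q hq => by
    have h1 := comm_ker (hx _ ⟨q, hq, rfl⟩)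
    obtain ⟨k, h2⟩ := hQ ⟨q, hq⟩
    exact comm_of (hZ h1) (congrArg Subtype.val h2) hk (congrArg Subtype.val (pow_card_eq_one' (x := (⟨_, h1⟩ : π.ker))))
  refine master hM π ν⁻¹ hk (fun β _ => H829.GowDesc.sum_comp_surj π hπ β) (fun Q hQ β _ => ?_) hc hB hχ
    (ov_self π (H669.Basic.isIrr_hom_mul ν⁻¹ ξ.2) fun l => by
      rw [h, MonoidHom.inv_apply, Units.inv_mul_cancel_left])
  rw [H829.GowDesc.sum_comp_surj (cm π Q) (fun y => ?_) β, show (cm π Q).ker = π.ker.subgroupOf _ from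
    Subgroup.ext fun c => Subtype.ext_iff, Nat.card_congr (subgroupOfEquivOfLe (hZ.trans (center_le_centralizer _))).toEquiv]
  obtain ⟨x, hx⟩ := hπ y
  exact ⟨⟨x, hc Q hQ x (hx ▸ y.2)⟩, Subtype.ext hx⟩

/-! ### central quotients -/

theorem exists_under (φ : C →* H) (η : IrrCharacter H) : ∃ ζ : IrrCharacter C, Ov φ η ζ := by
  classical
  have := Characters.Core.finite_irr (G := C)
  by_contra h0
  have h1 : ∀ ζ : IrrCharacter C, ∑ d, (η : H → ℂ) (φ d) * (ζ : C → ℂ) d⁻¹ = 0 := fun ζ => by_contra fun h2 => h0 ⟨ζ, h2⟩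
  have h2 : ∑ ζ : IrrCharacter C, (ζ : C → ℂ) 1 * ∑ d, (η : H → ℂ) (φ d) * (ζ : C → ℂ) d⁻¹ = 0 := by
    simp only [h1, mul_zero, Finset.sum_const_zero]
  simp only [Finset.mul_sum, mul_left_comm _ ((η : H → ℂ) _)] at h2
  rw [Finset.sum_comm] at h2
  simp only [← Finset.mul_sum, Characters.Counting.sum_irr_one_mul, inv_eq_one, mul_ite, mul_zero, Finset.sum_ite_eq',
    Finset.mem_univ, if_true, map_one] at h2
  exact mul_ne_zero (Basic.irr_one_ne_zero η.2) (Nat.cast_ne_zero.2 (Nat.card_pos (α := C)).ne') h2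

open scoped Classical in
/-- the sums over the fibres -/
noncomputable def ps (φ : C → H) (γ : C → ℂ) (y : H) : ℂ := ∑ c, if φ c = y then γ c else 0

theorem ps_sum (φ : C → H) (γ : C → ℂ) (F : H → ℂ) : ∑ y, ps φ γ y * F y = ∑ c, γ c * F (φ c) := by
  simp only [ps, Finset.sum_mul]
  rw [Finset.sum_comm]
  refine Finset.sum_congr rfl fun c _ => ?_
  rw [Finset.sum_eq_single (φ c) (fun y _ h => by rw [if_neg h.symm, zero_mul]) fun h => absurd (Finset.mem_univ _) h, if_pos rfl]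

theorem ps_loc [M.IsPrime] (φ : C → H) {γ : C → ℂ} (h : ∀ c, MemLocalRing M (γ c)) (y : H) : MemLocalRing M (ps φ γ y) :=
  memLocalRing_sum fun c _ => by
    split_ifs
    exacts [h c, memLocalRing_zero]

theorem ps_cls {φ : C → H} {γ : C → ℂ} (h : ∀ y : H, ∃ a : C ≃ C, ∀ c, φ (a c) = y * φ c * y⁻¹ ∧ γ (a c) = γ c) :
    IsClassFunction H (ps φ γ) := fun g y => by
  classical
  obtain ⟨a, ha⟩ := h y
  rw [ps, ps, ← Equiv.sum_comp a]
  exact Finset.sum_congr rfl fun c _ => if_congr (by rw [(ha c).1, mul_left_inj, mul_right_inj]) (ha c).2 rfl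

theorem ps_inj {φ : C → H} {π : L → K} {ι : C → L} (hι : Function.Injective ι) {y : H} {y' : K} {γ : L → ℂ}
    (h : ∀ c, φ c = y ↔ π (ι c) = y') (h' : ∀ l, l ∉ Set.range ι → π l = y' → γ l = 0) :
    ps π γ y' = ps φ (fun c => γ (ι c)) y := by
  classical
  rw [ps, ps, eq_comm]
  exact Fintype.sum_of_injective ι hι _ _ (fun l hl => ite_eq_right_iff.2 (h' l hl)) fun c => if_congr (h c) rfl rfl

theorem om_ps {φ : C →* H} {η : IrrCharacter H} {ζ : IrrCharacter C} (ho : Ov φ η ζ) {γ : C → ℂ} (h1 : IsClassFunction H (ps φ γ))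
    (h2 : IsClassFunction C γ) : omega (η : H → ℂ) (ps φ γ) = omega (ζ : C → ℂ) γ := ho.om η.2 ζ.2 h1 h2 (ps_sum φ γ)

theorem exists_lift (π : L →* K) (hπ : Function.Surjective π) (hZ : π.ker ≤ center L) {R : Subgroup K} (hR : IsPGroup p R) :
    ∃ Q : Subgroup L, IsPGroup p Q ∧ Q.map π = R ∧ ∀ x, π x ∈ normalizer (R : Set K) → x ∈ normalizer (Q : Set L) := by
  obtain ⟨S⟩ : Nonempty (Sylow p (R.comap π)) := inferInstance
  have h1 : ∀ t : R.comap π, ∃ s ∈ (S : Subgroup (R.comap π)), π s = π t := fun t => by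
    have e := (S.mapSurjective (π.subgroupComap_surjective_of_surjective R hπ)).3 (hR.to_subgroup ⊤) le_top
    obtain ⟨s, hs, e'⟩ : π.subgroupComap R t ∈ (S : Subgroup (R.comap π)).map (π.subgroupComap R) := e.le trivial
    exact ⟨s, hs, congrArg Subtype.val e'⟩
  have h2 : (S : Subgroup (R.comap π)).Normal := ⟨fun a ha t => by
    obtain ⟨s, hs, e⟩ := h1 t
    have h3 := mem_center_iff.1 (hZ (show (s : L)⁻¹ * t ∈ π.ker by rw [MonoidHom.mem_ker, map_mul, map_inv, e, inv_mul_cancel])) a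
    have h4 : t * a * t⁻¹ = s * a * s⁻¹ := Subtype.ext (by
      rw [coe_mul, coe_mul, coe_mul, coe_mul, coe_inv, coe_inv, ← mul_inv_cancel_left (s : L) t, mul_assoc (s : L), ← h3]
      group)
    exact h4 ▸ mul_mem (mul_mem hs ha) (inv_mem hs)⟩
  have := S.unique_of_normal h2
  refine ⟨(S : Subgroup (R.comap π)).map (R.comap π).subtype, S.2.map _, le_antisymm ?_ fun y hy => ?_, fun x hx =>
    mem_normalizer_fintype ?_⟩
  · rintro _ ⟨_, ⟨s, -, rfl⟩, rfl⟩
    exact s.2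
  · obtain ⟨t, rfl⟩ := hπ y
    obtain ⟨s, hs, e⟩ := h1 ⟨t, hy⟩
    exact ⟨s, ⟨s, hs, rfl⟩, e⟩
  · rintro _ ⟨s, hs, rfl⟩
    have h3 : x * s * x⁻¹ ∈ R.comap π := by
      rw [mem_comap, map_mul, map_mul, map_inv]
      exact (mem_normalizer_iff.1 hx _).1 s.2
    obtain ⟨k, hk⟩ := S.2 ⟨s, hs⟩
    have h4 : IsPGroup p (zpowers (⟨_, h3⟩ : R.comap π)) := IsPGroup.of_card_dvd_pow (n := k) (by
      rw [Nat.card_zpowers]
      refine orderOf_dvd_of_pow_eq_one (Subtype.ext ?_)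
      rw [coe_pow, coe_mk, conj_pow, show (s : L) ^ p ^ k = 1 from congrArg (fun z => z.1.1) hk, mul_one, mul_inv_cancel]
      rfl)
    obtain ⟨S', h5⟩ := h4.exists_le_sylow
    exact ⟨_, Subsingleton.elim S' S ▸ h5 (mem_zpowers _), rfl⟩

/-- **(T3)** -/
theorem nil_push (hM : IsPModular p M) (π : L →* K) (hπ : Function.Surjective π) (hZ : π.ker ≤ center L)
    {B : Set (IrrCharacter L)} (hB : IsNilpotentBlock p M B) {ξ : IrrCharacter L} (hξ : ξ ∈ B) {χ : IrrCharacter K}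
    (h : ∀ l, (ξ : L → ℂ) l = (χ : K → ℂ) (π l)) : IsNilpotentBlock p M (blockOf M (χ : K → ℂ)) := by
  have := isPrime_of_isPModular hM
  refine ⟨isPBlock_blockOf χ, fun R e he y hy hs hr => ?_⟩
  obtain ⟨Q, hQ, rfl, hN⟩ := exists_lift π hπ hZ he.1.1
  obtain ⟨x, rfl⟩ := hπ y
  obtain ⟨η, hη⟩ := isPBlock_nonempty he.1.2
  obtain ⟨ζ, ho⟩ := exists_under (cm π Q) η
  have hf := isPBlock_blockOf (M := M) ζ
  have a1 : IsClassFunction K (ps π (blockCoeff B)) := ps_cls fun y => by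
    obtain ⟨l, rfl⟩ := hπ y
    exact ⟨(MulAut.conj l).toEquiv, fun c => ⟨show π (l * c * l⁻¹) = _ by rw [map_mul, map_mul, map_inv],
      isClassFunction_blockCoeff B c l⟩⟩
  have a2 : (fun y : centralizer ((Q.map π : Subgroup K) : Set K) => ps π (blockCoeff B) y) =
      ps (cm π Q) fun c => blockCoeff B c := funext fun y => by
    refine ps_inj Subtype.val_injective (fun c => Subtype.ext_iff) fun l hl h1 =>
      coeff_sing hM hB.1 fun h2 => hl ⟨⟨l, fun q hq => ?_⟩, rfl⟩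
    have h3 := hZ (comm_ker (h1 ▸ y.2 _ ⟨q, hq, rfl⟩))
    obtain ⟨k, h4⟩ := hQ ⟨q, hq⟩
    refine comm_of h3 (congrArg Subtype.val h4) h2 ?_
    have h5 : (l * q * l⁻¹ * q⁻¹)⁻¹ = q * l * q⁻¹ * l⁻¹ := by group
    rw [← inv_eq_one, ← inv_pow, h5]
    exact pow_comm (h5 ▸ inv_mem h3) (pow_orderOf_eq_one l)
  have a3 : IsBrauerPairOf p M B Q (blockOf M ζ.1) := pair_of hM hB.1 hQ (by
    rw [← om_ps ho (a2 ▸ H652.PairBasic.isClassFunction_restrict _ a1)
      (H652.PairBasic.isClassFunction_restrict Q (isClassFunction_blockCoeff B)), ← a2,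
      om_pair hM he hη (mem_blockOf_self χ) a1 (ps_loc π (coeff_loc hM hB.1)),
      om_ps (ov_self π ξ.2 h) a1 (isClassFunction_blockCoeff B), om_mem hξ, redC_one])
  have hC : ∀ l, π l ∈ centralizer ((Q.map π : Subgroup K) : Set K) → l ∈ normalizer (Q : Set L) := fun l hl =>
    hN l (centralizer_le_normalizer _ hl)
  have hH : (centralizer ((Q.map π : Subgroup K) : Set K)).comap π ≤ normalizer (centralizer (Q : Set L) : Set L) :=
    fun l hl => H649.mem_normalizer_centralizer (hC l hl)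
  have a4 : IsClassFunction _ (ps (cm π Q) (blockCoeff (H644.conjUnion _ _ hH (blockOf M ζ.1)))) := ps_cls fun y => by
    obtain ⟨l, hl⟩ := hπ y
    have h1 : l ∈ (centralizer ((Q.map π : Subgroup K) : Set K)).comap π := by
      rw [mem_comap, hl]
      exact y.2
    refine ⟨(H644.cjE l _ _ (H644.mem_iff_conj_mem_of_mem_normalizer (hH h1))).toEquiv, fun c => ⟨Subtype.ext
      (show π (l * c * l⁻¹) = y * π c * (y : K)⁻¹ by rw [map_mul, map_mul, map_inv, hl]), ?_⟩⟩
    have h2 := H644.blockCoeff_irrMap (H644.cjE l _ _ (H644.mem_iff_conj_mem_of_mem_normalizer (hH h1)))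
      (H644.conjUnion _ _ hH (blockOf M ζ.1)) c
    rwa [H644.irrMap_image_conjUnion hH _ ⟨l, h1⟩] at h2
  have hx := H649.mem_normalizer_centralizer (hN x hy)
  obtain ⟨η', hη', hc⟩ := hs.2 η hη
  have ho' : Ov (cm π Q) η' (H649.irrMap (H649.conjAut _ x hx) ζ) := by
    unfold Ov at ho ⊢
    rwa [← Fintype.sum_equiv (H649.conjAut _ x hx).toEquiv _ _ fun d => ?_]
    change _ = η'.1 (cm π Q (H649.conjAut _ x hx d)) * (H649.irrMap (H649.conjAut _ x hx) ζ).1 (H649.conjAut _ x hx d)⁻¹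
    rw [← map_inv, H649.irrMap_apply', cm_conj π Q hx hs.1, hc (cm π Q d) _ rfl]
  obtain ⟨n, ζ', h1, h2⟩ : H649.irrMap (H649.conjAut _ x hx) ζ ∈ H644.conjUnion _ _ hH (blockOf M ζ.1) := mem_of_red (M := M) (by
    rw [← om_ps ho' a4 (isClassFunction_blockCoeff _), om_same he.1.2 hη' hη a4
      (ps_loc _ (H644.memLocalRing_blockCoeff hM (H644.isUnion_conjUnion hH hf))), om_ps ho a4 (isClassFunction_blockCoeff _),
      om_mem (H644.subset_conjUnion hH _ (mem_blockOf_self ζ)), redC_one])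
  have ht : (n : L)⁻¹ * x ∈ normalizer (Q : Set L) := mul_mem (inv_mem (hC n n.2)) (hN x hy)
  have ht' := H649.mem_normalizer_centralizer ht
  have a5 : (n : L)⁻¹ * x ∈ H644.pairStab M Q (blockOf M ζ.1) := (H644.mem_pairStab_iff_stabilizesBlock hM hf).2 ⟨ht,
    (H649.stabilizesBlock_iff hf _).2 ⟨ht', isPBlock_eq_of_mem (H649.isPBlock_blkMap hf) hf
      (H649.irrMap_mem_blkMap.2 (mem_blockOf_self ζ)) (by
        refine Set.mem_of_eq_of_mem (Subtype.ext (funext fun c => Eq.symm ?_)) h1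
        rw [← H644.irrMap_apply_map (H644.cjE (n : L) _ _ (H644.mem_iff_conj_mem_of_mem_normalizer (hH n.2))) ζ' c, h2]
        refine congrArg ζ.1 (Subtype.ext ?_)
        change x⁻¹ * (n * c * (n : L)⁻¹) * x = ((n : L)⁻¹ * x)⁻¹ * c * ((n : L)⁻¹ * x)
        group)⟩⟩
  obtain ⟨k, r, -, -, b1, b2, -⟩ := PowerMap.exists_exponent p L 0
  obtain ⟨b3, b4⟩ := (H644.mem_pairStab_iff_stabilizesBlock hM hf).1 (pow_mem a5 (p ^ k))
  have b5 := (cm π Q ⟨_, hB.2 Q _ a3 _ b3 b4 fun h0 => b1 (h0.trans (orderOf_dvd_of_pow_eq_one (by rw [← pow_mul, b2])))⟩).2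
  have b6 : ∀ u : normalizer ((Q.map π : Subgroup K) : Set K), (Q.map π).normalizerMonoidHom u = 1 ↔
      (u : K) ∈ centralizer ((Q.map π : Subgroup K) : Set K) := fun u =>
    MonoidHom.mem_ker.symm.trans (by rw [normalizerMonoidHom_ker, mem_subgroupOf])
  have b7 := (b6 (((⟨π n, centralizer_le_normalizer _ n.2⟩ : normalizer _)⁻¹ * ⟨π x, hy⟩) ^ p ^ k)).2 (by
    rw [coe_pow, coe_mul, coe_inv, ← map_inv, ← map_mul, ← map_pow]
    exact b5)
  rw [map_pow, map_mul, map_inv, (b6 ⟨π n, _⟩).2 n.2, inv_one, one_mul] at b7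
  have b8 := pow_gcd_eq_one.2 ⟨b7, show _ ^ orderOf (π x) = 1 by
    rw [← map_pow, show (⟨π x, hy⟩ : normalizer _) ^ orderOf (π x) = 1 from Subtype.ext (pow_orderOf_eq_one _), map_one]⟩
  rw [(Nat.Coprime.pow_left k (hp.out.coprime_iff_not_dvd.2 hr)).gcd_eq_one, pow_one] at b8
  exact (b6 _).1 b8

end Cfsg.Agent.OM.Gen.CovT
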