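import Cfsg.Agent.OM.Red.Basic
import Cfsg.Agent.OM.Red.CompA
import Cfsg.Agent.OM.Red.Gal
import Cfsg.Agent.TID.Red.Basic
import Cfsg.Agent.KZ.Lie.DGen
import Cfsg.Agent.H112.Clif.Brauer
import Cfsg.Agent.H666.Clif.TwistIBr
import Cfsg.Agent.CharactersDeep.ElemExt
import Cfsg.Agent.H597.Degrees
import Cfsg.Agent.Blocks.Over
import Cfsg.Agent.Characters.GaloisIrr
import Cfsg.Agent.S4432

/-!
# OM (S4894): Clifford theory for an abelian quotient of order prime to `p` (helper8)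

* `Ab`, `Fx` : the situation; `Ab.bt` : twists of Brauer characters;
* `Ab.low` : the constituents of a lift which is determined by its reduction among its twists are lifts with different
  reductions; `Ab.pw_up` : rationality goes up.
-/

set_option autoImplicit false
set_option linter.unusedSectionVars false

namespace Cfsg.Agent.OM.Gen.Cov

open Cfsg Subgroup Cfsg.Agent.H657 Cfsg.Agent.Characters.Core Cfsg.Agent.TID.Red Cfsg.Agent.H592.Transport
open Cfsg.Agent.H666.Clif (tl tl_apply tl_inv_tl sameBlock_tl exists_tw)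

variable {p : ℕ} {M : Ideal AlgInt} {V : ValuationSubring ℂ} {X G : Type} [Group X] [Group G]

theorem normal_of_ab {N : Subgroup G} (h : ∀ x y : G, x * y * x⁻¹ * y⁻¹ ∈ N) : N.Normal := ⟨fun n hn g => by
  have h1 := mul_mem (h g n) hn
  rwa [inv_mul_cancel_right] at h1⟩

/-- an embedding with an abelian quotient of order prime to `p` -/
structure Ab (p : ℕ) (ι : X →* G) : Prop where
  inj : Function.Injective ι
  ab : ∀ x y : G, x * y * x⁻¹ * y⁻¹ ∈ ι.range
  idx : ¬ p ∣ ι.range.index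

/-- a twist which fixes the reduction fixes the character -/
def Fx (p : ℕ) (ι : X →* G) (χ : G → ℂ) : Prop :=
  ∀ l : G →* ℂˣ, (∀ x, l (ι x) = 1) → (∀ g, IsPRegular p g → l g * χ g = χ g) → ∀ g, l g * χ g = χ g

variable {ι : X →* G}

theorem exists_cj (hι : Function.Injective ι) [ι.range.Normal] :
    ∃ a : G → MulAut X, ∀ g x, ι (a g x) = g * ι x * g⁻¹ :=
  ⟨fun g => ((MonoidHom.ofInjective hι).trans (MulAut.conjNormal g)).trans (MonoidHom.ofInjective hι).symm,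
    fun _ _ => MonoidHom.apply_ofInjective_symm hι _⟩

variable [Finite X] [Finite G]

theorem ov_rng (hι : Function.Injective ι) {χ : G → ℂ} {θ : IrrCharacter X} :
    Ov ι.range.subtype χ (tr (MonoidHom.ofInjective hι).symm θ : ι.range → ℂ) ↔ Ov ι χ θ :=
  ov_src_iff _ (fun a => (MonoidHom.apply_ofInjective_symm hι a).symm) _ _

theorem exists_mid {Y : Type} [Group Y] {ι₂ : G →* Y} {j : X →* Y} (hj : ∀ k, j k = ι₂ (ι k)) {χ : Y → ℂ}
    (hχ : IsClassFunction Y χ) {θ : X → ℂ} (h : Ov j χ θ) :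
    ∃ ψ : IrrCharacter G, Ov ι₂ χ (ψ : G → ℂ) ∧ Ov ι (ψ : G → ℂ) θ := by
  let _ := Fintype.ofFinite X
  let _ := Fintype.ofFinite G
  have := finite_irr (G := G)
  let _ := Fintype.ofFinite (IrrCharacter G)
  by_contra h1
  have h2 := classFunction_eq_sum (f := fun x => χ (ι₂ x)) fun g x => by
    simp only [map_mul, map_inv]
    exact hχ _ _
  refine (ov_iff _ _ _).1 h ?_
  rw [show (fun k => χ (j k)) = ∑ ψ : IrrCharacter G, classInner (fun x => χ (ι₂ x)) (ψ : G → ℂ) •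
    fun k => (ψ : G → ℂ) (ι k) from funext fun k => by
      rw [hj, congrFun h2 (ι k), Finset.sum_apply, Finset.sum_apply]
      rfl, classInner_sum_left]
  refine Finset.sum_eq_zero fun ψ _ => ?_
  rw [classInner_smul_left]
  by_cases h3 : classInner (fun x => χ (ι₂ x)) (ψ : G → ℂ) = 0
  · rw [h3, zero_mul]
  · rw [not_not.1 (mt (ov_iff _ _ _).2 fun h4 => h1 ⟨ψ, (ov_iff _ _ _).2 h3, h4⟩), mul_zero]

/-- the list of the constituents -/
theorem exists_lst (ι : X →* G) {χ : G → ℂ} (hχ : IsCharacter G χ) : ∃ (m : ℕ) (η : Fin m → IrrCharacter X),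
    (∀ x, χ (ι x) = ∑ l, (η l : X → ℂ) x) ∧ ∀ θ : IrrCharacter X, Ov ι χ θ ↔ ∃ l, η l = θ := by
  classical
  let _ := Fintype.ofFinite X
  have := finite_irr (G := X)
  let _ := Fintype.ofFinite (IrrCharacter X)
  obtain ⟨n, hn⟩ := exists_nat_comb (isCharacter_comp' ι hχ)
  let e := (Fintype.equivFin (Σ ψ : IrrCharacter X, Fin (n ψ))).symm
  refine ⟨_, fun l => (e l).1, fun x => ?_, fun θ => ?_⟩
  · rw [e.sum_comp fun s => (s.1 : X → ℂ) x, Fintype.sum_sigma, congrFun hn x, Finset.sum_apply]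
    exact Finset.sum_congr rfl fun ψ _ => by simp
  · rw [ov_iff, hn, classInner_sum_left, Finset.sum_eq_single θ (fun ψ _ h => by
      rw [← Nat.cast_smul_eq_nsmul ℂ, classInner_smul_left, classInner_irr_ne ψ.2 θ.2 fun e => h (Subtype.ext e),
        mul_zero]) (fun h => absurd (Finset.mem_univ _) h), ← Nat.cast_smul_eq_nsmul ℂ, classInner_smul_left,
      classInner_irr_self θ.2, mul_one, Nat.cast_ne_zero]
    exact ⟨fun h => ⟨e.symm ⟨θ, ⟨0, Nat.pos_of_ne_zero h⟩⟩, congrArg Sigma.fst (e.apply_symm_apply _)⟩,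
      fun ⟨l, hl⟩ => hl ▸ (e l).2.pos.ne'⟩

theorem ov_self {χ : G → ℂ} {θ : IrrCharacter X} (h : ∀ x, χ (ι x) = (θ : X → ℂ) x) (ψ : IrrCharacter X) :
    Ov ι χ ψ ↔ ψ = θ := by
  classical
  let _ := Fintype.ofFinite X
  rw [ov_iff, funext h, classInner_irr θ.2 ψ.2]
  exact ⟨fun h1 => Subtype.ext (by by_contra h2; exact h1 (if_neg (Ne.symm h2))), fun e => by simp [e]⟩

theorem ov_tl {χ : IrrCharacter G} {θ : IrrCharacter X} (h : Ov ι χ θ) {l : G →* ℂˣ} {m : X →* ℂˣ}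
    (hl : ∀ x, l (ι x) = m x) : Ov ι (tl l χ) (tl m θ) := by
  obtain ⟨n, η, h1, h2⟩ := exists_lst ι (isIrr_isCharacter χ.2)
  obtain ⟨k, rfl⟩ := (h2 θ).1 h
  let _ := Fintype.ofFinite X
  have h3 : (fun x => (tl l χ : G → ℂ) (ι x)) = ∑ k, (tl m (η k) : X → ℂ) := funext fun x => by
    rw [tl_apply, h1, hl, Finset.mul_sum, Finset.sum_apply]
    rfl
  rw [ov_iff, h3, classInner_sum_left]
  choose c hc using fun j => classInner_isNat (isIrr_isCharacter (tl m (η j)).2) (isIrr_isCharacter (tl m (η k)).2)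
  rw [Finset.sum_congr rfl fun j _ => hc j, ← Nat.cast_sum, Nat.cast_ne_zero]
  intro h4
  have h5 := hc k
  rw [classInner_irr_self (tl m (η k)).2, Finset.sum_eq_zero_iff.1 h4 k (Finset.mem_univ k), Nat.cast_zero] at h5
  exact one_ne_zero h5

theorem ov_pow {χ : G → ℂ} {θ : X → ℂ} (h : Ov ι χ θ) {k : ℕ} (hk : k.Coprime (Nat.card X)) :
    Ov ι (fun g => χ (g ^ k)) fun x => θ (x ^ k) := by
  let _ := Fintype.ofFinite X
  rw [ov_iff, classInner_def] at h ⊢
  simp only [← map_pow]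
  exact (powCoprime hk.symm).sum_comp (fun x => χ (ι x) * (starRingEnd ℂ) (θ x)) ▸ h

/-- the constituents are conjugate -/
theorem ov_conj (hι : Function.Injective ι) [ι.range.Normal] {χ : IrrCharacter G} {θ θ' : IrrCharacter X}
    (h : Ov ι χ θ) (h' : Ov ι χ θ') : ∃ α : MulAut X, ∀ x, (θ' : X → ℂ) x = (θ : X → ℂ) (α x) := by
  let _ := Fintype.ofFinite G
  let _ := Fintype.ofFinite ι.range
  obtain ⟨g, hg⟩ := Characters.Clifford.exists_conj_of_constituents ι.range χ.2 (tr _ θ).2 (tr _ θ').2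
    ((ov_rng hι).2 h) ((ov_rng hι).2 h')
  refine ⟨((MonoidHom.ofInjective hι).trans (MulAut.conjNormal g)).trans (MonoidHom.ofInjective hι).symm, fun x => ?_⟩
  have h1 := congrFun hg (MonoidHom.ofInjective hι x)
  rwa [tr_apply, MulEquiv.symm_apply_apply] at h1

theorem ov_deg (hι : Function.Injective ι) [ι.range.Normal] {χ : IrrCharacter G} {θ : IrrCharacter X}
    (h : Ov ι χ θ) : ∃ c : ℕ, charDegree (χ : G → ℂ) = charDegree (θ : X → ℂ) * c ∧ c ∣ ι.range.index := by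
  let _ := Fintype.ofFinite G
  let _ := Fintype.ofFinite ι.range
  obtain ⟨c, h1, h2⟩ := H597.Degrees.degree_over ι.range χ.2 (tr _ θ).2 ((ov_rng hι).2 h)
  exact ⟨c, by rw [h1, charDegree_tr], h2⟩

theorem ov_cov [Fact p.Prime] (hM : IsPModular p M) (hι : Function.Injective ι) [ι.range.Normal]
    {B : Set (IrrCharacter G)} (hB : IsPBlock M B) {b : Set (IrrCharacter X)} (hb : IsPBlock M b) {χ : IrrCharacter G}
    {θ ψ : IrrCharacter X} (hχ : χ ∈ B) (hθ : θ ∈ b) (h : Ov ι χ θ) (hψ : ψ ∈ b) : ∃ ξ ∈ B, Ov ι (ξ : G → ℂ) ψ := by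
  let _ := Fintype.ofFinite G
  let _ := Fintype.ofFinite ι.range
  have := hM.2.1.isPrime
  obtain ⟨ξ, h1, h2⟩ := S4432.result p M hM ι.range B hB _ (isPBlock_trSet (MonoidHom.ofInjective hι).symm hb)
    ⟨χ, hχ, _, tr_mem_trSet.2 hθ, (ov_rng hι).2 h⟩ _ (tr_mem_trSet.2 hψ)
  exact ⟨ξ, h1, (ov_rng hι).1 h2⟩

theorem ov_up (hι : Function.Injective ι) (θ : IrrCharacter X) : ∃ χ : IrrCharacter G, Ov ι (χ : G → ℂ) θ := by
  let _ := Fintype.ofFinite ι.range
  exact (Blocks.Over.exists_over ι.range (tr _ θ)).imp fun _ h => (ov_rng hι).1 h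

/-- characters over characters with the same reduction -/
theorem ov_prop (hι : Function.Injective ι) [ι.range.Normal] {χ χ' : IrrCharacter G} {θ θ' : IrrCharacter X}
    (h : Ov ι χ θ) (h' : Ov ι χ' θ') (hp : p.Prime) (e : ∀ x, IsPRegular p x → (θ' : X → ℂ) x = (θ : X → ℂ) x) {x : X}
    (hx : IsPRegular p x) : (χ' : G → ℂ) (ι x) = (χ' : G → ℂ) 1 / (χ : G → ℂ) 1 * (χ : G → ℂ) (ι x) := by
  let _ := Fintype.ofFinite G
  let _ := Fintype.ofFinite ι.range
  have h1 := Cp.avg ι.range χ (tr _ θ).2 ((ov_rng hι).2 h) ⟨ι x, x, rfl⟩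
  have h2 := Cp.avg ι.range χ' (tr _ θ').2 ((ov_rng hι).2 h') ⟨ι x, x, rfl⟩
  have h3 : ∀ n : ι.range, IsPRegular p n → (tr (MonoidHom.ofInjective hι).symm θ' : ι.range → ℂ) n =
      (tr (MonoidHom.ofInjective hι).symm θ : ι.range → ℂ) n := fun n hn =>
    e _ (reg_map (MonoidHom.ofInjective hι).symm.toMonoidHom hn)
  have h4 := mul_left_cancel₀ (Nat.cast_ne_zero.2 Fintype.card_ne_zero) (h2.trans ((Finset.sum_congr rfl fun g _ =>
    congrArg₂ (· / ·) (h3 _ (reg_map (MulAut.conjNormal g : MulAut ι.range).toMonoidHom (reg_map ι.rangeRestrict hx)))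
      (h3 1 (reg_one hp))).trans h1.symm))
  rw [div_eq_iff (isIrr_apply_one_ne_zero χ'.2)] at h4
  rw [h4]
  ring

namespace Ab

theorem normal (h : Ab p ι) : ι.range.Normal := normal_of_ab h.ab

theorem twist (h : Ab p ι) {χ χ' : IrrCharacter G} {θ : IrrCharacter X} (h1 : Ov ι χ θ) (h2 : Ov ι χ' θ) :
    ∃ l : G →* ℂˣ, (∀ x, l (ι x) = 1) ∧ ∀ g, (χ' : G → ℂ) g = l g * (χ : G → ℂ) g := by
  have := h.normal
  obtain ⟨l, h3, h4⟩ := KZ.DGen.twist h.ab ((ov_rng h.inj).2 h1) ((ov_rng h.inj).2 h2)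
  exact ⟨l, fun x => h3 _ ⟨x, rfl⟩, h4⟩

/-- **twists of Brauer characters** -/
theorem bt (h : Ab p ι) (hM : IsPModular p M) (hV : Above M V) {χ χ' : IrrCharacter G} {θ θ' : IrrCharacter X}
    (hl : Lf p V (χ : G → ℂ)) (h1 : Ov ι χ θ) (h2 : Ov ι χ' θ')
    (e : ∀ x, IsPRegular p x → (θ' : X → ℂ) x = (θ : X → ℂ) x) {m : ℕ} {idx : Fin m → IBr V G}
    (hd : ∀ g, IsPRegular p g → (χ' : G → ℂ) g = ∑ k, phi p (idx k) g) (k : Fin m) :
    ∃ l : G →* ℂˣ, (∀ x, l (ι x) = 1) ∧ ∀ g, IsPRegular p g → phi p (idx k) g = l g * (χ : G → ℂ) g := by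
  have := h.normal
  obtain ⟨i, hi⟩ := hl
  obtain ⟨Λ, h3, -, h4, h5⟩ := CharactersDeep.AbelianQuotient.exists_linear_dual ι.range h.ab
  choose T hT using exists_tw (G := G) hM hV
  have h6 : InS p (Set.range fun l : Λ => T l i) fun g => ∑ s : Λ × Fin m, phi p (T s.1 (idx s.2)) g :=
    inS_range _ ((χ' : G → ℂ) 1 / (χ : G → ℂ) 1) fun g hg => by
      simp only [hT, Fintype.sum_prod_type, ← Finset.mul_sum, ← Finset.sum_mul]
      rw [← hd g hg, ← hi g hg, Finset.sum_coe_sort Λ fun l => (l g : ℂ)]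
      by_cases h7 : g ∈ ι.range
      · obtain ⟨x, rfl⟩ := h7
        rw [ov_prop h.inj h1 h2 hM.1 e ((reg_map_iff ι h.inj).1 hg), mul_left_comm]
      · rw [h5 g h7, zero_mul, zero_mul, mul_zero]
  obtain ⟨l, hl⟩ := supp hM hV h6 (⟨1, (h3 1).2 fun _ _ => rfl⟩, k)
  refine ⟨l, fun x => (h3 l).1 l.2 _ ⟨x, rfl⟩, fun g hg => ?_⟩
  have h7 := congrArg (fun j => phi p j g) hl
  simp only [hT, MonoidHom.one_apply, Units.val_one, one_mul] at h7
  rw [← h7, hi g hg]

theorem bt_lf (h : Ab p ι) (hM : IsPModular p M) (hV : Above M V) {χ χ' : IrrCharacter G} {θ θ' : IrrCharacter X}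
    (hl : Lf p V (χ : G → ℂ)) (hl' : Lf p V (χ' : G → ℂ)) (h1 : Ov ι χ θ) (h2 : Ov ι χ' θ')
    (e : ∀ x, IsPRegular p x → (θ' : X → ℂ) x = (θ : X → ℂ) x) :
    ∃ l : G →* ℂˣ, (∀ x, l (ι x) = 1) ∧ ∀ g, IsPRegular p g → (χ' : G → ℂ) g = l g * (χ : G → ℂ) g := by
  obtain ⟨j, hj⟩ := hl'
  obtain ⟨l, h3, h4⟩ := h.bt hM hV hl h1 h2 e (idx := fun _ : Fin 1 => j)
    (fun g hg => by rw [hj g hg, Fin.sum_univ_one]) 0
  exact ⟨l, h3, fun g hg => (hj g hg).trans (h4 g hg)⟩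

theorem bt_blk (h : Ab p ι) (hM : IsPModular p M) (hV : Above M V) {χ χ' : IrrCharacter G} {θ θ' : IrrCharacter X}
    (hl : Lf p V (χ : G → ℂ)) (h1 : Ov ι χ θ) (h2 : Ov ι χ' θ')
    (e : ∀ x, IsPRegular p x → (θ' : X → ℂ) x = (θ : X → ℂ) x) :
    ∃ l : G →* ℂˣ, (∀ x, l (ι x) = 1) ∧ SameBlock M (χ : G → ℂ) (tl l χ' : G → ℂ) := by
  obtain ⟨m, idx, h3, h4⟩ := exists_decomp hM hV χ'.2
  have hm : m ≠ 0 := by
    rintro rfl
    exact isIrr_apply_one_ne_zero χ'.2 (by rw [h4 1 (reg_one hM.1), Fin.sum_univ_zero])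
  obtain ⟨l, h5, h6⟩ := h.bt hM hV hl h1 h2 e h4 ⟨0, Nat.pos_of_ne_zero hm⟩
  refine ⟨l⁻¹, fun x => by rw [MonoidHom.inv_apply, h5, inv_one], ?_⟩
  have h7 := sameBlock_tl hM.2.1.isPrime l⁻¹ (under_sameBlock hM hV (tl l χ).2 χ'.2
    (Lf.under hM hV (tl l χ).2 fun g hg => (h6 g hg).symm) (h3 _))
  rwa [tl_inv_tl] at h7

end Ab

/-- a sum without multiplicities -/
theorem inj_of_sum (hM : IsPModular p M) (hV : Above M V) {κ : Type} [Fintype κ] {idx : κ → IBr V G}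
    {O : Finset (IBr V G)} (h : ∀ g, IsPRegular p g → ∑ s, phi p (idx s) g = ∑ j ∈ O, phi p j g) :
    Function.Injective idx ∧ Fintype.card κ = O.card := by
  classical
  have : Fact p.Prime := ⟨hM.1⟩
  have := hV.charP hM
  have := Fintype.ofFinite (IBr V G)
  have h1 := Fintype.linearIndependent_iff.1 (linearIndependent_phi (V := V) (G := G) (p := p))
    (fun j => ((Finset.univ.filter fun s => idx s = j).card : ℂ) - if j ∈ O then 1 else 0) (funext fun g => by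
      by_cases hg : IsPRegular p g
      · simp only [Finset.sum_apply, Pi.smul_apply, smul_eq_mul, sub_mul, Finset.sum_sub_distrib, ite_mul, one_mul,
          zero_mul, Finset.sum_ite_mem, Finset.univ_inter, Pi.zero_apply]
        rw [← h g hg, sub_eq_zero, ← Finset.sum_fiberwise Finset.univ idx]
        refine Finset.sum_congr rfl fun j _ => ?_
        rw [Finset.sum_congr rfl (g := fun _ => phi p j g) fun s hs => by rw [(Finset.mem_filter.1 hs).2],
          Finset.sum_const, nsmul_eq_mul]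
      · simp [phi_of_not _ hg])
  have h2 : ∀ j, (Finset.univ.filter fun s => idx s = j).card = if j ∈ O then 1 else 0 := fun j => by
    have h2 := sub_eq_zero.1 (h1 j)
    split_ifs at h2 ⊢ <;> exact_mod_cast h2
  refine ⟨fun s t e => Finset.card_le_one.1 (show (Finset.univ.filter fun s => idx s = idx t).card ≤ 1 by
    rw [h2]; split_ifs <;> simp) s (by simp [e]) t (by simp), ?_⟩
  rw [← Finset.card_univ, Finset.card_eq_sum_card_fiberwise (f := idx) (t := Finset.univ) fun _ _ => Finset.mem_univ _]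
  simp [h2]

/-- the constituents are lifts with different reductions -/
def Low (p : ℕ) (V : ValuationSubring ℂ) (ι : X →* G) (χ : G → ℂ) : Prop :=
  (∀ θ : IrrCharacter X, Ov ι χ θ → Lf p V (θ : X → ℂ)) ∧ ∀ θ θ' : IrrCharacter X, Ov ι χ θ → Ov ι χ θ' →
    (∀ x, IsPRegular p x → (θ' : X → ℂ) x = (θ : X → ℂ) x) → θ' = θ

/-- **cyclic quotient** -/
theorem cyc (hM : IsPModular p M) (hV : Above M V) {N : Subgroup G} [N.Normal] (h : Ab p N.subtype)
    (hc : IsCyclic (G ⧸ N)) {χ : IrrCharacter G} (hl : Lf p V (χ : G → ℂ)) (hf : Fx p N.subtype χ) :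
    Low p V N.subtype χ := by
  classical
  let _ := Fintype.ofFinite N
  obtain ⟨i, hi⟩ := hl
  obtain ⟨O, -, hO, -⟩ := H112.Clif.clifford_cyclic hM hV N hc i
  have h1 := H112.Clif.card_res hM hV N hc
    ((hM.1.coprime_iff_not_dvd.2 (show ¬ p ∣ N.index by simpa only [range_subtype] using h.idx)).symm) i O hO
  have h2 := KZ.DGen.norm_res (N := N) (by simpa only [range_subtype] using h.ab) χ
  rw [Nat.card_congr (Equiv.subtypeEquivRight (q := fun l : G →* ℂˣ => (∀ x ∈ N, l x = 1) ∧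
    (fun g => (l g : ℂ) * phi p i g) = phi p i) fun l => and_congr_right fun hl => ⟨fun e => funext fun g => by
      by_cases hg : IsPRegular p g
      · rw [← hi g hg, e]
      · rw [phi_of_not _ hg, mul_zero], fun e => hf l (fun x => hl x x.2) fun g hg => by
        rw [hi g hg]
        exact congrFun e g⟩), ← h1] at h2
  obtain ⟨m, η, h3, h4⟩ := exists_lst N.subtype (isIrr_isCharacter χ.2)
  choose n a ha using fun l => exists_dec hM hV (isIrr_isCharacter (η l).2)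
  have hn : ∀ l, n l ≠ 0 := fun l e => isIrr_apply_one_ne_zero (η l).2 (by
    have : IsEmpty (Fin (n l)) := by rw [e]; infer_instance
    rw [ha l 1 (reg_one hM.1), Fintype.sum_empty])
  obtain ⟨h5, h6⟩ := inj_of_sum hM hV (idx := fun s : Σ l, Fin (n l) => a s.1 s.2) (O := O) fun x hx => by
    rw [← hO x, Fintype.sum_sigma]
    exact ((Finset.sum_congr rfl fun l _ => (ha l x hx).symm).trans (h3 x).symm).trans (hi _ (reg_map N.subtype hx))
  have h7 : ∀ l l', (∀ x, IsPRegular p x → (η l' : N → ℂ) x = (η l : N → ℂ) x) → l' = l := fun l l' e => by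
    obtain ⟨k, hk⟩ := supp hM hV (idx := a l) (inS_range (a l') 1 fun x hx => by
      rw [one_mul, ← ha l x hx, ← ha l' x hx, e x hx]) (⟨0, Nat.pos_of_ne_zero (hn l)⟩ : Fin (n l))
    exact congrArg Sigma.fst (@h5 ⟨l', k⟩ ⟨l, _⟩ hk)
  have h8 : (fun x : N => (χ : G → ℂ) x) = ∑ l, (η l : N → ℂ) := funext fun x => (h3 x).trans (Finset.sum_apply _ _ _).symm
  rw [h8, classInner_sum_left, Finset.sum_congr rfl (g := fun _ => 1) fun l _ => by
    rw [classInner_sum_right, Finset.sum_eq_single l (fun k _ hk => classInner_irr_ne (η l).2 (η k).2 fun e =>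
      hk (h7 l k fun x _ => (congrFun e x).symm)) (fun h => absurd (Finset.mem_univ _) h), classInner_irr_self (η l).2],
    ← h6, Fintype.card_sigma] at h2
  have h9 : ∑ _l : Fin m, 1 = ∑ l, Fintype.card (Fin (n l)) := by exact_mod_cast h2
  refine ⟨fun θ hθ => ?_, fun θ θ' hθ hθ' e => ?_⟩
  · obtain ⟨l, rfl⟩ := (h4 θ).1 hθ
    exact lf_of_card ((Finset.sum_eq_sum_iff_of_le fun l _ => by
      rw [Fintype.card_fin]; exact Nat.pos_of_ne_zero (hn l)).1 h9 l (Finset.mem_univ l)).symm (ha l)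
  · obtain ⟨l, rfl⟩ := (h4 θ).1 hθ
    obtain ⟨l', rfl⟩ := (h4 θ').1 hθ'
    rw [h7 l l' e]

/-- linear characters which are trivial on the commutators extend -/
theorem exists_ext (K : Subgroup G) (c : K →* ℂˣ) (h : ∀ z : K, (z : G) ∈ commutator G → c z = 1) :
    ∃ μ : G →* ℂˣ, ∀ z : K, μ z = c z := by
  let f : K →* Abelianization G := Abelianization.of.comp K.subtype
  have hk : f.rangeRestrict.ker ≤ c.ker := fun z hz => by
    rw [MonoidHom.ker_rangeRestrict, MonoidHom.mem_ker] at hz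
    exact h z ((QuotientGroup.eq_one_iff _).1 hz)
  have : Finite (Abelianization G) := Finite.of_surjective _ (QuotientGroup.mk_surjective (s := commutator G))
  obtain ⟨μ, hμ⟩ := CharactersDeep.ElemExt.exists_ext_of_injective (A := Abelianization G) mul_comm f.range.subtype
    f.range.subtype_injective (f.rangeRestrict.liftOfSurjective f.rangeRestrict_surjective ⟨c, hk⟩)
  refine ⟨μ.comp Abelianization.of, fun z => ?_⟩
  have h4 := hμ (f.rangeRestrict z)
  rw [MonoidHom.liftOfRightInverse_comp_apply] at h4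
  exact h4

namespace Ab

theorem comm_le (h : Ab p ι) : commutator G ≤ ι.range := by
  rw [commutator_def, commutator_le]
  exact fun x _ y _ => h.ab x y

theorem idx_mul (N : Subgroup G) (hN : ∀ x, ι x ∈ N) : (ι.codRestrict N hN).range.index * N.index = ι.range.index := by
  rw [← relIndex_mul_index (show ι.range ≤ N by rintro _ ⟨x, rfl⟩; exact hN x)]
  congr 2
  ext y
  exact ⟨fun ⟨x, e⟩ => ⟨x, congrArg Subtype.val e⟩, fun ⟨x, e⟩ => ⟨x, Subtype.ext e⟩⟩

theorem bot (h : Ab p ι) (N : Subgroup G) (hN : ∀ x, ι x ∈ N) : Ab p (ι.codRestrict N hN) :=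
  ⟨(ι.injective_codRestrict _ _).2 h.inj, fun x y => (h.ab x y).imp fun _ e => Subtype.ext e,
    fun e => h.idx (idx_mul N hN ▸ e.mul_right _)⟩

theorem top (h : Ab p ι) (N : Subgroup G) (hN : ∀ x, ι x ∈ N) : Ab p N.subtype :=
  ⟨N.subtype_injective, fun x y => by
    obtain ⟨z, e⟩ := h.ab x y
    exact ⟨⟨_, hN z⟩, e⟩, fun e => h.idx (idx_mul N hN ▸ (N.range_subtype ▸ e).mul_left _)⟩

/-- **the constituents** -/
theorem low (hM : IsPModular p M) (hV : Above M V) (n : ℕ) : ∀ {G : Type} [Group G] [Finite G] {ι : X →* G}, Ab p ι →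
    ι.range.index = n → ∀ {χ : IrrCharacter G}, Lf p V (χ : G → ℂ) → Fx p ι χ → Low p V ι χ := by
  induction n using Nat.strong_induction_on with
  | _ n ih =>
  intro G _ _ ι h hn χ hl hf
  have := h.normal
  by_cases h1 : Function.Surjective ι
  · have h2 := ov_self (ι := ι) (θ := ⟨_, isIrr_comp ι h1 χ.2⟩) fun _ => rfl
    exact ⟨fun θ hθ => (h2 θ).1 hθ ▸ hl.comp ι h1, fun θ θ' hθ hθ' _ => ((h2 θ').1 hθ').trans ((h2 θ).1 hθ).symm⟩
  obtain ⟨l₀, h2, h3⟩ : ∃ l₀ : G →* ℂˣ, (∀ x, ι x ∈ l₀.ker) ∧ l₀.ker ≠ ⊤ := by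
    obtain ⟨g, hg⟩ := not_forall.1 h1
    obtain ⟨Λ, h3, h4, -, h5⟩ := CharactersDeep.AbelianQuotient.exists_linear_dual ι.range h.ab
    by_contra! h6
    have h7 := h5 g hg
    rw [Finset.sum_congr rfl (g := fun _ => 1) fun l hl => by
      rw [show l g = 1 from (h6 l fun x => (h3 l).1 hl _ ⟨x, rfl⟩).ge (mem_top g), Units.val_one], Finset.sum_const, h4,
      nsmul_one, Nat.cast_eq_zero] at h7
    exact index_ne_zero_of_finite h7
  have hc : IsCyclic (G ⧸ l₀.ker) := by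
    have : Finite l₀.range := Finite.of_surjective _ l₀.rangeRestrict_surjective
    exact isCyclic_of_surjective _ (QuotientGroup.quotientKerEquivRange l₀).symm.surjective
  have ht := h.top _ h2
  have hb := h.bot _ h2
  obtain ⟨h4, h5⟩ := cyc hM hV ht hc hl fun l hl => hf l fun x => hl ⟨_, h2 x⟩
  have h6 : ∀ η η' : IrrCharacter l₀.ker, Ov l₀.ker.subtype χ η → Ov l₀.ker.subtype χ η' → ∀ μ : l₀.ker →* ℂˣ,
      (∀ x, μ ⟨ι x, h2 x⟩ = 1) → (∀ y, IsPRegular p y → (η' : l₀.ker → ℂ) y = μ y * (η : l₀.ker → ℂ) y) →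
      η' = tl μ η := fun η η' k1 k2 μ k3 k4 => by
    obtain ⟨l, k5⟩ := exists_ext _ μ fun z hz => by
      obtain ⟨x, e⟩ := h.comm_le hz
      rw [← k3 x]
      exact congrArg μ (Subtype.ext e.symm)
    obtain ⟨j, hj⟩ := hl
    obtain ⟨j', hj'⟩ := exists_tw hM hV l j
    obtain ⟨ν, k6, k7⟩ := ht.bt_lf hM hV (χ := tl l χ) ⟨j', fun g hg => by rw [hj', tl_apply, hj g hg]⟩ ⟨j, hj⟩
      (ov_tl k1 k5) k2 k4
    have k8 := hf (ν * l) (fun x => by
      rw [MonoidHom.mul_apply, show ν (ι x) = 1 from k6 ⟨_, h2 x⟩, one_mul]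
      exact (k5 ⟨_, h2 x⟩).trans (k3 x)) fun g hg => by
      rw [MonoidHom.mul_apply, Units.val_mul, mul_assoc]
      exact (k7 g hg).symm
    refine h5 _ _ ?_ k2 k4
    have k9 := ov_tl k1 (l := ν * l) (m := μ) fun y => by rw [MonoidHom.mul_apply, k6, one_mul]; exact k5 y
    rwa [show tl (ν * l) χ = χ from Subtype.ext (funext k8)] at k9
  have h7 : ∀ η : IrrCharacter l₀.ker, Ov l₀.ker.subtype χ η → Low p V (ι.codRestrict _ h2) η := fun η hη =>
    ih _ (by
      rw [← hn, ← idx_mul _ h2]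
      exact lt_mul_of_one_lt_right (Nat.pos_of_ne_zero index_ne_zero_of_finite) (one_lt_index_of_ne_top h3)) hb rfl
      (h4 η hη) fun μ k1 k2 y => (congrFun (congrArg Subtype.val (h6 η η hη hη μ k1 fun y hy => (k2 y hy).symm)) y).symm
  have h8 := fun θ : IrrCharacter X => exists_mid (ι := ι.codRestrict _ h2) (ι₂ := l₀.ker.subtype) (j := ι) (θ := θ)
    (fun _ => rfl) (isIrr_isClassFunction χ.2)
  refine ⟨fun θ hθ => ?_, fun θ θ' hθ hθ' e => ?_⟩
  · obtain ⟨η, k1, k2⟩ := h8 θ hθ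
    exact (h7 η k1).1 θ k2
  · obtain ⟨η, k1, k2⟩ := h8 θ hθ
    obtain ⟨η', k3, k4⟩ := h8 θ' hθ'
    obtain ⟨μ, k5, k6⟩ := hb.bt_lf hM hV (h4 η k1) (h4 η' k3) k2 k4 e
    refine (h7 η k1).2 θ θ' k2 (Ov.congr (fun x => ?_) k4) e
    rw [h6 η η' k1 k3 μ k5 k6, tl_apply, k5, Units.val_one, one_mul]

theorem exists_reg (h : Ab p ι) (hp : p.Prime) (g : G) : ∃ y x, IsPRegular p y ∧ g = y * ι x := by
  have := h.normal
  obtain ⟨y, h1, h2⟩ := exists_reg_lift hp (QuotientGroup.mk' ι.range) (QuotientGroup.mk'_surjective _) (g := g)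
    fun e => h.idx (e.trans (orderOf_dvd_natCard _))
  obtain ⟨x, e⟩ := QuotientGroup.eq.1 h2
  exact ⟨y, x, h1, by rw [e, mul_inv_cancel_left]⟩

/-- **rationality goes up** -/
theorem pw_up (h : Ab p ι) (hM : IsPModular p M) (hV : Above M V) {k : ℕ} (h1 : k.Coprime (Nat.card G))
    (h2 : ∀ g : G, IsPRegular p g → g ^ k = g) {χ : IrrCharacter G} {θ : IrrCharacter X} (h3 : Ov ι χ θ)
    (hl : Lf p V (θ : X → ℂ)) (h4 : ∀ x, (θ : X → ℂ) (x ^ k) = (θ : X → ℂ) x) (g : G) :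
    (χ : G → ℂ) (g ^ k) = (χ : G → ℂ) g := by
  have := h.normal
  let N : Subgroup G := ι.range ⊔ zpowers g
  have hN : ∀ x, ι x ∈ N := fun x => mem_sup_left ⟨x, rfl⟩
  have hb := h.bot N hN
  have := hb.normal
  let y : N := ⟨g, mem_sup_right (mem_zpowers g)⟩
  obtain ⟨m, η, h5, h6⟩ := exists_lst N.subtype (isIrr_isCharacter χ.2)
  refine (h5 (y ^ k)).trans ((Finset.sum_congr rfl fun l _ => ?_).trans (h5 y).symm)
  obtain ⟨ψ, h7⟩ := exists_ov (ι.codRestrict N hN) (η l).2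
  obtain ⟨α, hα⟩ := ov_conj h.inj h3 (Ov.trans (ι₂ := N.subtype) (fun _ => rfl) (isIrr_isCharacter χ.2) (η l).2 ψ.2
    ((h6 _).2 ⟨l, rfl⟩) h7)
  have h8 : ∀ x, (ψ : X → ℂ) (x ^ k) = (ψ : X → ℂ) x := fun x => by rw [hα, hα, map_pow, h4]
  have h9 : Lf p V (ψ : X → ℂ) := (hl.comp α.toMonoidHom α.surjective).congr fun x _ => hα x
  let ξ : IrrCharacter N := ⟨fun z => (η l : N → ℂ) (z ^ k),
    Characters.GaloisIrr.isIrr_pow (h1.coprime_dvd_right (card_subgroup_dvd_card N)) (η l).2⟩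
  have h10 : Ov (ι.codRestrict N hN) ξ ψ := funext h8 ▸ ov_pow h7
    (h1.coprime_dvd_right (card_dvd_of_injective ι h.inj))
  obtain ⟨μ, h11, h12⟩ := hb.twist h7 h10
  by_cases h13 : (η l : N → ℂ) y = 0
  · exact (h12 y).trans (by rw [h13, mul_zero])
  obtain ⟨φ, hφ⟩ := KZ.DGen.exists_res_of hb.ab (χ := η l) fun ν k1 k2 => MonoidHom.ext fun z => by
    obtain ⟨_, ⟨x, rfl⟩, _, ⟨j, rfl⟩, e⟩ := mem_sup_of_normal_left.1 z.2
    rw [show z = ι.codRestrict N hN x * y ^ j from Subtype.ext e.symm, map_mul, map_zpow, k1 _ ⟨x, rfl⟩,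
      show ν y = 1 from Units.ext ((mul_eq_right₀ h13).1 (k2 y)), one_zpow, one_mul, MonoidHom.one_apply]
  have h14 := (ov_self (θ := tr (MonoidHom.ofInjective hb.inj) φ) (fun x => hφ ⟨_, x, rfl⟩) ψ).1 h7
  obtain ⟨z, k1, k2, k3⟩ := exists_reg_ne boxGal hM hV _ hb.inj (isIrr_isCharacter (η l).2)
    (h9.congr fun x _ => (hφ ⟨_, x, rfl⟩).trans (by rw [h14]; rfl)) (y : N ⧸ (ι.codRestrict N hN).range)
    fun e => hb.idx (e.trans (orderOf_dvd_natCard _))
  obtain ⟨x, e⟩ := QuotientGroup.eq.1 k2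
  have k4 := h12 z
  rw [show (ξ : N → ℂ) z = (η l : N → ℂ) z from congrArg (η l : N → ℂ) (Subtype.ext (h2 z (reg_map N.subtype k1))),
    eq_comm, mul_eq_right₀ k3] at k4
  refine (h12 y).trans ?_
  rw [show μ y = μ z by rw [← mul_inv_cancel_left z y, ← e, map_mul, h11, mul_one], k4, one_mul]

end Ab

end Cfsg.Agent.OM.Gen.Cov
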