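import Cfsg.Agent.OM.Gen.Ext
import Cfsg.Agent.OM.Rows
import Cfsg.Agent.H775.S4790.Quot
import Cfsg.Agent.Characters.GaloisIrr

/-!
# OM (S4894): nilpotent blocks and principal blocks (helper8)

* `nil_rat` : for odd `p` the invariant `p`-rational member; `boxNil : BoxNil`, `boxPri : BoxPri`.
-/

set_option autoImplicit false
set_option linter.unusedSectionVars false

namespace Cfsg.Agent.OM.Gen

open Cfsg Subgroup Cfsg.Agent.H649 Cfsg.Agent.H651 Cfsg.Agent.H652 Cfsg.Agent.Characters.Core Cfsg.Agent.Blocks.Basic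

variable {p : ℕ} {M : Ideal AlgInt} {X : Type} [Group X]

/-- the stabilizer of a set of characters -/
def stb (b : Set (IrrCharacter X)) : Subgroup (MulAut X) where
  carrier := {α | blkMap α b = b}
  one_mem' := blkMap_refl b
  mul_mem' := fun {α β} h1 h2 => (blkMap_blkMap β α b).symm.trans ((congrArg (blkMap α) h2).trans h1)
  inv_mem' := fun {α} h => (congrArg (blkMap α.symm) h.symm).trans (blkMap_symm_blkMap α b)

variable [Finite X] [Fact p.Prime] {b : Set (IrrCharacter X)}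

theorem mem_of_reg (hM : IsPModular p M) (hb : IsPBlock M b) {θ ψ : IrrCharacter X} (hθ : θ ∈ b)
    (h : ∀ x, IsPRegular p x → (ψ : X → ℂ) x = (θ : X → ℂ) x) : ψ ∈ b := by
  have := hM.2.1.isPrime
  exact isPBlock_mem_of_sameBlock hb hθ (sameBlock_of_prop hM θ.2 ψ.2 fun x hx => by
    rw [h x hx, h 1 (reg_one hM.1)])

theorem mem_stb (hM : IsPModular p M) (hb : IsPBlock M b) {θ : IrrCharacter X} (hθ : θ ∈ b) {α : MulAut X}
    (h : ∀ x, IsPRegular p x → (θ : X → ℂ) (α x) = (θ : X → ℂ) x) : α ∈ stb b := by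
  have := hM.2.1.isPrime
  refine isPBlock_eq_of_mem (isPBlock_blkMap hb) hb (irrMap_mem_blkMap.2 hθ) (mem_of_reg hM hb hθ fun x hx => ?_)
  rw [irrMap_apply, ← h _ ((isPRegular_map_iff α.symm p x).2 hx), α.apply_symm_apply]

/-- the exponents which fix the `p`-regular elements -/
structure Adm (p : ℕ) (X : Type) [Group X] (k : ℕ) : Prop where
  cop : k.Coprime (Nat.card X)
  reg : ∀ x : X, ¬ p ∣ orderOf x → x ^ k = x

theorem adm_of {n m k : ℕ} (h : Nat.card X = p ^ n * m) (h1 : k.Coprime (Nat.card X)) (h2 : k ≡ 1 [MOD m]) :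
    Adm p X k := ⟨h1, fun x hx => by
  have h3 : orderOf x ∣ m := (((Fact.out : p.Prime).coprime_iff_not_dvd.2 hx).symm.pow_right n).dvd_of_dvd_mul_left
    (h ▸ orderOf_dvd_natCard x)
  rw [pow_eq_pow_of_modEq (h2.of_dvd h3) (pow_orderOf_eq_one x), pow_one]⟩

/-- the power map -/
def Adm.pw {k : ℕ} (h : Adm p X k) (θ : IrrCharacter X) : IrrCharacter X :=
  ⟨fun g => (θ : X → ℂ) (g ^ k), Characters.GaloisIrr.isIrr_pow h.cop θ.2⟩

theorem Adm.mn {k : ℕ} (h : Adm p X k) (hM : IsPModular p M) (hb : IsPBlock M b) {θ : IrrCharacter X} (hθ : Mn b θ) :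
    Mn b (h.pw θ) :=
  ⟨mem_of_reg hM hb hθ.1 fun x hx => congrArg (θ : X → ℂ) (h.reg x hx), fun ψ hψ => by
    rw [ODD.Red.charDegree_congr (χ := (h.pw θ : X → ℂ)) (ψ := (θ : X → ℂ)) (congrArg (θ : X → ℂ) (one_pow k))]
    exact hθ.2 ψ hψ⟩

theorem Adm.chiE {k : ℕ} (h : Adm p X k) (hM : IsPModular p M) (θ : IrrCharacter X) {u s : X} {c : BrauerPairIdx X}
    (hs : Sec p M u c s) : chiE c (h.pw θ : X → ℂ) (u * s) = chiE c (θ : X → ℂ) (u ^ k * s) :=
  chiE_congr hM hs (pow_mem hs.mem k) (isIrr_isClassFunction (h.pw θ).2) (isIrr_isClassFunction θ.2) fun t h1 h2 =>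
    congrArg (θ : X → ℂ) ((h1.mul_pow k).trans (by rw [h.reg t h2]))

theorem Nd.chiE_pw {a : BrauerPairIdx X} (D : Nd p M b a) {k : ℕ} (h : Adm p X k) {θ ψ : IrrCharacter X}
    {l : a.1 →* ℂˣ} (hl : (ψ : X → ℂ) = st p M a (fun v => l v) θ) {u s x : X} {c : BrauerPairIdx X}
    (hs : Sec p M u c s) (hx : LEIdx p M (conjIdx x c) a) (hu : x * u * x⁻¹ ∈ a.1) :
    chiE c (h.pw ψ : X → ℂ) (u * s) = (l ⟨_, hu⟩ : ℂ) ^ k * chiE c (h.pw θ : X → ℂ) (u * s) := by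
  have := Fintype.ofFinite X
  rw [h.chiE D.hM ψ hs, h.chiE D.hM θ hs, hl, D.chiE_st (isCharacter_isClassFunction (Characters.Linear.isCharacter_hom l))
    (isIrr_isClassFunction θ.2) (hs.of_eq (CtrOne.zpowers_pow_eq (h.cop.coprime_dvd_right (orderOf_dvd_natCard u)))) hx
    (Nd.mem_of_le hx (pow_mem hs.mem k)), ← Units.val_pow_eq_pow_val, ← map_pow]
  exact congrArg (fun v => (l v : ℂ) * _) (Subtype.ext conj_pow.symm)

/-- **the invariant `p`-rational member** -/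
theorem nil_rat (hM : IsPModular p M) (hb : IsNilpotentBlock p M b) (hp : p ≠ 2) :
    ∃ θ, Mn b θ ∧ (∀ α ∈ stb b, ∀ x, (θ : X → ℂ) (α x) = (θ : X → ℂ) x) ∧ PRat p (θ : X → ℂ) := by
  have hp' : p.Prime := Fact.out
  have h2 : ¬ p ∣ 2 := fun h => hp ((Nat.prime_dvd_prime_iff_eq hp' Nat.prime_two).1 h)
  obtain ⟨a, D⟩ := exists_nd hM hb
  obtain ⟨n, m, hm, hn⟩ := Nat.exists_eq_pow_mul_and_not_dvd (Nat.card_pos (α := X)).ne' p hp'.ne_one
  obtain ⟨k, k1, k2⟩ := Nat.chineseRemainder ((hp'.coprime_iff_not_dvd.2 hm).pow_left n) (p ^ n - 1) 1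
  have k3 : p ^ n ∣ k + 1 := by
    have h := k1.add_right 1
    rw [Nat.sub_add_cancel (pow_pos hp'.pos n)] at h
    exact (Nat.modEq_zero_iff_dvd.1 (h.trans (Nat.modEq_zero_iff_dvd.2 dvd_rfl)))
  have hk : Adm p X k := adm_of hn (hn ▸ Nat.Coprime.mul_right ((Nat.coprime_self_add_right.2 (Nat.coprime_one_right k)).coprime_dvd_right k3)
    (Nat.coprime_of_mul_modEq_one 1 (by rwa [mul_one]))) k2
  have h3 : ∀ (l : a.1 →* ℂˣ) (v : a.1), (l v : ℂ) ^ k * l v = 1 := fun l v => by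
    obtain ⟨j, hj⟩ := IsPGroup.iff_card.1 D.pgr
    have h4 : p ^ j ∣ p ^ n := ((hp'.coprime_iff_not_dvd.2 hm).pow_left j).dvd_of_dvd_mul_right
      (hj ▸ hn ▸ card_subgroup_dvd_card a.1)
    rw [← pow_succ, ← Units.val_pow_eq_pow_val, ← map_pow,
      orderOf_dvd_iff_pow_eq_one.1 ((orderOf_dvd_natCard v).trans (hj ▸ h4.trans k3)), map_one, Units.val_one]
  have uq : ∀ θ ψ, Mn b θ → Mn b ψ → hk.pw θ = θ → hk.pw ψ = ψ → ψ = θ := fun θ ψ h4 h5 h6 h7 => by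
    obtain ⟨l, hl⟩ := D.exists_lin h4 h5
    refine D.eq_of_pow h4 h5 h2 fun u c s hs => ?_
    rcases D.part hs with h0 | ⟨x, hx⟩
    · rw [h0 θ h4.1, h0 ψ h5.1]
    · have h8 := D.chiE_pw hk hl hs hx (Nd.mem_of_le hx hs.mem)
      have h9 := D.chiE_st (isCharacter_isClassFunction (Characters.Linear.isCharacter_hom l))
        (isIrr_isClassFunction θ.2) hs hx (Nd.mem_of_le hx hs.mem)
      rw [h6, h7] at h8
      rw [← hl] at h9
      rw [pow_two]
      nth_rewrite 1 [h8]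
      rw [h9, mul_mul_mul_comm, h3, one_mul, pow_two]
  obtain ⟨θ₀, h4⟩ := D.exists_mn
  obtain ⟨l, hl⟩ := D.exists_lin h4 (hk.mn hM hb.1 h4)
  obtain ⟨i, hi⟩ := IsPGroup.iff_card.1 D.pgr
  have h5 : orderOf l ∣ p ^ i := orderOf_dvd_of_pow_eq_one (MonoidHom.ext fun v => by
    rw [MonoidHom.pow_apply, ← map_pow, ← hi, pow_card_eq_one', map_one, MonoidHom.one_apply])
  obtain ⟨j, hj⟩ := exists_pow_eq_self_of_coprime
    (((hp'.coprime_iff_not_dvd.2 h2).symm.pow_right i).coprime_dvd_right h5)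
  obtain ⟨θ, h6, h7⟩ := D.mn_lin h4 (l ^ j)
  have h8 : hk.pw θ = θ := Subtype.ext (ext_of_chiE hM (isIrr_isClassFunction (hk.pw θ).2) (isIrr_isClassFunction θ.2)
    fun u c s hs => by
      rcases D.part hs with h0 | ⟨x, hx⟩
      · exact (h0 _ (hk.mn hM hb.1 h6).1).trans (h0 θ h6.1).symm
      · have h9 := fun l : a.1 →* ℂˣ => D.chiE_st (isCharacter_isClassFunction (Characters.Linear.isCharacter_hom l))
          (isIrr_isClassFunction θ₀.2) hs hx (Nd.mem_of_le hx hs.mem)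
        refine (D.chiE_pw hk h7 hs hx (Nd.mem_of_le hx hs.mem)).trans ?_
        change _ = chiE c (θ : X → ℂ) (u * s)
        rw [hl, h7, h9, h9, ← mul_assoc]
        congr 1
        generalize (⟨x * u * x⁻¹, _⟩ : a.1) = v
        have h10 : (l v : ℂ) = (l ^ j) v * (l ^ j) v := by
          rw [← Units.val_mul, ← MonoidHom.mul_apply, ← pow_two, ← pow_mul, mul_comm, pow_mul, hj]
        rw [h10, ← mul_assoc, h3, one_mul])
  refine ⟨θ, h6, fun α hα x => ?_, m, hm, H775.S4790.mem_adjoin_of_fixed (Dvd.intro_left _ hn.symm) θ.2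
    fun k' h9 h10 g => ?_⟩
  · have h9 := uq θ (irrMap (α⁻¹ : MulAut X) θ) h6 ((show blkMap (α⁻¹ : MulAut X) b = b from inv_mem hα) ▸ mn_map _ h6) h8
      (Subtype.ext (funext fun g => (congrArg (θ : X → ℂ) (map_pow α g k)).trans (congrFun (congrArg Subtype.val h8) (α g))))
    exact congrFun (congrArg Subtype.val h9) x
  · have h11 := uq θ _ h6 ((adm_of hn h9 h10).mn hM hb.1 h6) h8 (Subtype.ext (funext fun g =>
      (congrArg (θ : X → ℂ) (pow_right_comm g k k')).trans (congrFun (congrArg Subtype.val h8) (g ^ k'))))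
    exact congrFun (congrArg Subtype.val h11) g

/-- **nilpotent blocks** -/
theorem boxNil : BoxNil := by
  intro p M hM X _ _ Γ hZ hΓ b hb
  have := Fact.mk hM.1
  have := hM.2.1.isPrime
  by_cases hp : p = 2
  · obtain ⟨ψ, hψ⟩ := isPBlock_nonempty hb.1
    obtain ⟨θ, h1, h2, h3⟩ := nil_ext hM hb hZ (Γ ⊓ stb b) (fun x => ⟨hΓ x, mem_stb hM hb.1 hψ fun y _ =>
      isIrr_isClassFunction ψ.2 y x⟩) fun α h => h.2
    exact ⟨θ, h1, fun α hα h => h2 α ⟨hα, mem_stb hM hb.1 h1.1 h⟩, fun h => absurd hp h, fun _ S h4 h5 h6 =>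
      h3 S (fun α hα => ⟨h4 hα, mem_stb hM hb.1 h1.1 fun x _ => h6 α hα x⟩) h5⟩
  · obtain ⟨θ, h1, h2, h3⟩ := nil_rat hM hb hp
    exact ⟨θ, h1, fun α _ h => h2 α (mem_stb hM hb.1 h1.1 h), fun _ => h3, fun h => absurd h hp⟩

/-- **the principal block** -/
theorem boxPri : BoxPri := by
  intro p M hM X _ _ Γ _ b _ _ θ hθ h
  refine ⟨θ, ⟨hθ, fun ψ _ => ?_⟩, fun α _ _ x => (h _).trans (h x).symm,
    fun _ => ⟨1, hM.1.not_dvd_one, fun g => h g ▸ one_mem _⟩, fun _ S _ _ _ => ⟨PUnit, inferInstance, 1, 1, 1,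
      isCharacter_one, fun x => (h x).symm, fun _ _ => rfl, fun _ _ _ => rfl⟩⟩
  rw [ODD.Red.charDegree_of (n := 1) ((h 1).trans Nat.cast_one.symm)]
  exact one_dvd _

end Cfsg.Agent.OM.Gen
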