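import Cfsg.Agent.OM.Gen.CovA
import Cfsg.Agent.OM.Gen.Nil
import Cfsg.Agent.H595.GoUp
import Cfsg.Agent.CharactersDeep.PrimeIndex

/-!
# OM (S4894): blocks which are covered by nilpotent blocks, quotient of order prime to `p` (helper8)

* `Ab.cover` : the member of minimal degree; `Ab.odd` : odd `p`;
* `Ab.env` : a group of automorphisms which acts on the overgroup.
-/

set_option autoImplicit false
set_option linter.unusedSectionVars false

namespace Cfsg.Agent.OM.Gen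

open Cfsg Subgroup Cfsg.Agent.H649 Cfsg.Agent.H651 Cfsg.Agent.H652 Cfsg.Agent.H657 Cfsg.Agent.Characters.Core
  Cfsg.Agent.Blocks.Basic Cfsg.Agent.TID.Red Cfsg.Agent.H592.Transport
open Cfsg.Agent.H666.Clif (tl tl_apply tl_one)

variable {p : ℕ} {M : Ideal AlgInt} {V : ValuationSubring ℂ} {X G : Type} [Group X] [Group G] [Finite X] [Finite G]
  [Fact p.Prime] {b : Set (IrrCharacter X)} {B : Set (IrrCharacter G)}

theorem Nd.mul {a : BrauerPairIdx G} (D : Nd p M B a) {χ ψ : IrrCharacter G} (hχ : Mn B χ) (hψ : ψ ∈ B) :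
    ∃ j : ℕ, ∀ x, IsPRegular p x → (ψ : G → ℂ) x = (p ^ j : ℕ) * (χ : G → ℂ) x := by
  obtain ⟨η, h1, -⟩ := D.exists_st hχ.1 (height_of_mn hχ) hψ
  obtain ⟨i, hi⟩ := IsPGroup.iff_card.1 D.pgr
  obtain ⟨j, -, hj⟩ := (Nat.dvd_prime_pow Fact.out).1 (hi ▸ H597.Degrees.charDegree_dvd_card η.2)
  refine ⟨j, fun x hx => ?_⟩
  have h2 := H650.star_apply_reg D.hM D.max (D.stable (isIrr_isClassFunction η.2)) hχ.1 hx
  rw [NilIrr.ext0_of_mem _ a.1.one_mem] at h2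
  rw [h1, ← hj, ← irr_one_eq_charDegree η.2]
  exact h2

theorem Nd.r1 {a : BrauerPairIdx G} (D : Nd p M B a) : R1 p B := fun χ hχ ψ hψ x hx => by
  obtain ⟨ξ, hξ⟩ := D.exists_mn
  obtain ⟨i, hi⟩ := D.mul hξ hχ
  obtain ⟨j, hj⟩ := D.mul hξ hψ
  rw [hi x hx, hj x hx, hi 1 (reg_one D.hM.1), hj 1 (reg_one D.hM.1)]
  ring

/-- the unique member of minimal degree which is fixed by a power map -/
theorem nil_pw (hM : IsPModular p M) (hb : IsNilpotentBlock p M b) (hp : p ≠ 2) : ∃ k, Adm p X k ∧ ∃ θ, Mn b θ ∧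
    (∀ x, (θ : X → ℂ) (x ^ k) = (θ : X → ℂ) x) ∧ ∀ ψ, Mn b ψ → (∀ x, (ψ : X → ℂ) (x ^ k) = (ψ : X → ℂ) x) → ψ = θ := by
  have hp' : p.Prime := Fact.out
  have h2 : ¬ p ∣ 2 := fun h => hp ((Nat.prime_dvd_prime_iff_eq hp' Nat.prime_two).1 h)
  obtain ⟨a, D⟩ := exists_nd hM hb
  obtain ⟨n, m, hm, hn⟩ := Nat.exists_eq_pow_mul_and_not_dvd (Nat.card_pos (α := X)).ne' p hp'.ne_one
  obtain ⟨k, k1, k2⟩ := Nat.chineseRemainder ((hp'.coprime_iff_not_dvd.2 hm).pow_left n) (p ^ n - 1) 1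
  have k3 : p ^ n ∣ k + 1 := by
    have h := k1.add_right 1
    rw [Nat.sub_add_cancel (pow_pos hp'.pos n)] at h
    exact (Nat.modEq_zero_iff_dvd.1 (h.trans (Nat.modEq_zero_iff_dvd.2 dvd_rfl)))
  have hk : Adm p X k := adm_of hn (hn ▸ Nat.Coprime.mul_right
    ((Nat.coprime_self_add_right.2 (Nat.coprime_one_right k)).coprime_dvd_right k3)
    (Nat.coprime_of_mul_modEq_one 1 (by rwa [mul_one]))) k2
  have h3 : ∀ (l : a.1 →* ℂˣ) (v : a.1), (l v : ℂ) ^ k * l v = 1 := fun l v => by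
    obtain ⟨j, hj⟩ := IsPGroup.iff_card.1 D.pgr
    have h4 : p ^ j ∣ p ^ n := ((hp'.coprime_iff_not_dvd.2 hm).pow_left j).dvd_of_dvd_mul_right
      (hj ▸ hn ▸ card_subgroup_dvd_card a.1)
    rw [← pow_succ, ← Units.val_pow_eq_pow_val, ← map_pow,
      orderOf_dvd_iff_pow_eq_one.1 ((orderOf_dvd_natCard v).trans (hj ▸ h4.trans k3)), map_one, Units.val_one]
  obtain ⟨θ₀, h4⟩ := D.exists_mn
  obtain ⟨l, hl⟩ := D.exists_lin h4 (hk.mn hM hb.1 h4)
  obtain ⟨i, hi⟩ := IsPGroup.iff_card.1 D.pgr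
  have h5 : orderOf l ∣ p ^ i := orderOf_dvd_of_pow_eq_one (MonoidHom.ext fun v => by
    rw [MonoidHom.pow_apply, ← map_pow, ← hi, pow_card_eq_one', map_one, MonoidHom.one_apply])
  obtain ⟨j, hj⟩ := exists_pow_eq_self_of_coprime
    (((hp'.coprime_iff_not_dvd.2 h2).symm.pow_right i).coprime_dvd_right h5)
  obtain ⟨θ, h6, h7⟩ := D.mn_lin h4 (l ^ j)
  have h8 : hk.pw θ = θ := Subtype.ext (ext_of_chiE hM (isIrr_isClassFunction (hk.pw θ).2) (isIrr_isClassFunction θ.2)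
    fun u c s hs => by
      rcases D.part hs with h0 | ⟨x, hx⟩
      · exact (h0 _ (hk.mn hM hb.1 h6).1).trans (h0 θ h6.1).symm
      · have h9 := fun l : a.1 →* ℂˣ => D.chiE_st (isCharacter_isClassFunction (Characters.Linear.isCharacter_hom l))
          (isIrr_isClassFunction θ₀.2) hs hx (Nd.mem_of_le hx hs.mem)
        refine (D.chiE_pw hk h7 hs hx (Nd.mem_of_le hx hs.mem)).trans ?_
        change _ = chiE c (θ : X → ℂ) (u * s)
        rw [hl, h7, h9, h9, ← mul_assoc]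
        congr 1
        generalize (⟨x * u * x⁻¹, _⟩ : a.1) = v
        have h10 : (l v : ℂ) = (l ^ j) v * (l ^ j) v := by
          rw [← Units.val_mul, ← MonoidHom.mul_apply, ← pow_two, ← pow_mul, mul_comm, pow_mul, hj]
        rw [h10, ← mul_assoc, h3, one_mul])
  refine ⟨k, hk, θ, h6, congrFun (congrArg Subtype.val h8), fun ψ h9 h10 => ?_⟩
  obtain ⟨l, hl⟩ := D.exists_lin h6 h9
  refine D.eq_of_pow h6 h9 h2 fun u c s hs => ?_
  rcases D.part hs with h0 | ⟨x, hx⟩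
  · rw [h0 θ h6.1, h0 ψ h9.1]
  · have h11 := D.chiE_pw hk hl hs hx (Nd.mem_of_le hx hs.mem)
    have h12 := D.chiE_st (isCharacter_isClassFunction (Characters.Linear.isCharacter_hom l))
      (isIrr_isClassFunction θ.2) hs hx (Nd.mem_of_le hx hs.mem)
    rw [h8, show hk.pw ψ = ψ from Subtype.ext (funext h10)] at h11
    rw [← hl] at h12
    rw [pow_two]
    nth_rewrite 1 [h11]
    rw [h12, mul_mul_mul_comm, h3, one_mul, pow_two]

theorem mn_of_one {χ ψ : IrrCharacter G} (hχ : Mn B χ) (hψ : ψ ∈ B) (h : (ψ : G → ℂ) 1 = (χ : G → ℂ) 1) : Mn B ψ :=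
  ⟨hψ, fun ξ hξ => ODD.Red.charDegree_congr h ▸ hχ.2 ξ hξ⟩

namespace Cov

variable {ι : X →* G}

theorem ov_comp {Y H : Type} [Group Y] [Group H] [Finite Y] {χ : G → ℂ} {θ : IrrCharacter X} (h : Ov ι χ θ) (e : Y ≃* X)
    {j : Y →* H} {ψ : H → ℂ} (hj : ∀ y, ψ (j y) = χ (ι (e y))) : Ov j ψ (tr e θ) :=
  Ov.congr (ι := ι.comp e.toMonoidHom) hj ((ov_src_iff e (fun _ => rfl) χ θ).2 h)

open SemidirectProduct in
/-- an invariant constituent of multiplicity prime to `p` extends -/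
theorem extA_of [Fintype X] {S : Subgroup (MulAut X)} (hS : IsPGroup p S) {θ : IrrCharacter X}
    (h : ∀ α ∈ S, ∀ x, (θ : X → ℂ) (α x) = (θ : X → ℂ) x) {ζ : X → ℂ} {m : ℕ} (hm : classInner ζ θ = m) (hp : ¬ p ∣ m)
    (hζ : ExtA p S ζ) : ExtA p S (θ : X → ℂ) := by
  obtain ⟨A, _, j, t, Ψ, h1, h2, h3, h4⟩ := hζ
  have := XO.fin (S := S)
  let F : X ⋊[S.subtype] S →* A := lift j t fun α => MonoidHom.ext fun x => by
    change j (α.1 x) = t α * j x * (t α)⁻¹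
    rw [h3, mul_inv_cancel_right]
  have : Finite F.range := Finite.of_surjective _ F.rangeRestrict_surjective
  obtain ⟨n, ψ, h5, -⟩ := exists_lst (MonoidHom.id F.range) (isCharacter_comp' F.range.subtype h1)
  choose e he using fun l => classInner_isNat
    (isCharacter_comp' (F.rangeRestrict.comp inl) (isIrr_isCharacter (ψ l).2)) (isIrr_isCharacter θ.2)
  have h6 : ζ = ∑ l, fun x => (ψ l : F.range → ℂ) (F.rangeRestrict.comp inl x) := funext fun x => by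
    rw [Finset.sum_apply, ← h5, ← h2]
    change Ψ (j x) = Ψ (F (inl x))
    simp only [F, lift_inl]
  rw [h6, classInner_sum_left, Finset.sum_congr rfl fun l _ => he l, ← Nat.cast_sum, Nat.cast_inj] at hm
  obtain ⟨l, hl⟩ : ∃ l, ¬ p ∣ e l := by
    by_contra! h7
    exact hp (hm ▸ Finset.dvd_sum fun l _ => h7 l)
  have hr : (inl : X →* X ⋊[S.subtype] S).range.Normal := by
    rw [range_inl_eq_ker_rightHom]
    infer_instance
  let _ := Fintype.ofFinite (X ⋊[S.subtype] S)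
  let _ := Fintype.ofFinite (inl : X →* X ⋊[S.subtype] S).range
  let E := MonoidHom.ofInjective (inl_injective (φ := S.subtype))
  have h7 := CharactersDeep.PrimeIndex.restrict_eq_of_not_dvd (inl : X →* X ⋊[S.subtype] S).range Fact.out (by
      rw [range_inl_eq_ker_rightHom, index_ker, MonoidHom.range_eq_top.2 rightHom_surjective, card_top]
      exact IsPGroup.iff_card.1 hS) (tr E.symm θ).2 (fun g y => by
      obtain ⟨x, rfl⟩ := E.surjective y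
      rw [show (⟨g * (E x : X ⋊[S.subtype] S) * g⁻¹, _⟩ : (inl : X →* X ⋊[S.subtype] S).range) = E (XO.act S g x) from
        Subtype.ext (XO.conj_inl g x), tr_apply, tr_apply, E.symm_apply_apply, E.symm_apply_apply, XO.act_eq,
        MulAut.mul_apply, MulAut.conj_apply, isIrr_isClassFunction θ.2, h _ g.right.2])
    (isIrr_comp F.rangeRestrict F.rangeRestrict_surjective (ψ l).2) (m := e l) (by
      rw [← he l, ← Characters.Clifford.classInner_comp_mulEquiv E]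
      exact congrArg _ (funext fun x => congrArg (θ : X → ℂ) (E.symm_apply_apply x))) hl
  refine ⟨F.range, inferInstance, F.rangeRestrict.comp inl, F.rangeRestrict.comp inr, ψ l, isIrr_isCharacter (ψ l).2,
    fun x => (h7 (E x)).trans (congrArg (θ : X → ℂ) (E.symm_apply_apply x)), fun α x => Subtype.ext ?_,
    fun y hy hk => Subtype.ext ?_⟩
  · change F (inr α) * F (inl x) = F (inl (α.1 x)) * F (inr α)
    simp only [F, lift_inl, lift_inr, h3]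
  · change F (inr _) = F (inl y)
    simp only [F, lift_inl, lift_inr, h4 y hy hk]

/-- a twisted automorphism of a product -/
def tw {Z : Type} [CommGroup Z] (β : MulAut G) (l : G →* Z) : MulAut (G × Z) where
  toFun g := (β g.1, l g.1 * g.2)
  invFun g := (β.symm g.1, (l (β.symm g.1))⁻¹ * g.2)
  left_inv g := by simp
  right_inv g := by simp
  map_mul' g h := Prod.ext (map_mul β _ _) (by
    change l (g.1 * h.1) * (g.2 * h.2) = l g.1 * g.2 * (l h.1 * h.2)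
    rw [map_mul, mul_mul_mul_comm])

theorem tw_apply {Z : Type} [CommGroup Z] (β : MulAut G) (l : G →* Z) (g : G × Z) :
    tw β l g = (β g.1, l g.1 * g.2) := rfl

/-- the twisted automorphisms -/
def Tw (Z : Type) [CommGroup Z] {Δ : Subgroup (MulAut X)} {ρ : Δ →* MulAut G} (hρ : ∀ γ x, ρ γ (ι x) = ι (γ.1 x)) :
    Subgroup (Δ × MulAut (G × Z)) where
  carrier := {w | ∃ l : G →* Z, (∀ x, l (ι x) = 1) ∧ w.2 = tw (ρ w.1) l}
  one_mem' := ⟨1, fun _ => rfl, MulEquiv.ext fun g => by simp [tw_apply]⟩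
  mul_mem' := by
    rintro v w ⟨l, h1, h2⟩ ⟨m, h3, h4⟩
    refine ⟨l.comp (ρ w.1).toMonoidHom * m, fun x => ?_, MulEquiv.ext fun g => ?_⟩
    · change l (ρ w.1 (ι x)) * m (ι x) = 1
      rw [hρ, h1, h3, mul_one]
    · simp [h2, h4, tw_apply, mul_assoc]
  inv_mem' := by
    rintro w ⟨l, h1, h2⟩
    refine ⟨(l.comp (ρ w.1⁻¹).toMonoidHom)⁻¹, fun x => ?_, ?_⟩
    · change (l (ρ w.1⁻¹ (ι x)))⁻¹ = 1
      rw [hρ, h1, inv_one]
    · rw [Prod.snd_inv, Prod.fst_inv, h2, map_inv]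
      exact MulEquiv.ext fun _ => rfl

theorem ndvd_of_pow {H : Type} [Group H] [Finite H] {n : ℕ} (hn : ¬ p ∣ n) (h : ∀ x : H, x ^ p = 1 → x ^ n = 1) :
    ¬ p ∣ Nat.card H := fun h1 => by
  obtain ⟨x, hx⟩ := exists_prime_orderOf_dvd_card' p h1
  exact hn (hx ▸ orderOf_dvd_of_pow_eq_one (h x (hx ▸ pow_orderOf_eq_one x)))

theorem eq_one_of_pow {H : Type} [Group H] {n k : ℕ} (hn : ¬ p ∣ n) {x : H} (h1 : x ^ n = 1) (h2 : x ^ p ^ k = 1) :
    x = 1 := orderOf_eq_one_iff.1 (Nat.eq_one_of_dvd_coprimes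
  (((Fact.out : p.Prime).coprime_iff_not_dvd.2 hn).symm.pow_right k) (orderOf_dvd_of_pow_eq_one h1)
  (orderOf_dvd_of_pow_eq_one h2))

/-- a `p`-group of automorphisms lifts -/
theorem extA_lift {j : X →* G} {S : Subgroup (MulAut X)} (hS : IsPGroup p S) {U : Type} [Group U] [Finite U]
    (r : U →* MulAut X) (ω : U →* MulAut G) (h1 : ∀ u x, ω u (j x) = j (r u x))
    (h2 : ∀ u, r u = 1 → (∃ k, ω u ^ p ^ k = 1) → u = 1) (h3 : ∀ u, r u ∈ S) (h4 : ∀ α ∈ S, ∃ u, r u = α)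
    (h5 : ∀ y, MulAut.conj y ∈ S → ∃ u, r u = MulAut.conj y ∧ ω u = MulAut.conj (j y)) {χ : G → ℂ}
    (h6 : ∀ T ≤ ω.range, IsPGroup p T → ExtA p T χ) : ExtA p S fun x => χ (j x) := by
  have k1 : Function.Surjective (r.codRestrict S h3) := fun α => (h4 α α.2).imp fun _ e => Subtype.ext e
  obtain ⟨P, hP⟩ := Sylow.mapSurjective_surjective k1 p ((hS.to_subgroup ⊤).toSylow
    (index_top (G := S) ▸ (Fact.out : p.Prime).not_dvd_one))
  let q := ω.comp (P : Subgroup U).subtype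
  have k2 : ∀ u : P, ∃ k, q u ^ p ^ k = 1 := fun u => (P.isPGroup' u).imp fun _ e => by rw [← map_pow, e, map_one]
  have k3 : Function.Bijective ((r.codRestrict S h3).comp (P : Subgroup U).subtype) :=
    ⟨(injective_iff_map_eq_one _).2 fun u e => Subtype.ext (h2 u (congrArg Subtype.val e) (k2 u)), fun α => by
      obtain ⟨u, hu, e⟩ := (congrArg Sylow.toSubgroup hP).ge (mem_top α)
      exact ⟨⟨u, hu⟩, e⟩⟩
  let s := (MulEquiv.ofBijective _ k3).symm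
  have k4 : ∀ α, r (s α) = α.1 := fun α => congrArg Subtype.val ((MulEquiv.ofBijective _ k3).apply_symm_apply α)
  obtain ⟨A, _, i, t, Ψ, k5, k6, k7, k8⟩ := h6 q.range (by
    rintro _ ⟨u, rfl⟩
    exact ⟨u, rfl⟩) (P.isPGroup'.of_surjective _ q.rangeRestrict_surjective)
  refine ⟨A, inferInstance, i.comp j, t.comp (q.rangeRestrict.comp s.toMonoidHom), Ψ, k5, fun x => k6 _,
    fun α x => (k7 _ _).trans ?_, fun y hy ⟨k, hk⟩ => ?_⟩
  · exact congrArg (fun g => i g * _) ((h1 (s α) x).trans (by rw [k4]))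
  obtain ⟨u, k9, k10⟩ := h5 y hy
  have k11 : Commute (ω u) (q (s ⟨_, hy⟩)) := MulEquiv.ext fun g => by
    have k11 : q (s ⟨_, hy⟩) (j y) = j y := (h1 (s ⟨_, hy⟩) y).trans (by
      rw [k4, MulAut.conj_apply, mul_inv_cancel_right])
    rw [k10, MulAut.mul_apply, MulAut.mul_apply, MulAut.conj_apply, MulAut.conj_apply, map_mul, map_mul, map_inv, k11]
  obtain ⟨n, hn⟩ := k2 (s ⟨_, hy⟩)
  have k12 : u = s ⟨_, hy⟩ := inv_mul_eq_one.1 (h2 _ (by rw [map_mul, map_inv, k9, k4, inv_mul_cancel]) ⟨k + n, by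
    rw [map_mul, map_inv]
    refine (k11.inv_left.mul_pow _).trans ?_
    rw [inv_pow, k10, ← map_pow, ← map_pow, pow_add, pow_mul, hk, mul_comm (p ^ k), pow_mul, hn, one_pow, one_pow,
      map_one, map_one, inv_one, one_mul]⟩)
  have k13 : q (s ⟨_, hy⟩) = MulAut.conj (j y) := (congrArg ω k12.symm).trans k10
  exact (congrArg t (Subtype.ext k13)).trans (k8 (j y) ⟨_, k13⟩ ⟨k, by rw [← map_pow, hk, map_one]⟩)

namespace Ab

/-- elements which centralize the subgroup -/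
theorem cen_pow (h : Ab p ι) {g : G} (hg : ∀ x, g * ι x = ι x * g) :
    g ^ (ι.range.index * Nat.card (center X)) = 1 := by
  have := h.normal
  obtain ⟨z, hz⟩ := ι.range.pow_index_mem g
  have h1 : z ∈ center X := mem_center_iff.2 fun x => h.inj (by
    rw [map_mul, map_mul, hz]
    exact ((show Commute g (ι x) from hg x).pow_left _).eq.symm)
  rw [pow_mul, ← hz, ← map_pow, show z ^ Nat.card (center X) = 1 from
    congrArg Subtype.val (pow_card_eq_one' (x := (⟨z, h1⟩ : center X))), map_one]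

theorem ndvd_mul (h : Ab p ι) (hZ : ¬ p ∣ Nat.card (center X)) : ¬ p ∣ ι.range.index * Nat.card (center X) :=
  fun e => ((Fact.out : p.Prime).dvd_mul.1 e).elim h.idx hZ

theorem prod (h : Ab p ι) (Z : Type) [CommGroup Z] (hZ : ¬ p ∣ Nat.card Z) : Ab p ((MonoidHom.inl G Z).comp ι) := by
  have h1 : ((MonoidHom.inl G Z).comp ι).range = ι.range.prod ⊥ := by
    ext g
    exact ⟨by rintro ⟨x, rfl⟩; exact ⟨⟨x, rfl⟩, rfl⟩, fun ⟨⟨x, e⟩, e'⟩ => ⟨x, Prod.ext e (Eq.symm e')⟩⟩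
  refine ⟨fun x y e => h.inj (congrArg Prod.fst e), fun x y => h1 ▸ ⟨h.ab x.1 y.1, ?_⟩, fun e => ?_⟩
  · change x.2 * y.2 * x.2⁻¹ * y.2⁻¹ = 1
    rw [mul_inv_cancel_comm, mul_inv_cancel]
  · rw [h1, index_prod, index_bot] at e
    exact ((Fact.out : p.Prime).dvd_mul.1 e).elim h.idx hZ

/-- **the member of minimal degree** -/
theorem cover (h : Ab p ι) (hV : Above M V) {a : BrauerPairIdx G} (D : Nd p M B a) (hb : IsPBlock M b)
    {χ χ₀ : IrrCharacter G} {θ₀ : IrrCharacter X} (hχ : Mn B χ) (hl : Low p V ι χ) (h1 : χ₀ ∈ B) (h2 : θ₀ ∈ b)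
    (h3 : Ov ι χ₀ θ₀) : ∃ θ, Mn b θ ∧ Ov ι (χ : G → ℂ) θ := by
  have hM := D.hM
  have := hM.2.1.isPrime
  have := h.normal
  have hr := reg_one (G := X) hM.1
  obtain ⟨m, η, h4, h5⟩ := exists_lst ι (isIrr_isCharacter χ.2)
  choose j hj using fun l => hl.1 (η l) ((h5 _).2 ⟨l, rfl⟩)
  choose n c hu hc using fun ψ : IrrCharacter X => exists_decomp hM hV ψ.2
  have h6 : ∀ ξ ∈ B, ∀ ψ : IrrCharacter X, Ov ι (ξ : G → ℂ) ψ → ∀ k, ∃ l, j l = c ψ k := fun ξ hξ ψ hψ k => by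
    obtain ⟨m', η', h6, h7⟩ := exists_lst ι (isIrr_isCharacter ξ.2)
    obtain ⟨l', rfl⟩ := (h7 ψ).1 hψ
    obtain ⟨i, hi⟩ := D.mul hχ hξ
    exact supp hM hV (idx := fun s : Σ l, Fin (n (η' l)) => c _ s.2) (inS_range j (p ^ i : ℕ) fun x hx => by
      rw [Fintype.sum_sigma, ← Finset.sum_congr rfl fun l _ => hc (η' l) x hx, ← h6, hi _ (reg_map ι hx), h4,
        Finset.sum_congr rfl fun l _ => hj l x hx]) ⟨l', k⟩
  have hn : n θ₀ ≠ 0 := fun e => isIrr_apply_one_ne_zero θ₀.2 (by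
    have : IsEmpty (Fin (n θ₀)) := by rw [e]; infer_instance
    rw [hc θ₀ 1 hr, Fintype.sum_empty])
  obtain ⟨l, hl'⟩ := h6 χ₀ h1 θ₀ h3 ⟨0, Nat.pos_of_ne_zero hn⟩
  refine ⟨η l, ⟨isPBlock_mem_of_sameBlock hb h2 (under_sameBlock hM hV θ₀.2 (η l).2 (hu θ₀ _)
    (hl' ▸ Lf.under hM hV (η l).2 (hj l))), fun ψ hψ => ⟨n ψ, ?_⟩⟩, (h5 _).2 ⟨l, rfl⟩⟩
  obtain ⟨ξ, h7, h8⟩ := ov_cov hM h.inj D.nil.1 hb h1 h2 h3 hψ
  have h9 := hc ψ 1 hr
  rw [Finset.sum_congr rfl (g := fun _ => (η l : X → ℂ) 1) fun k _ => by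
    obtain ⟨l', e⟩ := h6 ξ h7 ψ h8 k
    obtain ⟨α, hα⟩ := ov_conj h.inj ((h5 _).2 ⟨l, rfl⟩) ((h5 _).2 ⟨l', rfl⟩)
    rw [← e, ← hj l' 1 hr, hα, map_one], Finset.sum_const, Finset.card_univ, Fintype.card_fin, nsmul_eq_mul,
    irr_one_eq_charDegree ψ.2, irr_one_eq_charDegree (η l).2, mul_comm] at h9
  exact_mod_cast h9

/-- **odd `p`** -/
theorem odd (h : Ab p ι) (hM : IsPModular p M) (hp : p ≠ 2) (Γ : Subgroup (MulAut X)) (hb : IsPBlock M b)
    (hB : IsNilpotentBlock p M B) {χ₀ : IrrCharacter G} {θ₀ : IrrCharacter X} (h1 : χ₀ ∈ B) (h2 : θ₀ ∈ b)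
    (h3 : Ov ι χ₀ θ₀) : ∃ θ, Lift p Γ b θ := by
  have := hM.2.1.isPrime
  have := h.normal
  obtain ⟨V, hV⟩ := exists_above hM
  obtain ⟨a, D⟩ := exists_nd hM hB
  obtain ⟨k, hk, χ, h4, h5, h6⟩ := nil_pw hM hB hp
  have h7 : ∀ l : G →* ℂˣ, (∀ x, l (ι x) = 1) → ∀ ξ : IrrCharacter G, (∀ g, (ξ : G → ℂ) (g ^ k) = (ξ : G → ℂ) g) →
      ∀ g, (tl l ξ : G → ℂ) (g ^ k) = (tl l ξ : G → ℂ) g := fun l hl ξ hξ g => by
    obtain ⟨y, x, h7, rfl⟩ := h.exists_reg hM.1 g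
    rw [tl_apply, tl_apply, hξ, map_pow, map_mul, hl, mul_one, ← map_pow, hk.reg y h7]
  have hl := D.r1.lf hM hV hB.1 h4
  have hL := low hM hV _ h rfl hl fun l h8 h9 => congrFun (congrArg Subtype.val (h6 (tl l χ)
    (mn_of_one h4 (mem_of_reg hM hB.1 h4.1 h9) (h9 1 (reg_one hM.1))) (h7 l h8 χ h5)))
  obtain ⟨θ, h8, h9⟩ := h.cover hV D hb h4 hL h1 h2 h3
  have hk' : Adm p X k := ⟨hk.cop.coprime_dvd_right (card_dvd_of_injective ι h.inj), fun x hx =>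
    h.inj (by rw [map_pow, hk.reg _ (reg_map ι hx)])⟩
  have h10 : ∀ x, (θ : X → ℂ) (x ^ k) = (θ : X → ℂ) x := congrFun (congrArg Subtype.val (hL.2 θ (hk'.pw θ) h9
    (funext h5 ▸ ov_pow h9 hk'.cop) fun x hx => congrArg (θ : X → ℂ) (hk'.reg x hx)))
  have uq : ∀ ψ : IrrCharacter X, (∀ x, IsPRegular p x → (ψ : X → ℂ) x = (θ : X → ℂ) x) →
      (∀ x, (ψ : X → ℂ) (x ^ k) = (ψ : X → ℂ) x) → ψ = θ := fun ψ k1 k2 => by
    obtain ⟨ξ, k3⟩ := ov_up h.inj ψ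
    obtain ⟨l, k4, k5⟩ := h.bt_blk hM hV hl h9 k3 k1
    have k6 := isPBlock_mem_of_sameBlock hB.1 h4.1 k5
    have k7 := ov_tl k3 (m := 1) k4
    rw [tl_one] at k7
    obtain ⟨i, hi⟩ := D.mul h4 k6
    obtain ⟨c, k8, k9⟩ := ov_deg h.inj k7
    obtain ⟨d, k10, -⟩ := ov_deg h.inj h9
    have k11 := hi 1 (reg_one hM.1)
    have k12 : c = p ^ i * d := by
      rw [irr_one_eq_charDegree (tl l ξ).2, irr_one_eq_charDegree χ.2, k8, k10,
        ODD.Red.charDegree_congr (k1 1 (reg_one hM.1)), ← Nat.cast_mul, Nat.cast_inj, mul_left_comm] at k11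
      exact Nat.eq_of_mul_eq_mul_left (charDegree_pos θ.2) k11
    obtain rfl : i = 0 := by
      by_contra hi
      exact h.idx (((dvd_pow_self p hi).mul_right d).trans (k12 ▸ k9))
    rw [pow_zero, Nat.cast_one, one_mul] at k11
    rw [h6 _ (mn_of_one h4 k6 k11) (h7 l k4 ξ (h.pw_up hM hV hk.cop hk.reg k3 ((hL.1 θ h9).congr k1) k2))] at k7
    exact hL.2 θ ψ h9 k7 k1
  obtain ⟨n, m, hm, hn⟩ := Nat.exists_eq_pow_mul_and_not_dvd (Nat.card_pos (α := X)).ne' p hM.1.ne_one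
  exact ⟨θ, h8, fun α _ hα => congrFun (congrArg Subtype.val (uq (tr α θ) hα fun x => by
      rw [tr_apply, tr_apply, map_pow, h10])),
    fun _ => ⟨m, hm, H775.S4790.mem_adjoin_of_fixed (Dvd.intro_left _ hn.symm) θ.2 fun k' k1 k2 =>
      congrFun (congrArg Subtype.val (uq ((adm_of hn k1 k2).pw θ)
        (fun x hx => congrArg (θ : X → ℂ) ((adm_of hn k1 k2).reg x hx))
        fun x => (congrArg (θ : X → ℂ) (pow_right_comm x k k')).trans (h10 _)))⟩, fun e => absurd e hp⟩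

/-- **a group of automorphisms which acts on the overgroup** -/
theorem env (h : Ab p ι) (hM : IsPModular p M) (hZ : ¬ p ∣ Nat.card (center X)) {Δ : Subgroup (MulAut X)}
    {ρ : Δ →* MulAut G} (hρ : ∀ γ x, ρ γ (ι x) = ι (γ.1 x)) (hin : ∀ g, ∃ γ, ρ γ = MulAut.conj g) (hb : IsPBlock M b)
    {N : ℕ} [NeZero N] (hN : ι.range.index = N) {B : Set (IrrCharacter (G × rootsOfUnity N ℂ))}
    (hB : IsNilpotentBlock p M B) {ξ : IrrCharacter (G × rootsOfUnity N ℂ)} {θ₀ : IrrCharacter X} (h0 : ξ ∈ B)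
    (h1 : ∀ z, ξ.1 (1, z) = (z.1 : ℂ) * ξ.1 1) (h2 : θ₀ ∈ b) (h3 : Ov ((MonoidHom.inl G _).comp ι) ξ.1 θ₀) :
    ∃ θ, Mn b θ ∧ (∀ α ∈ Δ, (∀ x, IsPRegular p x → (θ : X → ℂ) (α x) = (θ : X → ℂ) x) →
      ∀ x, (θ : X → ℂ) (α x) = (θ : X → ℂ) x) ∧ Ext p Δ (θ : X → ℂ) := by
  have := hM.2.1.isPrime
  have := h.normal
  have hp : ¬ p ∣ N := hN ▸ h.idx
  have hz : ∀ z : rootsOfUnity N ℂ, z ^ N = 1 := fun z => Subtype.ext z.2
  have hj := h.prod (rootsOfUnity N ℂ) (ndvd_of_pow hp fun z _ => hz z)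
  set j := (MonoidHom.inl G (rootsOfUnity N ℂ)).comp ι with hj'
  have := hj.normal
  obtain ⟨V, hV⟩ := exists_above hM
  obtain ⟨a, D⟩ := exists_nd hM hB
  let W := Tw (rootsOfUnity N ℂ) hρ
  have w1 : ∀ w ∈ W, ∀ x, w.2 (j x) = j (w.1.1 x) := by
    rintro w ⟨l, k1, k2⟩ x
    rw [k2]
    exact Prod.ext (hρ _ x) ((mul_one _).trans (k1 x))
  have w2 : ∀ g, ∃ γ, (γ, MulAut.conj g) ∈ W := fun g => (hin g.1).imp fun γ e => ⟨1, fun _ => rfl, by
    rw [e]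
    exact MulEquiv.ext fun y => Prod.ext rfl ((mul_inv_cancel_comm _ _).trans (one_mul _).symm)⟩
  have w3 : ∀ w ∈ W, w.1 = 1 → w.2 ^ N = 1 := by
    rintro w ⟨l, -, k0⟩ e
    rw [k0, e]
    have k1 : ∀ (n : ℕ) g, (tw (ρ 1) l ^ n) g = (g.1, l g.1 ^ n * g.2) := fun n g => by
      induction n with
      | zero => rw [pow_zero, pow_zero, one_mul]; rfl
      | succ n ih => rw [pow_succ', MulAut.mul_apply, ih, tw_apply, map_one, pow_succ', mul_assoc]; rfl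
    exact MulEquiv.ext fun g => (k1 N g).trans (by rw [hz, one_mul]; rfl)
  have w4 : ∀ g, MulAut.conj g ∈ stb B := fun g => mem_stb hM hB.1 h0 fun y _ => isIrr_isClassFunction ξ.2 y g
  obtain ⟨χ, h4, h5, h6⟩ := nil_ext hM hB (ndvd_of_pow (hj.ndvd_mul hZ) fun z _ =>
      Subtype.ext (hj.cen_pow fun x => (mem_center_iff.1 z.2 _).symm)) (W.map (MonoidHom.snd _ _) ⊓ stb B)
    (fun g => ⟨(w2 g).elim fun γ e => ⟨_, e, rfl⟩, w4 g⟩) fun _ e => e.2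
  have hr : ∀ z : rootsOfUnity N ℂ, IsPRegular p ((1, z) : G × rootsOfUnity N ℂ) := fun z =>
    reg_map (MonoidHom.inr G (rootsOfUnity N ℂ)) fun e => hp (e.trans (orderOf_dvd_of_pow_eq_one (hz z)))
  have h7 : ∀ (z : rootsOfUnity N ℂ) (g : G × rootsOfUnity N ℂ), χ.1 (g.1, z * g.2) = (z.1 : ℂ) * χ.1 g := fun z g => by
    obtain ⟨c, hc, -⟩ := ODD.Red.exists_central χ.2 (z := (1, z)) (mem_center_iff.2 fun y =>
      Prod.ext ((mul_one _).trans (one_mul _).symm) (mul_comm _ _))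
    have k1 := D.r1 χ h4.1 ξ h0 _ (hr z)
    have k2 := hc 1
    rw [mul_one] at k2
    rw [k2, h1, mul_right_comm, mul_left_inj' (isIrr_apply_one_ne_zero χ.2),
      mul_left_inj' (isIrr_apply_one_ne_zero ξ.2)] at k1
    rw [← k1, ← hc]
    exact congrArg χ.1 (Prod.ext (one_mul _).symm rfl)
  have h8 : ∀ (γ : Δ) (l : G × rootsOfUnity N ℂ →* ℂˣ), (∀ x, l (j x) = 1) →
      (∀ g, IsPRegular p g → χ.1 g = l g * χ.1 (tw (ρ γ) 1 g)) →
      ∃ ω ∈ stb B, (γ, ω) ∈ W ∧ ∀ g, χ.1 (ω g) = l g * χ.1 (tw (ρ γ) 1 g) := fun γ l k1 k2 => by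
    let m : G →* rootsOfUnity N ℂ := (l.comp (MonoidHom.inl _ _)).codRestrict _ fun g => by
      obtain ⟨x, hx⟩ := ι.range.pow_index_mem g
      rw [hN] at hx
      rw [mem_rootsOfUnity, ← map_pow, ← hx]
      exact k1 x
    have k3 : ∀ z, l (1, z) = 1 := fun z => by
      have k3 := k2 _ (hr z)
      rw [show tw (ρ γ) 1 (1, z) = (1, z) from Prod.ext (map_one _) (one_mul _), eq_comm, mul_eq_right₀ (by
        have k4 := h7 z 1
        rw [Prod.snd_one, mul_one, Prod.fst_one] at k4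
        rw [k4]
        exact mul_ne_zero (Units.ne_zero _) (isIrr_apply_one_ne_zero χ.2))] at k3
      exact Units.ext k3
    have k4 : ∀ g, χ.1 (tw (ρ γ) m g) = l g * χ.1 (tw (ρ γ) 1 g) := fun g => by
      rw [show l g = l (g.1, 1) by rw [← mul_one (l (g.1, 1)), ← k3 g.2, ← map_mul, Prod.fst_mul_snd]]
      refine Eq.trans ?_ (h7 (m g.1) (tw (ρ γ) 1 g))
      exact congrArg χ.1 (Prod.ext rfl (congrArg (m g.1 * ·) (one_mul g.2).symm))
    exact ⟨_, mem_stb hM hB.1 h4.1 fun g hg => (k4 g).trans (k2 g hg).symm, ⟨m, fun x => Subtype.ext (k1 x), rfl⟩, k4⟩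
  have hl := D.r1.lf hM hV hB.1 h4
  have hL := low hM hV _ hj rfl hl fun l k1 k2 g => by
    have k3 : ∀ g : G × rootsOfUnity N ℂ, tw (ρ 1) 1 g = g := fun g => by simp [tw_apply]
    obtain ⟨ω, k4, k5, k6⟩ := h8 1 l k1 fun g hg => by rw [k3, k2 g hg]
    have k7 := k6 g
    rw [k3, h5 ω ⟨⟨_, k5, rfl⟩, k4⟩ g] at k7
    exact k7.symm
  obtain ⟨θ, h9, h10⟩ := hj.cover hV D hb h4 hL h0 h2 h3
  have h11 : ∀ γ : Δ, (∀ x, IsPRegular p x → (θ : X → ℂ) (γ.1 x) = (θ : X → ℂ) x) → ∃ ω ∈ stb B, (γ, ω) ∈ W :=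
    fun γ hγ => by
      obtain ⟨l, k1, k2⟩ := hj.bt_lf hM hV (χ := tr (tw (ρ γ) 1) χ) (hl.comp (tw (ρ γ) 1).toMonoidHom
        (MulEquiv.surjective _)) hl (ov_comp h10 γ.1 fun x => congrArg χ.1 (w1 (γ, _) ⟨1, fun _ => rfl, rfl⟩ x)) h10
        fun x hx => (hγ x hx).symm
      obtain ⟨ω, k3, k4, -⟩ := h8 γ l k1 k2
      exact ⟨ω, k3, k4⟩
  refine ⟨θ, h9, fun α hα e => ?_, fun S hS hp' hf => ?_⟩
  · obtain ⟨ω, k1, k2⟩ := h11 ⟨α, hα⟩ e
    exact congrFun (congrArg Subtype.val (hL.2 θ (tr α θ) h10 (ov_comp h10 α fun x => by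
      rw [← w1 _ k2 x]
      exact (h5 ω ⟨⟨_, k2, rfl⟩, k1⟩ _).symm) e))
  let _ := Fintype.ofFinite X
  let _ := Fintype.ofFinite (G × rootsOfUnity N ℂ)
  let _ := Fintype.ofFinite j.range
  obtain ⟨m, hm⟩ := classInner_isNat (isCharacter_comp' j (isIrr_isCharacter χ.2)) (isIrr_isCharacter θ.2)
  refine extA_of hp' hf hm (fun e => hj.idx (e.trans (H595.GoUp.mult_dvd_index_sub j.range χ
    (tr (MonoidHom.ofInjective hj.inj).symm θ) ?_ fun e => (ov_iff _ _ _).1 h10 (by rw [hm, e, Nat.cast_zero])))) ?_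
  · rw [← hm, ← Characters.Clifford.classInner_comp_mulEquiv (MonoidHom.ofInjective hj.inj)]
    exact congrArg _ (funext fun x => congrArg (θ : X → ℂ) (MulEquiv.symm_apply_apply _ x))
  let U := W ⊓ (stb B).comap (MonoidHom.snd _ _) ⊓ S.comap (Δ.subtype.comp (MonoidHom.fst _ _))
  refine extA_lift hp' ((Δ.subtype.comp (MonoidHom.fst _ _)).comp U.subtype) ((MonoidHom.snd _ _).comp U.subtype)
    (fun u => w1 _ u.2.1.1) (fun u e k => ?_) (fun u => u.2.2) (fun α hα => ?_) (fun y hy => ?_) fun T hT => h6 T ?_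
  · obtain ⟨k, hk⟩ := k
    have k1 : u.1.1 = 1 := Subtype.ext e
    exact Subtype.ext (Prod.ext k1 (eq_one_of_pow hp (w3 _ u.2.1.1 k1) hk))
  · obtain ⟨ω, k1, k2⟩ := h11 ⟨α, hS hα⟩ fun x _ => hf α hα x
    exact ⟨⟨_, ⟨k2, k1⟩, hα⟩, rfl⟩
  · obtain ⟨γ, hγ⟩ := w2 (j y)
    have k9 : γ.1 = MulAut.conj y := MulEquiv.ext fun x => hj.inj (by
      rw [← w1 _ hγ, MulAut.conj_apply, MulAut.conj_apply, map_mul, map_mul, map_inv])
    exact ⟨⟨(γ, MulAut.conj (j y)), ⟨hγ, w4 _⟩, (k9 ▸ hy : γ.1 ∈ S)⟩, k9, rfl⟩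
  · refine hT.trans ?_
    rintro _ ⟨u, rfl⟩
    exact ⟨⟨_, u.2.1.1, rfl⟩, u.2.1.2⟩

end Ab

end Cov

end Cfsg.Agent.OM.Gen
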