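import Cfsg.Agent.OM.Gen.CovB

/-!
# OM (S4894): the envelope of an overgroup (helper8)

* `Env a` : an overgroup on which the normalizer of the group of induced automorphisms acts; `exists_envelope`;
* `exists_low` : the part of an abelian quotient of order prime to `p`.
-/

set_option autoImplicit false
set_option linter.unusedSectionVars false

namespace Cfsg.Agent.OM.Gen.Cov

open Cfsg Subgroup

variable {p : ℕ} {X K : Type} [Group X] [Group K] (a : K →* MulAut X)

/-- the normalizer of the group of induced automorphisms -/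
abbrev Nm : Subgroup (MulAut X) := normalizer (a.range : Set (MulAut X))

/-- an induced automorphism -/
def el : K →* Nm a := a.codRestrict _ fun k => le_normalizer ⟨k, rfl⟩

/-- the envelope -/
def Env : Subgroup (Nm a → K) where
  carrier := {f | (∀ γ : Nm a, γ.1 * a (f γ) * γ.1⁻¹ = a (f 1)) ∧ ∀ γ k, f (γ * el a k) = k⁻¹ * f γ * k}
  one_mem' := ⟨fun γ => by simp, fun γ k => by simp⟩
  mul_mem' := fun {f g} hf hg => ⟨fun γ => by
    rw [Pi.mul_apply, Pi.mul_apply, map_mul, map_mul, ← hf.1 γ, ← hg.1 γ]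
    group, fun γ k => by
    rw [Pi.mul_apply, Pi.mul_apply, hf.2, hg.2]
    group⟩
  inv_mem' := fun {f} hf => ⟨fun γ => by
    rw [Pi.inv_apply, Pi.inv_apply, map_inv, map_inv, ← hf.1 γ]
    group, fun γ k => by
    rw [Pi.inv_apply, Pi.inv_apply, hf.2]
    group⟩

/-- translation -/
def sh (β : Nm a) (f : Env a) : Env a := ⟨fun γ => f.1 (β⁻¹ * γ), fun γ => by
  have h1 := f.2.1 (β⁻¹ * γ)
  rw [← f.2.1 (β⁻¹ * 1), coe_mul, coe_mul, OneMemClass.coe_one] at h1
  rw [← mul_left_inj ((β⁻¹).1)⁻¹, ← mul_right_inj (β⁻¹).1]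
  simpa only [mul_one, mul_inv_rev, mul_assoc] using h1, fun γ k =>
    (congrArg f.1 (mul_assoc _ _ _).symm).trans (f.2.2 _ k)⟩

/-- the action on the envelope -/
def rho : Nm a →* MulAut (Env a) where
  toFun β :=
    { toFun := sh a β
      invFun := sh a β⁻¹
      left_inv := fun f => Subtype.ext (funext fun γ => congrArg f.1 (by group))
      right_inv := fun f => Subtype.ext (funext fun γ => congrArg f.1 (by group))
      map_mul' := fun _ _ => rfl }
  map_one' := MulEquiv.ext fun f => Subtype.ext (funext fun γ => congrArg f.1 (by group))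
  map_mul' β β' := MulEquiv.ext fun f => Subtype.ext (funext fun γ => congrArg f.1 (by group))

/-- the projection -/
def pr : Env a →* K := (Pi.evalMonoidHom (fun _ => K) 1).comp (Env a).subtype

theorem rho_el (f : Env a) : rho a (el a (pr a f)) = MulAut.conj f := MulEquiv.ext fun g => Subtype.ext (funext fun γ => by
  have h1 : (el a (pr a f))⁻¹ * γ = γ * el a (f.1 γ)⁻¹ := Subtype.ext (by
    change (a (f.1 1))⁻¹ * γ.1 = γ.1 * a (f.1 γ)⁻¹
    rw [← f.2.1 γ, map_inv]
    group)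
  change g.1 ((el a (pr a f))⁻¹ * γ) = f.1 γ * g.1 γ * (f.1 γ)⁻¹
  rw [h1, g.2.2, inv_inv])

variable {a} {i : X →* K}

theorem a_i (hi : Function.Injective i) (ha : ∀ k x, i (a k x) = k * i x * k⁻¹) (x : X) : a (i x) = MulAut.conj x :=
  MulEquiv.ext fun y => hi (by rw [ha, MulAut.conj_apply, map_mul, map_mul, map_inv])

/-- the embedding -/
def emb (hi : Function.Injective i) (ha : ∀ k x, i (a k x) = k * i x * k⁻¹) : X →* Env a where
  toFun x := ⟨fun γ => i (γ.1⁻¹ x), fun γ => by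
    rw [a_i hi ha, a_i hi ha]
    exact MulEquiv.ext fun y => by simp, fun γ k => by
      have h1 := ha k⁻¹ (γ.1⁻¹ x)
      rw [inv_inv, map_inv] at h1
      refine Eq.trans ?_ h1
      change i ((γ.1 * a k)⁻¹ x) = _
      rw [mul_inv_rev, MulAut.mul_apply]⟩
  map_one' := Subtype.ext (funext fun γ => by simp)
  map_mul' x y := Subtype.ext (funext fun γ => by simp)

theorem val_one {f : Env a} (h : a (pr a f) = 1) (γ : Nm a) : a (f.1 γ) = 1 := by
  have h1 := (f.2.1 γ).trans h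
  rwa [mul_inv_eq_one, mul_eq_left] at h1

theorem pr_surj (hc : ∀ k, a k = 1 → k ∈ center K) : Function.Surjective (pr a) := fun k => by
  choose s hs using fun γ : Nm a => QuotientGroup.mk_out_eq_mul (el a).range γ
  choose t ht using fun γ => (s γ).2
  choose u hu using fun γ : Nm a => (mem_normalizer_iff''.1 γ.2 (a k)).1 ⟨k, rfl⟩
  let o : Nm a → Nm a := fun γ => (γ : Nm a ⧸ (el a).range).out
  have h1 : ∀ γ, o γ = γ * el a (t γ) := fun γ => by rw [ht, ← hs]
  have h2 : ∀ γ : Nm a, γ.1 * a (t γ * u (o γ) * (t γ)⁻¹) * γ.1⁻¹ = a k := fun γ => by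
    rw [map_mul, map_mul, map_inv, hu, h1]
    change _ * (_ * ((γ.1 * a (t γ))⁻¹ * _ * (γ.1 * a (t γ))) * _) * _ = _
    group
  let f : Env a := ⟨fun γ => t γ * u (o γ) * (t γ)⁻¹, fun γ => by
    rw [h2, ← h2 1, OneMemClass.coe_one, one_mul, inv_one, mul_one], fun γ l => by
      have h3 : o (γ * el a l) = o γ := congrArg Quotient.out (QuotientGroup.mk_mul_of_mem γ ⟨l, rfl⟩)
      have h4 := mem_center_iff.1 (hc ((t γ)⁻¹ * (l * t (γ * el a l))) (by
        have h4 := (h1 _).symm.trans (h3.trans (h1 γ))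
        rw [mul_assoc, mul_right_inj, ← map_mul] at h4
        rw [map_mul, map_inv, inv_mul_eq_one]
        exact (congrArg Subtype.val h4).symm)) (u (o γ))
      change t _ * u (o _) * (t _)⁻¹ = l⁻¹ * (t γ * u (o γ) * (t γ)⁻¹) * l
      rw [h3]
      calc _ = l⁻¹ * t γ * ((t γ)⁻¹ * (l * t (γ * el a l)) * u (o γ)) * (t (γ * el a l))⁻¹ := by group
        _ = _ := by rw [← h4]; group⟩
  have h3 : a ((pr a f)⁻¹ * k) = 1 := by
    have h3 := h2 1
    rw [OneMemClass.coe_one, one_mul, inv_one, mul_one] at h3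
    rw [map_mul, map_inv, inv_mul_eq_one]
    exact h3
  exact ⟨f * ⟨fun _ => (pr a f)⁻¹ * k, fun γ => by rw [h3, mul_one, mul_inv_cancel], fun _ l => by
    rw [mem_center_iff.1 (hc _ h3), inv_mul_cancel_right]⟩, mul_inv_cancel_left _ _⟩

theorem env_cen (hc : ∀ k, a k = 1 → k ∈ center K) {f : Env a} (h : a (pr a f) = 1) : f ∈ center (Env a) :=
  mem_center_iff.2 fun g => Subtype.ext (funext fun γ => mem_center_iff.1 (hc _ (val_one h γ)) (g.1 γ))

variable [Finite X] [Finite K] [Fact p.Prime]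

/-- **the envelope** -/
theorem exists_envelope (h : Ab p i) (hZ : ¬ p ∣ Nat.card (center X)) (ha : ∀ k x, i (a k x) = k * i x * k⁻¹)
    (hc : ∀ k, a k = 1 → k ∈ center K) {c : K} (hg : ∀ k, ∃ (n : ℕ) (x : X), a k = MulAut.conj x * a c ^ n) :
    ∃ (L : Type) (_ : Group L) (_ : Finite L) (ι : X →* L) (ρ : Nm a →* MulAut L) (π : L →* K) (n : ℕ), Ab p ι ∧
      (∀ γ x, ρ γ (ι x) = ι (γ.1 x)) ∧ (∀ g, ∃ γ, ρ γ = MulAut.conj g) ∧ Function.Surjective π ∧ π.ker ≤ center L ∧
      ¬ p ∣ n ∧ (∀ g, π g = 1 → g ^ n = 1) ∧ ∀ x, π (ι x) = i x := by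
  have := h.normal
  have h1 : ∀ γ x, rho a γ (emb h.inj ha x) = emb h.inj ha (γ.1 x) := fun γ x => Subtype.ext (funext fun β => by
    change i ((γ.1⁻¹ * β.1)⁻¹ x) = i (β.1⁻¹ (γ.1 x))
    rw [mul_inv_rev, inv_inv, MulAut.mul_apply])
  have h2 : ∀ x, pr a (emb h.inj ha x) = i x := fun _ => rfl
  have h3 : ∀ g, pr a g = 1 → g ^ (i.range.index * Nat.card (center X)) = 1 := fun g hg =>
    Subtype.ext (funext fun γ => h.cen_pow fun x =>
      (mem_center_iff.1 (hc _ (val_one (by rw [hg, map_one]) γ)) _).symm)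
  have : (emb h.inj ha).range.Normal := ⟨by
    rintro _ ⟨x, rfl⟩ g
    exact ⟨_, (h1 _ x).symm.trans (by rw [rho_el, MulAut.conj_apply])⟩⟩
  let q := QuotientGroup.mk' (emb h.inj ha).range
  have h4 : ∀ x, q (emb h.inj ha x) = 1 := fun x => (QuotientGroup.eq_one_iff _).2 ⟨x, rfl⟩
  refine ⟨Env a, inferInstance, inferInstance, emb h.inj ha, rho a, pr a, _, ⟨fun x y e => h.inj (congrArg (pr a) e),
    fun f g => (QuotientGroup.eq_one_iff _).1 ?_, ndvd_of_pow (n := i.range.index * (i.range.index * Nat.card (center X)))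
      (fun e => ((Fact.out : p.Prime).dvd_mul.1 e).elim h.idx (h.ndvd_mul hZ)) fun y _ => ?_⟩, h1,
    fun g => ⟨_, rho_el a g⟩, pr_surj hc, fun g hg => env_cen hc (by rw [show pr a g = 1 from hg, map_one]),
    h.ndvd_mul hZ, h3, h2⟩
  · obtain ⟨l, hl⟩ := pr_surj hc c
    have h5 : ∀ f : Env a, ∃ z ∈ center (Env a), ∃ n : ℕ, q f = q z * q l ^ n := fun f => by
      obtain ⟨n, x, e⟩ := hg (pr a f)
      refine ⟨f * (emb h.inj ha x * l ^ n)⁻¹, env_cen hc ?_, n, ?_⟩
      · simp only [map_mul, map_inv, map_pow, h2, hl, a_i h.inj ha, e, mul_inv_cancel]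
      · rw [map_mul, map_inv, map_mul, map_pow, h4, one_mul, inv_mul_cancel_right]
    have h6 : ∀ z ∈ center (Env a), ∀ g, Commute (q g) (q z) := fun z hz g =>
      (show Commute g z from mem_center_iff.1 hz g).map q
    obtain ⟨z, k1, n, k2⟩ := h5 f
    obtain ⟨w, k3, m, k4⟩ := h5 g
    have h7 : Commute (q f) (q g) := by
      rw [k4]
      refine (h6 w k3 f).mul_right (Commute.pow_right ?_ m)
      rw [k2]
      exact (h6 z k1 l).symm.mul_left (Commute.pow_self _ n)
    change q _ = 1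
    rw [map_mul, map_mul, map_mul, map_inv, map_inv, h7.eq, mul_inv_cancel_right, mul_inv_cancel]
  · obtain ⟨f, rfl⟩ := QuotientGroup.mk'_surjective _ y
    obtain ⟨x, hx⟩ := i.range.pow_index_mem (pr a f)
    have h5 := congrArg q (h3 (f ^ i.range.index * (emb h.inj ha x)⁻¹) (by
      rw [map_mul, map_inv, map_pow, h2, hx, mul_inv_cancel]))
    rwa [map_pow, map_mul, map_inv, h4, inv_one, mul_one, map_pow, ← pow_mul, map_one] at h5

/-- the part of the quotient of order prime to `p` -/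
theorem exists_low (hi : Function.Injective i) (hc : commutator K ≤ i.range) : ∃ (Y : Subgroup K) (h : ∀ x, i x ∈ Y)
    (s : ℕ), Y.Normal ∧ (∃ k, Y.index = p ^ k) ∧ Ab p (i.codRestrict Y h) ∧ ∀ k, k ^ p ^ s ∈ Y := by
  have h1 : ∀ x y : K, x * y * x⁻¹ * y⁻¹ ∈ i.range := fun x y => hc (commutator_mem_commutator (mem_top x) (mem_top y))
  have := normal_of_ab h1
  obtain ⟨s, m, hm, hs⟩ := Nat.exists_eq_pow_mul_and_not_dvd (index_ne_zero_of_finite (H := i.range)) p
    (Fact.out : p.Prime).ne_one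
  let q := QuotientGroup.mk' i.range
  have h2 : ∀ x y, Commute (q x) (q y) := fun x y => by
    have h2 : q _ = 1 := (QuotientGroup.eq_one_iff _).2 (h1 x y)
    rwa [map_mul, map_mul, map_mul, map_inv, map_inv, mul_inv_eq_one, mul_inv_eq_iff_eq_mul] at h2
  let Y : Subgroup K :=
    { carrier := {k | q k ^ m = 1}
      one_mem' := by simp
      mul_mem' := fun {x y} hx hy => by
        change q (x * y) ^ m = 1
        rw [map_mul, (h2 x y).mul_pow, hx, hy, one_mul]
      inv_mem' := fun {x} hx => by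
        change q x⁻¹ ^ m = 1
        rw [map_inv, inv_pow, hx, inv_one] }
  have h3 : ∀ x ∈ i.range, x ∈ Y := fun x hx => by
    change q x ^ m = 1
    rw [show q x = 1 from (QuotientGroup.eq_one_iff _).2 hx, one_pow]
  have h4 : ∀ k, k ^ p ^ s ∈ Y := fun k => by
    change q (k ^ p ^ s) ^ m = 1
    rw [← map_pow, ← pow_mul, ← hs]
    exact (QuotientGroup.eq_one_iff _).2 (i.range.pow_index_mem k)
  have h5 : Y.Normal := normal_of_ab fun x y => h3 _ (h1 x y)
  have h6 : ∀ x y : Y, x * y * x⁻¹ * y⁻¹ ∈ (i.codRestrict Y fun x => h3 _ ⟨x, rfl⟩).range := fun x y =>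
    (h1 x y).imp fun _ e => Subtype.ext e
  have := normal_of_ab h6
  refine ⟨Y, fun x => h3 _ ⟨x, rfl⟩, s, h5, IsPGroup.iff_card.1 fun y => ?_, ⟨(i.injective_codRestrict _ _).2 hi, h6,
    ndvd_of_pow hm fun y _ => ?_⟩, h4⟩
  · obtain ⟨k, rfl⟩ := QuotientGroup.mk_surjective y
    exact ⟨s, (QuotientGroup.eq_one_iff (k ^ p ^ s)).2 (h4 k)⟩
  · obtain ⟨k, rfl⟩ := QuotientGroup.mk_surjective y
    obtain ⟨x, hx⟩ := (QuotientGroup.eq_one_iff (N := i.range) (k.1 ^ m)).1 k.2
    exact (QuotientGroup.eq_one_iff (k ^ m)).2 ⟨x, Subtype.ext hx⟩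

end Cfsg.Agent.OM.Gen.Cov
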