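import Cfsg.Agent.OM.Gen.Cov

/-!
# OM (S4894): blocks which are covered by nilpotent blocks, no cyclicity hypothesis (helper8)

* `Eqv i a α` : `α` acts on the overgroup modulo its centre and respects commutators;
* `nilCov2`, `nilCov2'`.
-/

set_option autoImplicit false
set_option linter.unusedSectionVars false

namespace Cfsg.Agent.OM.Gen

open Cfsg Subgroup Cfsg.Agent.Characters.Core Cfsg.Agent.Blocks.Basic Cfsg.Agent.TID.Red Cfsg.Agent.OM.Gen.Cov
open Cfsg.Agent.H666.Clif (tl tl_apply)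

variable {p : ℕ} {M : Ideal AlgInt} {X K : Type} [Group X] [Group K]

/-- `α` acts on the overgroup modulo its centre and respects commutators -/
structure Eqv (i : X →* K) (a : K →* MulAut X) (α : MulAut X) : Prop where
  ex : ∀ k, ∃ m, a m = α * a k * α⁻¹
  cm : ∀ k k' m m' x, a m = α * a k * α⁻¹ → a m' = α * a k' * α⁻¹ → i x = k * k' * k⁻¹ * k'⁻¹ →
    i (α x) = m * m' * m⁻¹ * m'⁻¹

namespace CovE

variable {a : K →* MulAut X} {i : X →* K}

theorem cm_congr (hc : ∀ k, a k = 1 → k ∈ center K) {m n m' n' : K} (h : a m = a n) (h' : a m' = a n') :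
    m * m' * m⁻¹ * m'⁻¹ = n * n' * n⁻¹ * n'⁻¹ := by
  have h1 := mem_center_iff.1 (hc (n⁻¹ * m) (by rw [map_mul, map_inv, h, inv_mul_cancel]))
  have h2 := mem_center_iff.1 (hc (n'⁻¹ * m') (by rw [map_mul, map_inv, h', inv_mul_cancel]))
  calc _ = n * ((n⁻¹ * m) * m') * m⁻¹ * m'⁻¹ := by group
    _ = n * n' * ((n'⁻¹ * m') * n⁻¹) * m'⁻¹ := by rw [← h1]; group
    _ = _ := by rw [← h2]; group

theorem eqv_a (ha : ∀ k x, i (a k x) = k * i x * k⁻¹) (hc : ∀ k, a k = 1 → k ∈ center K) (l : K) : Eqv i a (a l) :=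
  ⟨fun k => ⟨l * k * l⁻¹, by rw [map_mul, map_mul, map_inv]⟩, fun k k' m m' x h h' e => by
    rw [ha, e, cm_congr hc (m := m) (m' := m') (n := l * k * l⁻¹) (n' := l * k' * l⁻¹) (by rw [h, map_mul, map_mul, map_inv])
      (by rw [h', map_mul, map_mul, map_inv])]
    group⟩

theorem eqv_mul {α β : MulAut X} (h : Eqv i a α) (h' : Eqv i a β) : Eqv i a (α * β) :=
  ⟨fun k => by
    obtain ⟨m, hm⟩ := h'.ex k
    obtain ⟨n, hn⟩ := h.ex m
    exact ⟨n, by rw [hn, hm]; group⟩, fun k k' m m' x e e' hx => by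
    obtain ⟨n, hn⟩ := h'.ex k
    obtain ⟨n', hn'⟩ := h'.ex k'
    exact h.cm n n' m m' _ (by rw [e, hn]; group) (by rw [e', hn']; group) (h'.cm k k' n n' x hn hn' hx)⟩

/-- the group of these automorphisms -/
def EqG [Finite X] (ha : ∀ k x, i (a k x) = k * i x * k⁻¹) (hc : ∀ k, a k = 1 → k ∈ center K) : Subgroup (MulAut X) where
  carrier := {α | Eqv i a α}
  one_mem' := map_one a ▸ eqv_a ha hc 1
  mul_mem' := eqv_mul
  inv_mem' := fun {α} h => by
    have h1 : ∀ n : ℕ, Eqv i a (α ^ n) := fun n => by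
      induction n with
      | zero => exact (pow_zero α).symm ▸ map_one a ▸ eqv_a ha hc 1
      | succ n ih => exact (pow_succ α n).symm ▸ eqv_mul ih h
    rw [← eq_inv_of_mul_eq_one_left (show α ^ (orderOf α - 1) * α = 1 by
      rw [← pow_succ, Nat.sub_add_cancel (orderOf_pos α), pow_orderOf_eq_one])]
    exact h1 _

section env

variable {N : Subgroup (MulAut X)} (h : ∀ k, a k ∈ N)

/-- the envelope -/
def Env : Subgroup (N → K) where
  carrier := {f | (∀ γ : N, γ.1 * a (f γ) * γ.1⁻¹ = a (f 1)) ∧ ∀ γ k, f (γ * a.codRestrict N h k) = k⁻¹ * f γ * k}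
  one_mem' := ⟨fun γ => by simp, fun γ k => by simp⟩
  mul_mem' := fun {f g} hf hg => ⟨fun γ => by
    rw [Pi.mul_apply, Pi.mul_apply, map_mul, map_mul, ← hf.1 γ, ← hg.1 γ]
    group, fun γ k => by
    rw [Pi.mul_apply, Pi.mul_apply, hf.2, hg.2]
    group⟩
  inv_mem' := fun {f} hf => ⟨fun γ => by
    rw [Pi.inv_apply, Pi.inv_apply, map_inv, map_inv, ← hf.1 γ]
    group, fun γ k => by
    rw [Pi.inv_apply, Pi.inv_apply, hf.2]
    group⟩

/-- translation -/
def sh (β : N) (f : Env h) : Env h := ⟨fun γ => f.1 (β⁻¹ * γ), fun γ => by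
  have h1 := f.2.1 (β⁻¹ * γ)
  rw [← f.2.1 (β⁻¹ * 1), coe_mul, coe_mul, OneMemClass.coe_one] at h1
  rw [← mul_left_inj ((β⁻¹).1)⁻¹, ← mul_right_inj (β⁻¹).1]
  simpa only [mul_one, mul_inv_rev, mul_assoc] using h1, fun γ k =>
    (congrArg f.1 (mul_assoc _ _ _).symm).trans (f.2.2 _ k)⟩

/-- the action on the envelope -/
def rho : N →* MulAut (Env h) where
  toFun β :=
    { toFun := sh h β
      invFun := sh h β⁻¹
      left_inv := fun f => Subtype.ext (funext fun γ => congrArg f.1 (by group))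
      right_inv := fun f => Subtype.ext (funext fun γ => congrArg f.1 (by group))
      map_mul' := fun _ _ => rfl }
  map_one' := MulEquiv.ext fun f => Subtype.ext (funext fun γ => congrArg f.1 (by group))
  map_mul' β β' := MulEquiv.ext fun f => Subtype.ext (funext fun γ => congrArg f.1 (by group))

/-- the projection -/
def pr : Env h →* K := (Pi.evalMonoidHom (fun _ => K) 1).comp (Env h).subtype

theorem rho_el (f : Env h) : rho h (a.codRestrict N h (pr h f)) = MulAut.conj f :=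
  MulEquiv.ext fun g => Subtype.ext (funext fun γ => by
    have h1 : (a.codRestrict N h (pr h f))⁻¹ * γ = γ * a.codRestrict N h (f.1 γ)⁻¹ := Subtype.ext (by
      change (a (f.1 1))⁻¹ * γ.1 = γ.1 * a (f.1 γ)⁻¹
      rw [← f.2.1 γ, map_inv]
      group)
    change g.1 ((a.codRestrict N h (pr h f))⁻¹ * γ) = f.1 γ * g.1 γ * (f.1 γ)⁻¹
    rw [h1, g.2.2, inv_inv])

/-- the embedding -/
def emb (hi : Function.Injective i) (ha : ∀ k x, i (a k x) = k * i x * k⁻¹) : X →* Env h where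
  toFun x := ⟨fun γ => i (γ.1⁻¹ x), fun γ => by
    rw [a_i hi ha, a_i hi ha]
    exact MulEquiv.ext fun y => by simp, fun γ k => by
      have h1 := ha k⁻¹ (γ.1⁻¹ x)
      rw [inv_inv, map_inv] at h1
      refine Eq.trans ?_ h1
      change i ((γ.1 * a k)⁻¹ x) = _
      rw [mul_inv_rev, MulAut.mul_apply]⟩
  map_one' := Subtype.ext (funext fun γ => by simp)
  map_mul' x y := Subtype.ext (funext fun γ => by simp)

variable {h}

theorem val_one {f : Env h} (e : a (pr h f) = 1) (γ : N) : a (f.1 γ) = 1 := by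
  have h1 := (f.2.1 γ).trans e
  rwa [mul_inv_eq_one, mul_eq_left] at h1

theorem pr_surj (hc : ∀ k, a k = 1 → k ∈ center K) (hN : ∀ γ ∈ N, ∀ k, ∃ m, a m = γ * a k * γ⁻¹) :
    Function.Surjective (pr h) := fun k => by
  choose s hs using fun γ : N => QuotientGroup.mk_out_eq_mul (a.codRestrict N h).range γ
  choose t ht using fun γ => (s γ).2
  choose u hu using fun γ : N => hN _ (inv_mem γ.2) k
  let o : N → N := fun γ => (γ : N ⧸ (a.codRestrict N h).range).out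
  have h1 : ∀ γ, o γ = γ * a.codRestrict N h (t γ) := fun γ => by rw [ht, ← hs]
  have h2 : ∀ γ : N, γ.1 * a (t γ * u (o γ) * (t γ)⁻¹) * γ.1⁻¹ = a k := fun γ => by
    rw [map_mul, map_mul, map_inv, hu, h1]
    change _ * (_ * ((γ.1 * a (t γ))⁻¹ * _ * (γ.1 * a (t γ))⁻¹⁻¹) * _) * _ = _
    group
  let f : Env h := ⟨fun γ => t γ * u (o γ) * (t γ)⁻¹, fun γ => by
    rw [h2, ← h2 1, OneMemClass.coe_one, one_mul, inv_one, mul_one], fun γ l => by
      have h3 : o (γ * a.codRestrict N h l) = o γ := congrArg Quotient.out (QuotientGroup.mk_mul_of_mem γ ⟨l, rfl⟩)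
      have h4 := mem_center_iff.1 (hc ((t γ)⁻¹ * (l * t (γ * a.codRestrict N h l))) (by
        have h4 := (h1 _).symm.trans (h3.trans (h1 γ))
        rw [mul_assoc, mul_right_inj, ← map_mul] at h4
        rw [map_mul, map_inv, inv_mul_eq_one]
        exact (congrArg Subtype.val h4).symm)) (u (o γ))
      change t _ * u (o _) * (t _)⁻¹ = l⁻¹ * (t γ * u (o γ) * (t γ)⁻¹) * l
      rw [h3]
      calc _ = l⁻¹ * t γ * ((t γ)⁻¹ * (l * t (γ * a.codRestrict N h l)) * u (o γ)) *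
            (t (γ * a.codRestrict N h l))⁻¹ := by group
        _ = _ := by rw [← h4]; group⟩
  have h3 : a ((pr h f)⁻¹ * k) = 1 := by
    have h3 := h2 1
    rw [OneMemClass.coe_one, one_mul, inv_one, mul_one] at h3
    rw [map_mul, map_inv, inv_mul_eq_one]
    exact h3
  exact ⟨f * ⟨fun _ => (pr h f)⁻¹ * k, fun γ => by rw [h3, mul_one, mul_inv_cancel], fun _ l => by
    rw [mem_center_iff.1 (hc _ h3), inv_mul_cancel_right]⟩, mul_inv_cancel_left _ _⟩

end env

variable [Finite X] [Finite K] [Fact p.Prime]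

/-- **the envelope** -/
theorem exists_envelope (h : Ab p i) (hZ : ¬ p ∣ Nat.card (center X)) (ha : ∀ k x, i (a k x) = k * i x * k⁻¹)
    (hc : ∀ k, a k = 1 → k ∈ center K) :
    ∃ (L : Type) (_ : Group L) (_ : Finite L) (ι : X →* L) (ρ : EqG ha hc →* MulAut L) (π : L →* K) (n : ℕ), Ab p ι ∧
      (∀ γ x, ρ γ (ι x) = ι (γ.1 x)) ∧ (∀ g, ∃ γ, ρ γ = MulAut.conj g) ∧ Function.Surjective π ∧ π.ker ≤ center L ∧
      ¬ p ∣ n ∧ (∀ g, π g = 1 → g ^ n = 1) ∧ ∀ x, π (ι x) = i x := by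
  have := h.normal
  have h0 : ∀ k, a k ∈ EqG ha hc := eqv_a ha hc
  have h1 : ∀ γ x, rho h0 γ (emb h0 h.inj ha x) = emb h0 h.inj ha (γ.1 x) := fun γ x => Subtype.ext (funext fun β => by
    change i ((γ.1⁻¹ * β.1)⁻¹ x) = i (β.1⁻¹ (γ.1 x))
    rw [mul_inv_rev, inv_inv, MulAut.mul_apply])
  have h2 : ∀ x, pr h0 (emb h0 h.inj ha x) = i x := fun _ => rfl
  have h3 : ∀ g, pr h0 g = 1 → ∀ γ, g.1 γ ∈ center K := fun g hg γ => hc _ (val_one (by rw [hg, map_one]) γ)
  have h4 : ∀ g, pr h0 g = 1 → g ^ (i.range.index * Nat.card (center X)) = 1 := fun g hg =>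
    Subtype.ext (funext fun γ => h.cen_pow fun x => (mem_center_iff.1 (h3 g hg γ) _).symm)
  have h5 : ∀ f g : Env h0, f * g * f⁻¹ * g⁻¹ ∈ (emb h0 h.inj ha).range := fun f g => (h.ab (f.1 1) (g.1 1)).imp fun x e =>
    Subtype.ext (funext fun γ => Eqv.cm (inv_mem γ.2 : γ.1⁻¹ ∈ EqG ha hc) _ _ _ _ x (by rw [← f.2.1 γ]; group)
      (by rw [← g.2.1 γ]; group) e)
  have := normal_of_ab h5
  let q := QuotientGroup.mk' (emb h0 h.inj ha).range
  refine ⟨Env h0, inferInstance, inferInstance, emb h0 h.inj ha, rho h0, pr h0, _,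
    ⟨fun x y e => h.inj (congrArg (pr h0) e), h5, ndvd_of_pow (n := i.range.index * (i.range.index * Nat.card (center X)))
      (fun e => ((Fact.out : p.Prime).dvd_mul.1 e).elim h.idx (h.ndvd_mul hZ)) fun y _ => ?_⟩, h1,
    fun g => ⟨_, rho_el h0 g⟩, pr_surj hc fun _ e => e.ex, fun g hg => mem_center_iff.2 fun f =>
      Subtype.ext (funext fun γ => mem_center_iff.1 (h3 g hg γ) (f.1 γ)), h.ndvd_mul hZ, h4, h2⟩
  obtain ⟨f, rfl⟩ := QuotientGroup.mk'_surjective _ y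
  obtain ⟨x, hx⟩ := i.range.pow_index_mem (pr h0 f)
  have h6 := congrArg q (h4 (f ^ i.range.index * (emb h0 h.inj ha x)⁻¹) (by
    rw [map_mul, map_inv, map_pow, h2, hx, mul_inv_cancel]))
  rwa [map_pow, map_mul, map_inv, show q (emb h0 h.inj ha x) = 1 from (QuotientGroup.eq_one_iff _).2 ⟨x, rfl⟩, inv_one,
    mul_one, map_pow, ← pow_mul, map_one] at h6

end CovE

variable [Finite X] [Finite K] {b : Set (IrrCharacter X)} {B : Set (IrrCharacter K)} {θ : IrrCharacter X}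
  {χ : IrrCharacter K}

/-- **blocks which are covered by nilpotent blocks** -/
theorem nilCov2 (hM : IsPModular p M) (Γ : Subgroup (MulAut X)) (i : X →* K) (a : K →* MulAut X)
    (hZ : ¬ p ∣ Nat.card (center X)) (hi : Function.Injective i) (ha : ∀ k x, i (a k x) = k * i x * k⁻¹)
    (hc : commutator K ≤ i.range) (h2 : p = 2 → (∀ k, a k = 1 → k ∈ center K) ∧ ∀ α ∈ Γ, Eqv i a α)
    (hb : IsPBlock M b) (hB : IsNilpotentBlock p M B) (hθ : θ ∈ b) (hχ : χ ∈ B) (h : Ov i (χ : K → ℂ) θ) :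
    ∃ θ, Lift p Γ b θ := by
  by_cases hp : p ≠ 2
  · exact nilCov_odd hM hp Γ i hi hc hb hB hθ hχ h
  obtain rfl := not_not.1 hp
  obtain ⟨h3, h5⟩ := h2 rfl
  have := hM.2.1.isPrime
  obtain ⟨Y, h1, s, _, h2, hA, h6⟩ := exists_low (p := 2) hi hc
  obtain ⟨η, h7, h8⟩ := exists_mid (ι := i.codRestrict Y h1) (ι₂ := Y.subtype) (fun _ => rfl) (isIrr_isClassFunction χ.2) h
  have ha' : ∀ (k : Y) x, i.codRestrict Y h1 (a.comp Y.subtype k x) = k * i.codRestrict Y h1 x * k⁻¹ :=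
    fun k x => Subtype.ext (ha k x)
  have hc' : ∀ k : Y, a.comp Y.subtype k = 1 → k ∈ center Y := fun k e =>
    mem_center_iff.2 fun g => Subtype.ext (mem_center_iff.1 (h3 k e) g)
  obtain ⟨L, _, _, ι, ρ, π, n, k1, k2, k3, k4, k5, k6, k7, k8⟩ := CovE.exists_envelope hA hZ ha' hc'
  have : NeZero ι.range.index := ⟨index_ne_zero_of_finite⟩
  let Z := rootsOfUnity ι.range.index ℂ
  have k9 : Function.Surjective (π.comp (MonoidHom.fst L Z)) := k4.comp Prod.fst_surjective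
  let ξ := tl (Z.subtype.comp (MonoidHom.snd L Z)) ⟨_, isIrr_comp _ k9 η.2⟩
  have k10 : ∀ g : L × Z, ξ.1 g = (g.2.1 : ℂ) * η.1 (π g.1) := fun _ => rfl
  obtain ⟨ψ, k11, k12, k13⟩ := k1.env hM hZ k2 k3 hb rfl (CovT.nil_pull hM _ k9 (fun g hg => mem_center_iff.2 fun g' =>
      Prod.ext (mem_center_iff.1 (k5 hg) _) (mul_comm _ _)) (ndvd_of_pow (n := n * ι.range.index)
      (fun e => (Nat.prime_two.dvd_mul.1 e).elim k6 k1.idx) fun g _ => Subtype.ext (Prod.ext (by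
        change g.1.1 ^ _ = 1
        rw [pow_mul, k7 g.1.1 g.2, one_pow]) (Subtype.ext (by
        change g.1.2.1 ^ _ = 1
        rw [mul_comm, pow_mul, show g.1.2.1 ^ _ = 1 from g.1.2.2, one_pow]))))
      (Z.subtype.comp (MonoidHom.snd L Z))
      (CovT.nil_under hM Y h2 hB hχ h7) (mem_blockOf_self η) k10) (mem_blockOf_self ξ)
    (fun z => by rw [k10, k10]; simp) hθ (Ov.congr (fun x => by rw [k10]; simp [k8]) h8)
  have k14 : Γ ≤ CovE.EqG ha' hc' := fun α hα => ⟨fun y => by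
    have := hA.normal
    obtain ⟨m, hm⟩ := (h5 α hα).ex y
    obtain ⟨w, e⟩ := (i.codRestrict Y h1).range.pow_index_mem y
    obtain ⟨u, v, e1⟩ : ∃ u v : ℕ, 2 ^ s * u = (i.codRestrict Y h1).range.index * v + 1 := by
      obtain ⟨v, e1⟩ := (Nat.modEq_iff_dvd' (Nat.one_le_pow _ _ (by positivity))).1
        (Nat.ModEq.pow_totient ((Nat.prime_two.coprime_iff_not_dvd.2 hA.idx).pow_left s)).symm
      refine ⟨(2 ^ s) ^ ((i.codRestrict Y h1).range.index.totient - 1), v, ?_⟩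
      rw [← e1, ← pow_succ', Nat.sub_add_cancel (Nat.totient_pos.2 (Nat.pos_of_ne_zero index_ne_zero_of_finite)),
        Nat.sub_add_cancel (Nat.one_le_pow _ _ (by positivity))]
    refine ⟨⟨_, h6 m⟩ ^ u * (⟨_, h1 (α w)⟩ ^ v)⁻¹, ?_⟩
    have e2 : MulAut.conj w = a y ^ (i.codRestrict Y h1).range.index := by
      rw [← map_pow, ← a_i hi ha]
      exact congrArg a (congrArg Subtype.val e)
    have e3 : MulAut.conj (α w) = α * MulAut.conj w * α⁻¹ := MulEquiv.ext fun x => by simp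
    simp only [map_mul, map_pow, map_inv, MonoidHom.comp_apply, coe_subtype, a_i hi ha, hm, conj_pow, e3, e2, ← pow_mul, e1]
    rw [pow_succ']
    group, fun k k' m m' x e e' hx => Subtype.ext ((h5 α hα).cm k k' m m' x e e' (congrArg Subtype.val hx))⟩
  exact ⟨ψ, k11, fun α hα => k12 α (k14 hα), fun e => absurd rfl e, fun _ S hS => k13 S (hS.trans k14)⟩

variable {H : Type} [Group H] [Finite H]

/-- **an overgroup of a cover** -/
theorem nilCov2' (hM : IsPModular p M) (Γ : Subgroup (MulAut X)) (π : H →* X) (hπ : Function.Surjective π) (i : H →* K)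
    (a : K →* MulAut X) (hZ : ¬ p ∣ Nat.card (center X)) (hi : Function.Injective i)
    (hk : ∀ z, π z = 1 → i z ∈ center K) (ha : ∀ k x y, i y = k * i x * k⁻¹ → π y = a k (π x))
    (hc : commutator K ≤ i.range) (h2 : p = 2 → (∀ k, a k = 1 → k ∈ center K) ∧ ∀ α ∈ Γ,
      (∀ k, ∃ m, a m = α * a k * α⁻¹) ∧ ∀ k k' m m' x y, a m = α * a k * α⁻¹ → a m' = α * a k' * α⁻¹ →
        i x = k * k' * k⁻¹ * k'⁻¹ → i y = m * m' * m⁻¹ * m'⁻¹ → π y = α (π x))
    (hb : IsPBlock M b) (hB : IsNilpotentBlock p M B) (hθ : θ ∈ b) (hχ : χ ∈ B)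
    (h : Ov i (χ : K → ℂ) fun x => (θ : X → ℂ) (π x)) : ∃ θ, Lift p Γ b θ := by
  obtain ⟨L, _, _, q, j, ξ, h1, h3, h4, h5, h6, h7⟩ := exists_push hM π hπ i hi hk hB hχ h
  have := hM.2.1.isPrime
  have h9 : ∀ x y : K, x * y * x⁻¹ * y⁻¹ ∈ i.range := fun x y => hc (commutator_mem_commutator (mem_top x) (mem_top y))
  have := normal_of_ab h9
  let a' := q.liftOfSurjective h1 ⟨a, fun k e => by
    obtain ⟨z, hz, rfl⟩ := h3.le e
    refine MulEquiv.ext fun x => ?_
    obtain ⟨y, rfl⟩ := hπ x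
    exact (ha _ y y (by rw [← mem_center_iff.1 (hk z hz), mul_inv_cancel_right])).symm⟩
  have h8 : ∀ k, a' (q k) = a k := fun k => q.liftOfRightInverse_comp_apply _ _ _ k
  refine nilCov2 hM Γ j a' hZ h4 (fun k x => ?_) (comm_le_push h1 h5 hc) (fun hp => ?_) hb h6 hθ (mem_blockOf_self ξ) h7
  · obtain ⟨k, rfl⟩ := h1 k
    obtain ⟨x, rfl⟩ := hπ x
    obtain ⟨y, e⟩ := this.conj_mem _ ⟨x, rfl⟩ k
    rw [h8, ← ha k x y e, h5, h5, e, map_mul, map_mul, map_inv]
  · obtain ⟨k1, k2⟩ := h2 hp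
    refine ⟨h1.forall.2 fun k e => mem_center_iff.2 (h1.forall.2 fun g => ?_), fun α hα =>
      ⟨h1.forall.2 fun k => ((k2 α hα).1 k).elim fun m e => ⟨q m, by rw [h8, h8, e]⟩, h1.forall.2 fun k =>
        h1.forall.2 fun k' => h1.forall.2 fun m => h1.forall.2 fun m' x e e' hx => ?_⟩⟩
    · rw [← map_mul, ← map_mul, mem_center_iff.1 (k1 k ((h8 k).symm.trans e))]
    · obtain ⟨u, hu⟩ := h9 k k'
      obtain ⟨v, hv⟩ := h9 m m'
      rw [h8, h8] at e e'
      rw [h4 (show j x = j (π u) by simp only [hx, h5, hu, map_mul, map_inv]), ← (k2 α hα).2 k k' m m' u v e e' hu hv, h5, hv]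
      simp only [map_mul, map_inv]

end Cfsg.Agent.OM.Gen
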