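import Cfsg.Agent.OM.Gen.Nil
import Cfsg.Agent.OM.Lo.Dec
import Cfsg.Agent.H653.CycHeight
import Cfsg.Agent.S4649

/-!
# OM (S4894): cyclic defect groups (helper8)

* `Cyc.star`, `Cyc.leaf` : the numbers; `lift_of_unique`; `boxCyc : BoxCyc`.
-/

set_option autoImplicit false
set_option linter.unusedSectionVars false

namespace Cfsg.Agent.OM.Gen

open Cfsg Subgroup Finset Cfsg.Agent.Characters.Core Cfsg.Agent.Blocks.Basic Cfsg.Agent.OM.Lo

namespace Cyc

variable {ι : Type} {X : Finset ι} {l m t : ℤ} {s ε : ι → ℤ}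

/-- the tree is a star -/
theorem star (hX : (X.card : ℤ) = l) (hm : 1 ≤ m) (ht : 1 ≤ t) (hs : ∀ χ ∈ X, 1 ≤ s χ)
    (hε : ∀ χ ∈ X, ε χ = 1 ∨ ε χ = -1) (h1 : ∑ χ ∈ X, ε χ * s χ = t)
    (h2 : ∑ χ ∈ X, s χ * s χ + m * t * t = l * (m * l + 1)) (h3 : ∀ χ ∈ X, m * l + 1 ∣ s χ + m * t * ε χ) :
    (t = l ∧ ∀ χ ∈ X, s χ = 1) ∨ (m = 1 ∧ t = 1) := by
  have l0 : 0 ≤ l := hX ▸ Int.natCast_nonneg _
  have h4 : ∀ χ ∈ X, 0 ≤ s χ * s χ - 1 := fun χ h => by nlinarith [hs χ h]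
  have h5 : ∑ χ ∈ X, (s χ * s χ - 1) = m * (l * l - t * t) := by
    rw [sum_sub_distrib, sum_const, nsmul_eq_mul, hX]
    linear_combination h2
  have h6 : t ≤ l := by
    have h6 := sum_nonneg h4
    rw [h5] at h6
    have h7 : 0 ≤ l * l - t * t := nonneg_of_mul_nonneg_right h6 (by omega) |> fun h => h
    nlinarith
  rcases h6.eq_or_lt with e | h6
  · refine .inl ⟨e, fun χ h => ?_⟩
    rw [e, sub_self, mul_zero] at h5
    have h7 := (sum_eq_zero_iff_of_nonneg h4).1 h5 χ h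
    nlinarith [hs χ h]
  right
  choose! w hw using h3
  have q0 : 0 < m * l + 1 := by positivity
  have h7 : m * t < m * l := by nlinarith
  have h8 : ∑ χ ∈ X, s χ * w χ = l := mul_left_cancel₀ q0.ne' (by
    rw [mul_sum, sum_congr rfl fun χ h => show (m * l + 1) * (s χ * w χ) = s χ * s χ + m * t * (ε χ * s χ) by
      linear_combination (-s χ) * hw χ h, sum_add_distrib, ← mul_sum, h1]
    linear_combination h2)
  have h9 : ∑ χ ∈ X, ε χ * w χ = t := mul_left_cancel₀ q0.ne' (by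
    rw [mul_sum, sum_congr rfl fun χ h => show (m * l + 1) * (ε χ * w χ) = ε χ * s χ + m * t by
      rcases hε χ h with e | e <;> have := hw χ h <;> rw [e] at this ⊢ <;> linarith,
      sum_add_distrib, h1, sum_const, nsmul_eq_mul, hX]
    ring)
  have h10 : (m * l + 1 - m * t) * t ≤ l := by
    refine le_trans ?_ h8.le
    nth_rewrite 2 [← h9]
    rw [mul_sum]
    refine sum_le_sum fun χ h => ?_
    have k1 := hw χ h
    have k2 := hs χ h
    have k3 : 0 < m * t := by positivity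
    rcases hε χ h with e | e <;> rw [e] at k1 ⊢
    · have k4 : 0 < w χ := pos_of_mul_pos_left (b := m * l + 1) (by linarith) q0.le |> fun h => h
      nlinarith
    · have k4 : 0 ≤ w χ := by
        by_contra k4
        nlinarith
      nlinarith
  have h11 : m * t ≤ 1 := by
    by_contra h11
    nlinarith
  constructor <;> nlinarith

/-- a leaf which is determined by its row -/
theorem leaf [DecidableEq ι] {n : ℕ} {Y : Finset ι} {d : ι → Fin n → ℕ} {δ : ι → ℤ} {δ₀ : ℤ} {k : ℕ} (hX : X.card = n)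
    (hY : Y.card = k) (hn : 2 ≤ n) (hk : 1 ≤ k) (hδ : ∀ χ, δ χ = 1 ∨ δ χ = -1) (hδ₀ : δ₀ = 1 ∨ δ₀ = -1)
    (rel : ∀ ψ ∈ Y, ∀ i, δ₀ * d ψ i + ∑ χ ∈ X, δ χ * d χ i = 0)
    (cong : ∀ ψ ∈ Y, ∀ χ ∈ X, ((k * n + 1 : ℕ) : ℤ) ∣ δ₀ * k * (∑ j, d ψ j : ℕ) - δ χ * (∑ j, d χ j : ℕ))
    (pos : ∀ χ, 0 < ∑ j, d χ j)
    (row : ∀ i, ∑ χ ∈ X, d χ i * ∑ j, d χ j + ∑ χ ∈ Y, d χ i * ∑ j, d χ j = k * n + 1) :
    ∃ θ, ∑ j, d θ j = 1 ∧ ∀ θ', θ' ∈ X ∨ θ' ∈ Y → d θ' = d θ → θ' = θ := by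
  obtain ⟨ψ, hψ⟩ := card_pos.1 (hY ▸ hk : 0 < Y.card)
  have e0 : δ₀ * δ₀ = 1 := by rcases hδ₀ with e | e <;> simp [e]
  have h1 : ∀ ψ' ∈ Y, ∀ i, (d ψ' i : ℤ) = ∑ χ ∈ X, -δ₀ * δ χ * d χ i := fun ψ' h i => by
    simp only [mul_assoc, ← mul_sum]
    linear_combination δ₀ * rel ψ' h i - (d ψ' i : ℤ) * e0
  have h2 : ∀ ψ' ∈ Y, d ψ' = d ψ := fun ψ' h => funext fun i => by exact_mod_cast (h1 ψ' h i).trans (h1 ψ hψ i).symm
  set s : ι → ℕ := fun χ => ∑ j, d χ j with hs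
  have h3 : ∀ i, ∑ χ ∈ X, d χ i * s χ + k * (d ψ i * s ψ) = k * n + 1 := fun i => by
    rw [← row i, sum_congr rfl fun χ (h : χ ∈ Y) => show d χ i * ∑ j, d χ j = d ψ i * s ψ by rw [h2 χ h], sum_const, hY,
      smul_eq_mul]
  have hε : ∀ χ, -δ₀ * δ χ = 1 ∨ -δ₀ * δ χ = -1 := fun χ => by
    rcases hδ₀ with e | e <;> rcases hδ χ with e' | e' <;> simp [e, e']
  have h4 : ∀ χ ∈ X, (k : ℤ) * n + 1 ∣ s χ + k * s ψ * (-δ₀ * δ χ) := fun χ h => by
    have h4 := (cong ψ hψ χ h).mul_left (-δ χ)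
    have e1 : δ χ * δ χ = 1 := by rcases hδ χ with e | e <;> simp [e]
    rw [Nat.cast_add, Nat.cast_mul, Nat.cast_one] at h4
    rw [show (s χ : ℤ) + k * s ψ * (-δ₀ * δ χ) = -δ χ * (δ₀ * k * (s ψ : ℤ) - δ χ * (s χ : ℤ)) by
      linear_combination (-(s χ : ℤ)) * e1]
    exact h4
  have h5 : ∀ χ i, d χ i ≤ s χ := fun χ i => single_le_sum (f := d χ) (fun _ _ => Nat.zero_le _) (mem_univ i)
  have one : ∀ χ, s χ = 1 → ∃ i, d χ i = 1 := fun χ h => by
    obtain ⟨i, -, hi⟩ := exists_ne_zero_of_sum_ne_zero (show ∑ j, d χ j ≠ 0 from (pos χ).ne')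
    exact ⟨i, by have := h5 χ i; omega⟩
  have two : ∀ (f : ι → ℕ) a b, a ∈ X → b ∈ X → a ≠ b → f a + f b ≤ ∑ χ ∈ X, f χ := fun f a b ha hb h => by
    rw [← sum_pair h]
    exact sum_le_sum_of_subset (insert_subset ha (singleton_subset_iff.2 hb))
  rcases star (X := X) (l := n) (m := k) (t := s ψ) (s := fun χ => s χ) (ε := fun χ => -δ₀ * δ χ) (by rw [hX])
    (by exact_mod_cast hk) (by exact_mod_cast pos ψ) (fun χ _ => by exact_mod_cast pos χ) (fun χ _ => hε χ) (by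
      simp only [hs, Nat.cast_sum, mul_sum]
      rw [sum_comm]
      exact sum_congr rfl fun i _ => (h1 ψ hψ i).symm) (by
      have h6 := sum_congr rfl fun i (_ : i ∈ univ) => h3 i
      rw [sum_add_distrib, sum_comm, ← mul_sum, sum_const, card_univ, Fintype.card_fin, smul_eq_mul] at h6
      simp only [← sum_mul] at h6
      rw [mul_assoc]
      exact_mod_cast h6) h4 with ⟨h6, h7⟩ | ⟨h6, h7⟩
  · have h6 : s ψ = n := by exact_mod_cast h6
    have h7 : ∀ χ ∈ X, s χ = 1 := fun χ h => by exact_mod_cast h7 χ h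
    obtain ⟨θ, hθ⟩ := card_pos.1 (by omega : 0 < X.card)
    refine ⟨θ, h7 θ hθ, fun θ' h e => ?_⟩
    rcases h with h | h
    · by_contra hne
      obtain ⟨i, hi⟩ := one θ (h7 θ hθ)
      have h8 := two (fun χ => d χ i * s χ) θ' θ h hθ hne
      have h9 : ∑ χ ∈ X, d χ i * s χ ≤ n := by
        rw [← hX, card_eq_sum_ones]
        exact sum_le_sum fun χ h => by have := h5 χ i; rw [h7 χ h] at this ⊢; omega
      have h10 := h3 i
      simp only [e, hi, h7 θ hθ, h7 θ' h] at h8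
      rw [h6] at h10
      rcases Nat.eq_zero_or_pos (d ψ i) with h11 | h11
      · rw [h11] at h10
        nlinarith
      · have : k * n ≤ k * (d ψ i * n) := Nat.mul_le_mul_left _ (Nat.le_mul_of_pos_left _ h11)
        omega
    · have h8 : s ψ = s θ := by simp only [hs, ← h2 θ' h, e]
      have := h7 θ hθ
      omega
  · obtain rfl : k = 1 := by exact_mod_cast h6
    have h7 : s ψ = 1 := by exact_mod_cast h7
    refine ⟨ψ, h7, fun θ' h e => ?_⟩
    rcases h with h | h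
    · exfalso
      obtain ⟨i, hi⟩ := one ψ h7
      have h8 : s θ' = 1 := by simp only [hs, e]; exact h7
      obtain ⟨χ, hχ, h9⟩ : ∃ χ ∈ X, 0 < -δ₀ * δ χ * d χ i := by
        by_contra h9
        push Not at h9
        have h10 := sum_nonpos h9
        rw [← h1 ψ hψ i, hi] at h10
        omega
      have h10 : -δ₀ * δ χ = 1 := (hε χ).resolve_right fun e => by rw [e] at h9; omega
      have h11 := Int.le_of_dvd (by positivity) (h10 ▸ h4 χ hχ)
      rw [h10] at h9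
      rw [h7] at h11
      have h12 := two (fun χ => d χ i * s χ) θ' χ h hχ (by rintro rfl; omega)
      have h13 := h3 i
      have h14 : s χ ≤ d χ i * s χ := Nat.le_mul_of_pos_left _ (by omega)
      simp only [e, hi, h8] at h12
      rw [hi, h7] at h13
      omega
    · exact card_le_one.1 hY.le _ h _ hψ

end Cyc

variable {p : ℕ} {M : Ideal AlgInt} {X : Type} [Group X] [Finite X] [Fact p.Prime] {b : Set (IrrCharacter X)}

/-- a member which is determined by its values at the `p`-regular elements -/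
theorem lift_of_unique (hM : IsPModular p M) (hb : IsPBlock M b) (hp : p ≠ 2) (Γ : Subgroup (MulAut X)) {θ : IrrCharacter X}
    (h : Mn b θ) (hu : ∀ ψ ∈ b, (∀ x, IsPRegular p x → (ψ : X → ℂ) x = (θ : X → ℂ) x) → ψ = θ) : Lift p Γ b θ := by
  have hp' : p.Prime := Fact.out
  have key : ∀ ψ : IrrCharacter X, (∀ x, IsPRegular p x → (ψ : X → ℂ) x = (θ : X → ℂ) x) → ∀ x, (ψ : X → ℂ) x = θ.1 x :=
    fun ψ e x => by rw [hu ψ (mem_of_reg hM hb h.1 e) e]
  obtain ⟨n, m, hm, hn⟩ := Nat.exists_eq_pow_mul_and_not_dvd (Nat.card_pos (α := X)).ne' p hp'.ne_one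
  exact ⟨h, fun α _ e => key (Blocks.ExtendedFMT.compIrr α θ) e, fun _ => ⟨m, hm, H775.S4790.mem_adjoin_of_fixed
    (Dvd.intro_left _ hn.symm) θ.2 fun k h1 h2 => key ((adm_of hn h1 h2).pw θ)
      fun x hx => congrArg (θ : X → ℂ) ((adm_of hn h1 h2).reg x hx)⟩, fun e => absurd e hp⟩

/-- **cyclic defect groups** -/
theorem boxCyc : BoxCyc := by
  classical
  intro p M hM X _ _ Γ hS b hb h1 D hD hc
  have : Fact p.Prime := ⟨hM.1⟩
  have hp : p.Prime := hM.1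
  have := hM.2.1.isPrime
  have := Fintype.ofFinite X
  have := finite_irr (G := X)
  have := Fintype.ofFinite b
  by_cases hr : blockRank p b = 1
  · exact boxNil p M hM X Γ hS.ndvd hS.inn b ((S4649.result p M hM b hb D hD hc).2 hr)
  obtain ⟨l, d, φ, h⟩ := boxDec p M hM X Γ hS.inn b D hb hD h1
  obtain ⟨n, n0, hn, hf⟩ := h.deg
  have hreg := reg_one (G := X) hp
  have deg : ∀ χ ∈ b, charDegree (χ : X → ℂ) = n * ∑ j, d χ j := fun χ hχ => ODD.Red.charDegree_of (by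
    rw [h.dec χ hχ 1 hreg]
    simp [hn, mul_sum, mul_comm])
  have pos : ∀ χ ∈ b, 0 < ∑ j, d χ j := fun χ hχ => Nat.pos_of_mul_pos_left (deg χ hχ ▸ charDegree_pos χ.2)
  have row : ∀ i, ∑ χ : b, d χ i * ∑ j, d χ j = Nat.card D := fun i => by
    rw [← h.row i, ← finsum_eq_sum_of_fintype]
    exact finsum_set_coe_eq_finsum_mem (f := fun χ => d χ i * ∑ j, d χ j) b
  have l2 : 2 ≤ l := by
    have h2 := h.rank ▸ hr
    have h3 : l ≠ 0 := fun e => h.ndvd (e ▸ dvd_zero p)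
    omega
  obtain ⟨a, ha⟩ := IsPGroup.iff_card.1 (H641.isPGroup_of_isDefectGroup hD)
  have a0 : a ≠ 0 := by
    rintro rfl
    let i : Fin l := ⟨0, by omega⟩
    obtain ⟨χ, hχ, _, rfl, j, hj, h2, h3⟩ := h.conn {i} ⟨i, rfl⟩ ⟨⟨1, by omega⟩, by simp [i]⟩
    have h4 := single_le_sum (f := fun χ : b => d χ i * ∑ j, d χ j) (fun _ _ => Nat.zero_le _) (mem_univ ⟨χ, hχ⟩)
    have h5 : d χ j + d χ i ≤ ∑ j, d χ j := by
      rw [← sum_pair (show j ≠ i from hj)]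
      exact sum_le_sum_of_subset (subset_univ _)
    have h6 : ∑ j, d χ j ≤ d χ i * ∑ j, d χ j := Nat.le_mul_of_pos_left _ (Nat.pos_of_ne_zero h2)
    rw [row, ha, pow_zero] at h4
    simp only at h4
    omega
  obtain ⟨c, hc'⟩ := H644.exists_pair_of_le_isDefectGroup hM hb hD le_rfl
  obtain ⟨z, hz⟩ := exists_prime_orderOf_dvd_card' p (G := D) (ha ▸ dvd_pow_self p a0)
  have H : H653.CycPairs.Hyp p M b ⟨D, c⟩ (z : X) :=
    ⟨hM, H644.isMaximalBrauerPair_of_isDefectGroup hM hc' hD, hc, z.2, by rw [orderOf_coe]; exact hz⟩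
  obtain ⟨k1, k2, k3⟩ := H653.CycFinal.dvd_and H ha rfl
  have k4 := h.rank.symm.trans (H653.CycMain.exists_rows H rfl k2).1
  obtain ⟨-, A, B, δ, δ₀, hAB, hall, hA, hB, hδ, hδ₀, rel, -, cong, hle⟩ := H653.CycHeight.main H ha rfl k2 k3
  rw [← k4] at k1 k2 hA hB cong
  generalize (p ^ a - 1) / l = k at k2 hB cong
  have k5 : 1 ≤ k := by
    have := Nat.one_lt_pow a0 hp.one_lt
    refine Nat.pos_of_ne_zero fun e => ?_
    rw [e, ha] at k2
    omega
  obtain ⟨θ, t1, t2⟩ := Cyc.leaf (d := fun χ : b => d χ) hA hB l2 k5 hδ hδ₀ (fun ψ hψ i => by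
      have h2 := congrFun (h.ind (fun i => (δ₀ : ℂ) * d ψ i + ∑ χ ∈ A, (δ χ : ℂ) * d χ i) fun x hx => by
        rw [← rel ψ hψ x hx, h.dec _ ψ.2 x hx, sum_congr rfl fun χ (_ : χ ∈ A) => congrArg _ (h.dec _ χ.2 x hx)]
        simp only [add_mul, sum_add_distrib, mul_sum, sum_mul, mul_assoc]
        rw [sum_comm]) i
      rw [Pi.zero_apply] at h2
      exact_mod_cast h2) (fun ψ hψ χ hχ => by
      have h2 := cong ψ hψ χ hχ
      obtain ⟨u, hu, h3⟩ : ∃ u : ℕ, ¬ p ∣ u ∧ n = p ^ n.factorization p * u :=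
        ⟨_, Nat.not_dvd_ordCompl hp n0.ne', (Nat.ordProj_mul_ordCompl_eq_self n p).symm⟩
      rw [ha, hp.factorization_pow, Finsupp.single_eq_same] at hf
      generalize n.factorization p = f at hf h3
      rw [deg _ ψ.2, deg _ χ.2, ← hf, pow_add, h3] at h2
      rw [← k2, ha, Nat.cast_pow]
      refine IsCoprime.dvd_of_dvd_mul_left (y := (u : ℤ))
        (Nat.isCoprime_iff_coprime.2 (hp.coprime_iff_not_dvd.2 hu)).pow_left
        ((mul_dvd_mul_iff_left (pow_ne_zero f (Nat.cast_ne_zero.2 hp.ne_zero : (p : ℤ) ≠ 0))).1 ?_)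
      refine h2.trans (dvd_of_eq ?_)
      push_cast
      ring) (fun χ => pos _ χ.2) fun i => by
      rw [← sum_union hAB, ← k2, ← row i]
      exact sum_congr (eq_univ_of_forall fun χ => mem_union.2 (hall χ)) fun _ _ => rfl
  refine ⟨θ, lift_of_unique hM hb (by rintro rfl; have := Nat.le_of_dvd one_pos k1; omega) Γ
    ⟨θ.2, fun ψ hψ => by rw [deg _ θ.2, deg ψ hψ, t1, mul_one]; exact dvd_mul_right _ _⟩ fun ψ hψ e => ?_⟩
  refine congrArg Subtype.val (t2 ⟨ψ, hψ⟩ (hall _) (funext fun j => ?_))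
  have h2 := congrFun (h.ind (fun j => (d ψ j : ℂ) - d θ j) fun x hx => by
    simp only [sub_mul, sum_sub_distrib]
    rw [← h.dec ψ hψ x hx, ← h.dec _ θ.2 x hx, e x hx, sub_self]) j
  exact_mod_cast sub_eq_zero.1 h2

end Cfsg.Agent.OM.Gen
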