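import Cfsg.Agent.OM.Gen.Res
import Cfsg.Agent.OM.Red.ExtO
import Cfsg.Agent.Characters.MonomialVec
import Cfsg.Agent.Characters.Brauer

/-!
# OM (S4894): the invariant member of a nilpotent block which extends over all `p`-subgroups (helper8)

* `ext_hom` : one `p`-extension; `ext_grp` : an overgroup; `exists_env` : the overgroup of a group of automorphisms;
* `nil_ext` : the result.
-/

set_option autoImplicit false
set_option linter.unusedSectionVars false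

namespace Cfsg.Agent.OM.Gen

open Cfsg Subgroup Cfsg.Agent.H649 Cfsg.Agent.Characters.Core Cfsg.Agent.Blocks.Basic

variable {p : ℕ} {M : Ideal AlgInt} {X : Type} [Group X]

theorem mn_map {Y : Type} [Group Y] (e : X ≃* Y) {b : Set (IrrCharacter X)} {θ : IrrCharacter X} (h : Mn b θ) :
    Mn (blkMap e b) (irrMap e θ) := by
  refine ⟨irrMap_mem_blkMap.2 h.1, ?_⟩
  rintro _ ⟨ψ, hψ, rfl⟩
  rw [charDegree_irrMap, charDegree_irrMap]
  exact h.2 ψ hψ

variable [Finite X] [Fact p.Prime] {b : Set (IrrCharacter X)}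

/-- one `p`-extension -/
theorem ext_hom (hM : IsPModular p M) (hb : IsNilpotentBlock p M b) {Y : Type} [Group Y] [Finite Y] (ι : X →* Y)
    (hι : Function.Injective ι) [ι.range.Normal] (hN : ∃ k : ℕ, ι.range.index = p ^ k)
    (hst : ∀ y : Y, ∃ α : MulAut X, blkMap α b = b ∧ ∀ x, ι (α x) = y * ι x * y⁻¹) :
    (∃ (χ : IrrCharacter Y) (θ : IrrCharacter X), Mn b θ ∧ ∀ x, (χ : Y → ℂ) (ι x) = (θ : X → ℂ) x) ∧
    ∀ ζ : Y → ℂ, IsCharacter Y ζ → ∀ (κ : Type) [Fintype κ], ¬ p ∣ Fintype.card κ → ∀ F : κ → IrrCharacter X,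
      (∀ i, Mn b (F i)) → (∀ x, ζ (ι x) = ∑ i, (F i : X → ℂ) x) → ∃ (χ : IrrCharacter Y) (θ : IrrCharacter X),
        Mn b θ ∧ (∀ x, (χ : Y → ℂ) (ι x) = (θ : X → ℂ) x) ∧ Bary p M (θ : X → ℂ) fun i => (F i : X → ℂ) := by
  have := Fintype.ofFinite Y
  have := Fintype.ofFinite ι.range
  let e : X ≃* ι.range := MonoidHom.ofInjective hι
  obtain ⟨B, a, A, R⟩ := exists_pr hM hN (isNilpotentBlock_map e hb) fun y => by
    refine ⟨by rw [normalizer_eq_top]; trivial, ?_⟩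
    rintro _ ⟨θ, hθ, rfl⟩
    obtain ⟨α, h1, h2⟩ := hst y
    refine ⟨irrMap e (irrMap α θ), irrMap_mem_blkMap.2 (h1 ▸ irrMap_mem_blkMap.2 hθ), fun k k' hk => ?_⟩
    obtain ⟨x, rfl⟩ := e.surjective k
    rw [show k' = e (α x) from Subtype.ext (hk.trans (h2 x).symm), irrMap_apply', irrMap_apply', irrMap_apply']
  have hm : ∀ θ, Mn (blkMap e b) θ → Mn b (irrMap e.symm θ) := fun θ h => blkMap_symm_blkMap e b ▸ mn_map e.symm h
  refine ⟨?_, fun ζ hζ κ _ hκ F hF h => ?_⟩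
  · obtain ⟨χ, hχ⟩ := R.hi.exists_mn
    obtain ⟨θ, h1, h2⟩ := R.res_mn hχ
    exact ⟨χ, _, hm θ h1, fun x => congrFun h2 (e x)⟩
  · obtain ⟨χ, θ, h1, h2, h3⟩ := R.bary hζ hκ (fun i => mn_map e (hF i)) (funext fun n => by
      obtain ⟨x, rfl⟩ := e.surjective n
      rw [Finset.sum_apply]
      exact (h x).trans (Finset.sum_congr rfl fun i _ => (irrMap_apply' e (F i) x).symm))
    refine ⟨χ, _, hm θ h1, fun x => congrFun h2 (e x), ?_⟩
    have h4 := h3.map e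
    simp only [irrMap_apply'] at h4
    exact h4

/-- an overgroup -/
theorem ext_grp (hM : IsPModular p M) (hb : IsNilpotentBlock p M b) {G : Type} [Group G] [Finite G] (ι : X →* G)
    (hι : Function.Injective ι) (a : G →* MulAut X) (ha : ∀ g x, ι (a g x) = g * ι x * g⁻¹)
    (hst : ∀ g, blkMap (a g) b = b) : ∃ θ, Mn b θ ∧ (∀ g x, (θ : X → ℂ) (a g x) = (θ : X → ℂ) x) ∧
      ∀ P : Sylow p G, ∃ (A : Type) (_ : Group A) (j : X →* A) (t : P →* A) (Ψ : A → ℂ), IsCharacter A Ψ ∧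
        (∀ x, Ψ (j x) = (θ : X → ℂ) x) ∧ (∀ (r : P) (x : X), t r * j x = j (a r x) * t r) ∧
        ∀ (x : X) (h : ι x ∈ P), t ⟨ι x, h⟩ = j x := by
  classical
  have := Fintype.ofFinite G
  have : ι.range.Normal := ⟨by
    rintro _ ⟨x, rfl⟩ g
    exact ⟨_, ha g x⟩⟩
  obtain ⟨P⟩ : Nonempty (Sylow p G) := inferInstance
  let Y : Subgroup G := ι.range ⊔ P
  let i : X →* Y := ι.codRestrict Y fun x => mem_sup_left ⟨x, rfl⟩
  have hi : Function.Injective i := (ι.injective_codRestrict _ _).2 hι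
  have : i.range.Normal := ⟨by
    rintro _ ⟨x, rfl⟩ g
    exact ⟨_, Subtype.ext (ha g x)⟩⟩
  have h1 : ∃ k : ℕ, i.range.index = p ^ k := IsPGroup.iff_card.1 (P.isPGroup'.of_surjective
    ((QuotientGroup.mk' i.range).comp (inclusion le_sup_right)) fun q => by
      obtain ⟨⟨y, hy⟩, rfl⟩ := QuotientGroup.mk_surjective q
      obtain ⟨_, ⟨x, rfl⟩, r, hr, rfl⟩ := mem_sup_of_normal_left.1 hy
      refine ⟨⟨r, hr⟩, QuotientGroup.eq.2 ⟨a r⁻¹ x, Subtype.ext ((ha _ x).trans ?_)⟩⟩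
      change _ = r⁻¹ * (ι x * r)
      rw [inv_inv, mul_assoc])
  obtain ⟨⟨χ, θ, h2, h3⟩, h4⟩ := ext_hom hM hb i hi h1 fun y => ⟨a y, hst y, fun x => Subtype.ext (ha y x)⟩
  have h5 : ∀ y ∈ Y, ∀ x, (θ : X → ℂ) (a y x) = (θ : X → ℂ) x := fun y hy x => by
    rw [← h3, ← h3, show i (a y x) = ⟨y, hy⟩ * i x * ⟨y, hy⟩⁻¹ from Subtype.ext (ha y x), isIrr_isClassFunction χ.2]
  have hm : ∀ g θ, Mn b θ → Mn b (irrMap (a g) θ) := fun g θ h => hst g ▸ mn_map (a g) h
  have := Fintype.ofFinite (G ⧸ Y)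
  have h6 : ¬ p ∣ Fintype.card (G ⧸ Y) := fun h => P.not_dvd_index (h.trans (by
    rw [← Nat.card_eq_fintype_card]
    exact index_dvd_of_le le_sup_right))
  obtain ⟨χ', θ', h7, h8, h9⟩ := h4 _ (isCharacter_comp Y.subtype
    (Characters.Brauer.isCharacter_indFun Y (isIrr_isCharacter χ.2))) (G ⧸ Y) h6 (fun q => irrMap (a q.out) θ)
    (fun q => hm _ θ h2) fun x => by
      refine (Characters.MonomialVec.indFun_eq_sum_quotient Y _ (fun h k => isIrr_isClassFunction χ.2 k h) _).trans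
        (Finset.sum_congr rfl fun q _ => ?_)
      have h10 : q.out⁻¹ * Y.subtype (i x) * q.out = i (a q.out⁻¹ x) := by
        refine Eq.trans ?_ (ha _ x).symm
        rw [inv_inv]
        rfl
      rw [h10, extendByZero_of_mem Y _ (i _).2, map_inv]
      exact h3 _
  obtain ⟨D, hD⟩ := exists_nd hM hb
  have h10 : ∀ g x, (θ' : X → ℂ) (a g x) = (θ' : X → ℂ) x := fun g x => by
    have h11 := (h9.map (a g)).perm (MulAction.toPerm g)
    have h12 : (fun (q : G ⧸ Y) x => (irrMap (a (MulAction.toPerm g q).out) θ : X → ℂ) (a g x)) =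
        fun q : G ⧸ Y => (irrMap (a q.out) θ : X → ℂ) := by
      funext q x
      obtain ⟨y, hy⟩ := QuotientGroup.mk_out_eq_mul Y (g * q.out)
      have h13 : (MulAction.toPerm g q).out = g * q.out * y := by
        rw [← hy, MulAction.toPerm_apply, ← smul_eq_mul, ← MulAction.Quotient.smul_mk, QuotientGroup.out_eq']
      rw [h13, irrMap_apply, irrMap_apply, ← h5 y y.2, ← MulAut.inv_def, ← MulAut.inv_def, ← map_inv, ← map_inv, ← MulAut.mul_apply, ← MulAut.mul_apply,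
        ← map_mul, ← map_mul]
      group
    rw [h12] at h11
    have h13 := hD.bary_unique h6 h7 (hm g⁻¹ θ' h7) h9 (by rw [map_inv]; exact h11)
    conv_rhs => rw [← h13, map_inv]
    rfl
  refine ⟨θ', h7, h10, fun Q => ?_⟩
  obtain ⟨g, rfl⟩ := MulAction.exists_smul_eq G Q P
  have h11 : ∀ r : Q, g * r * g⁻¹ ∈ Y := fun r => mem_sup_right (smul_mem_pointwise_smul _ (MulAut.conj g) _ r.2)
  refine ⟨Y, inferInstance, i.comp (a g).toMonoidHom,
    ((MulAut.conj g).toMonoidHom.comp (Q : Subgroup G).subtype).codRestrict Y h11, χ', isIrr_isCharacter χ'.2,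
    fun x => (h8 _).trans (h10 g x), fun r x => Subtype.ext ?_, fun x h => Subtype.ext (ha g x).symm⟩
  change g * r * g⁻¹ * ι (a g x) = ι (a g (a r x)) * (g * r * g⁻¹)
  rw [ha, ha, ha]
  group

open SemidirectProduct XO in
/-- an overgroup which induces the given automorphisms, with a centralizer of order prime to `p` -/
theorem exists_env (hZ : ¬ p ∣ Nat.card (center X)) (Δ : Subgroup (MulAut X)) (hΔ : ∀ x, MulAut.conj x ∈ Δ) :
    ∃ (G : Type) (_ : Group G) (_ : Finite G) (ι : X →* G) (a : G →* MulAut X), Function.Injective ι ∧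
      (∀ g x, ι (a g x) = g * ι x * g⁻¹) ∧ (∀ g, a g ∈ Δ) ∧ (∀ α ∈ Δ, ∃ g, a g = α) ∧
      ∀ g, a g = 1 → (∃ k : ℕ, g ^ p ^ k = 1) → g = 1 := by
  have := fin (S := Δ)
  have := Fintype.ofFinite (X ⋊[Δ.subtype] Δ)
  obtain ⟨P⟩ : Nonempty (Sylow p (act Δ).ker) := inferInstance
  let Q := (P : Subgroup (act Δ).ker).map (act Δ).ker.subtype
  let H := normalizer (Q : Set (X ⋊[Δ.subtype] Δ))
  have hQ : ∀ q ∈ Q, act Δ q = 1 := fun q hq => map_subtype_le _ hq
  have h1 : ∀ q, act Δ q = 1 → ∀ x, inl x * q * (inl x)⁻¹ = q := fun q hq x => by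
    have h := conj_inl q x
    rw [hq, MulAut.one_apply, mul_inv_eq_iff_eq_mul] at h
    rw [← h, mul_inv_cancel_right]
  have h2 : ∀ x, inl x ∈ H := fun x => mem_normalizer_iff.2 fun q =>
    ⟨fun h => (h1 q (hQ q h) x).symm ▸ h, fun h => by
      have h3 := h1 _ (hQ _ h) x⁻¹
      rw [map_inv, inv_inv, ← mul_assoc, ← mul_assoc, inv_mul_cancel, one_mul, inv_mul_cancel_right] at h3
      exact h3.symm ▸ h⟩
  have hp : IsPGroup p Q := P.isPGroup'.map _
  refine ⟨H ⧸ Q.subgroupOf H, inferInstance, inferInstance, (QuotientGroup.mk' _).comp (inl.codRestrict H h2),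
    QuotientGroup.lift _ ((act Δ).comp H.subtype) fun q hq => hQ q hq, (injective_iff_map_eq_one _).2 fun z hz => ?_,
    fun g x => ?_, fun g => ?_, fun α hα => ?_, fun g hg ⟨k, hk⟩ => ?_⟩
  · have h3 : inl z ∈ Q := (QuotientGroup.eq_one_iff (N := Q.subgroupOf H) _).1 hz
    obtain ⟨k, hk⟩ := hp ⟨_, h3⟩
    have h4 : (inl z : X ⋊[Δ.subtype] Δ) ^ p ^ k = 1 := congrArg Subtype.val hk
    rw [← map_pow, ← map_one inl, inl_inj] at h4
    exact orderOf_eq_one_iff.1 (Nat.eq_one_of_dvd_coprimes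
      (((Fact.out : p.Prime).coprime_iff_not_dvd.2 hZ).symm.pow_right k) (orderOf_dvd_natCard _ (cen_of (hQ _ h3)))
      (orderOf_dvd_of_pow_eq_one h4))
  · obtain ⟨g, rfl⟩ := QuotientGroup.mk_surjective g
    exact congrArg (QuotientGroup.mk (s := Q.subgroupOf H)) (Subtype.ext (conj_inl g.1 x).symm :
      inl.codRestrict H h2 (act Δ g.1 x) = g * inl.codRestrict H h2 x * g⁻¹)
  · obtain ⟨g, rfl⟩ := QuotientGroup.mk_surjective g
    exact mul_mem (hΔ _) g.1.right.2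
  · have h3 : (inr ⟨α, hα⟩ : X ⋊[Δ.subtype] Δ) ∈ H ⊔ (act Δ).ker := by
      rw [Sylow.normalizer_sup_eq_top P]
      trivial
    obtain ⟨h, hh, k, hk, e⟩ := mem_sup_of_normal_right.1 h3
    refine ⟨QuotientGroup.mk ⟨h, hh⟩, ?_⟩
    have h4 := congrArg (act Δ) e
    rw [map_mul, show act Δ k = 1 from hk, mul_one] at h4
    exact h4.trans (lift_inr _ _ _ _)
  · obtain ⟨g, rfl⟩ := QuotientGroup.mk_surjective g
    have h3 : g.1 ^ p ^ k ∈ Q := (QuotientGroup.eq_one_iff (N := Q.subgroupOf H) (g ^ p ^ k)).1 hk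
    obtain ⟨l, hl⟩ := hp ⟨_, h3⟩
    let c : (act Δ).ker := ⟨g.1, hg⟩
    have h4 : c ^ p ^ (k + l) = 1 := Subtype.ext (by
      change g.1 ^ p ^ (k + l) = 1
      rw [pow_add, pow_mul]
      exact congrArg Subtype.val hl)
    have h5 : IsPGroup p (zpowers c) := by
      obtain ⟨m, -, hm⟩ := (Nat.dvd_prime_pow Fact.out).1 (orderOf_dvd_of_pow_eq_one h4)
      exact IsPGroup.of_card ((Nat.card_zpowers c).trans hm)
    have h6 : c ∈ normalizer ((P : Subgroup (act Δ).ker) : Set (act Δ).ker) := mem_normalizer_iff.2 fun q =>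
      (mem_map_iff _ q).trans ((mem_normalizer_iff.1 g.2 q).trans (mem_map_iff _ (c * q * c⁻¹)).symm)
    have h7 : c ∈ zpowers c ⊓ (P : Subgroup (act Δ).ker) := h5.inf_normalizer_sylow P ▸ ⟨mem_zpowers c, h6⟩
    exact (QuotientGroup.eq_one_iff (N := Q.subgroupOf H) g).2 ⟨c, h7.2, rfl⟩

/-- **an invariant member of minimal degree which extends over all `p`-groups of automorphisms** -/
theorem nil_ext (hM : IsPModular p M) (hb : IsNilpotentBlock p M b) (hZ : ¬ p ∣ Nat.card (center X))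
    (Δ : Subgroup (MulAut X)) (hΔ : ∀ x, MulAut.conj x ∈ Δ) (hst : ∀ α ∈ Δ, blkMap α b = b) :
    ∃ θ, Mn b θ ∧ (∀ α ∈ Δ, ∀ x, (θ : X → ℂ) (α x) = (θ : X → ℂ) x) ∧
      ∀ S ≤ Δ, IsPGroup p S → ExtA p S (θ : X → ℂ) := by
  obtain ⟨G, _, _, ι, a, hι, ha, h1, h2, h3⟩ := exists_env hZ Δ hΔ
  obtain ⟨θ, h4, h5, h6⟩ := ext_grp hM hb ι hι a ha fun g => hst _ (h1 g)
  refine ⟨θ, h4, fun α hα x => ?_, fun S hS hp => ?_⟩
  · obtain ⟨g, rfl⟩ := h2 α hα
    exact h5 g x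
  have h7 : Function.Surjective (a.codRestrict Δ h1) := fun α => (h2 α.1 α.2).imp fun _ h => Subtype.ext h
  obtain ⟨Q, hQ⟩ := (hp.comap_subtype (K := Δ)).exists_le_sylow
  obtain ⟨P, rfl⟩ := Sylow.mapSurjective_surjective h7 p Q
  obtain ⟨A, _, j, t, Ψ, h8, h9, h10, h11⟩ := h6 P
  let f : P →* MulAut X := a.comp (P : Subgroup G).subtype
  have hf : Function.Injective f := (injective_iff_map_eq_one f).2 fun r hr =>
    Subtype.ext (h3 r hr ((P.isPGroup' r).imp fun _ h => congrArg Subtype.val h))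
  have h12 : S ≤ f.range := fun α hα => by
    obtain ⟨r, hr, e⟩ := hQ (show (⟨α, hS hα⟩ : Δ) ∈ S.comap Δ.subtype from hα)
    exact ⟨⟨r, hr⟩, congrArg Subtype.val e⟩
  let s : S →* P := (MonoidHom.ofInjective hf).symm.toMonoidHom.comp (inclusion h12)
  have hs : ∀ α : S, a (s α) = α := fun α =>
    congrArg Subtype.val ((MonoidHom.ofInjective hf).apply_symm_apply (inclusion h12 α))
  refine ⟨A, inferInstance, j, t.comp s, Ψ, h8, h9, fun α x => (h10 (s α) x).trans (by rw [hs]; rfl),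
    fun y hy ⟨k, hk⟩ => ?_⟩
  have h13 : a (ι y) = MulAut.conj y := MulEquiv.ext fun x => hι (by rw [ha, MulAut.conj_apply, map_mul, map_mul, map_inv])
  have h14 : Commute (ι y)⁻¹ (s ⟨_, hy⟩ : G) := by
    have h15 := ha (s ⟨_, hy⟩) y
    rw [hs, MulAut.conj_apply, mul_inv_cancel_right, eq_mul_inv_iff_mul_eq] at h15
    exact Commute.inv_left h15
  obtain ⟨l, hl⟩ := P.isPGroup' (s ⟨_, hy⟩)
  have h15 := h3 ((ι y)⁻¹ * s ⟨_, hy⟩) (by rw [map_mul, map_inv, h13, hs, inv_mul_cancel]) ⟨k + l, by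
    rw [h14.mul_pow, inv_pow, ← map_pow, pow_add, pow_mul, hk, one_pow, map_one, inv_one, one_mul, mul_comm, pow_mul,
      show (s ⟨_, hy⟩ : G) ^ p ^ l = 1 from congrArg Subtype.val hl, one_pow]⟩
  rw [inv_mul_eq_one] at h15
  rw [← h11 y (h15 ▸ (s ⟨_, hy⟩).2)]
  exact congrArg t (Subtype.ext h15.symm)

end Cfsg.Agent.OM.Gen
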