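import Cfsg.Agent.S4889
import Cfsg.Agent.H699.AbDef
import Cfsg.Agent.H609.TwoDefect

/-!
# OM (S4894): the theorem of Okuyama and Tsushima (helper50)

* `comm_of_eq_deg` : a block all of whose members have the same degree has abelian defect groups;
* `nil_of_eq_deg` : it is nilpotent.

The proof follows `H699.BrInj.exists_pair`.
-/

set_option autoImplicit false

universe u

namespace Cfsg.Agent.OM.Gen

open Cfsg Module Subgroup IsLocalRing Cfsg.Agent.H644 Cfsg.Agent.H657 Cfsg.Agent.H699 Cfsg.Agent.H699.LocalAlg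
  Cfsg.Agent.Blocks.Local

variable {p : ℕ} {M : Ideal AlgInt} {G : Type u} [Group G] [Finite G] {B : Set (IrrCharacter G)} {D : Subgroup G}

namespace OT

theorem card_root (hM : IsPModular p M) {b : Set (IrrCharacter (centralizer (D : Set G)))}
    (hmax : IsMaximalBrauerPair p M B D b) : Nat.card b ≤ Nat.card ↥(D ⊓ centralizer (D : Set G)) := by
  have := Fintype.ofFinite G
  have : Fact p.Prime := ⟨hM.1⟩
  have := isPrime_of_isPModular hM
  obtain ⟨-, x, hx, hdef⟩ := S4661.result p M hM B D D b b hmax le_rfl hmax.1.1.2 (subpairLE_refl _ _)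
  have heq : D.map (MulAut.conj x).toMonoidHom = D :=
    eq_of_le_of_card_ge (subpairLE_le hx) (card_map_of_injective (MulAut.conj x).injective).ge
  rw [inf_subgroupOf_right, congrArg (fun H : Subgroup G => H.subgroupOf _) heq.symm] at hdef
  obtain ⟨-, -, h3⟩ := S0968.result p M hM _ hmax.1.1.1.comap_subtype (eq_top_iff.2 fun c _ => mem_sup_right
    (mem_centralizer_iff.2 fun d hd => Subtype.ext (mem_centralizer_iff.1 c.2 d hd))) b hmax.1.1.2
    ((H649.isDefectGroup_conjBlock_iff x).1 hdef)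
  rw [h3, ← Nat.card_congr (subgroupOfEquivOfLe (inf_le_right : D ⊓ centralizer (D : Set G) ≤ _)).toEquiv,
    inf_subgroupOf_right]
  exact Nat.card_le_card_of_surjective ConjClasses.mk ConjClasses.mk_surjective

theorem card_le [M.IsPrime] (hM : IsPModular p M) [IsAlgClosed (ResField M)] (hB : IsPBlock M B)
    (hD : IsDefectGroup p M B D) {n : ℕ} {σ : Representation (ResField M) G (Fin n → ResField M)}
    (hdat : Dat (idem M B) σ)
    (hdim : finrank (ResField M) (blk (idem M B)) ≤ n ^ 2 * finrank (ResField M) (zblk (idem M B))) {y : G}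
    (hy : y ∈ centralizer (D : Set G)) (hty : LinearMap.trace (ResField M) _ (σ y) ≠ 0) :
    Nat.card B ≤ Nat.card ↥(D ⊓ centralizer (D : Set G)) := by
  classical
  have hFact : Fact p.Prime := ⟨hM.1⟩
  have hChar : CharP (ResField M) p := charP_resField hM
  have hDp := Blocks.Basic.isPGroup_of_isDefectGroup hD
  have hBu := isUnion_of_isPBlock hB
  set e := idem M B with he
  have hee : e * e = e := idem_mul_self hM hBu
  have hecls : IsCls e := isCls_idem B
  have hene : e ≠ 0 := idem_ne_zero hM hBu (Blocks.Basic.isPBlock_nonempty hB)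
  have hbr : ∀ {x x' : MonoidAlgebra (ResField M) G}, IsCls x → IsCls x' → br D (x * x') = br D x * br D x' :=
    fun hx hx' => br_mul hDp (isInv_of_isCls hx D) (isInv_of_isCls hx' D)
  have hezb : e ∈ zblk e := ⟨hecls, hee⟩
  obtain ⟨w₀, hw₀, hw₀c⟩ := hdat.main hdim (zblk e) le_rfl (fun x hx z hz => mul_mem_zblk hx hz)
    (fun h => hene ((Submodule.mem_bot _).1 (h ▸ hezb)))
  have hbw : br D w₀ ≠ 0 := fun h => by
    have h1 : (br D w₀).coeff ⟨y⁻¹, inv_mem hy⟩ = 0 := by rw [h]; rfl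
    rw [coeff_br] at h1
    change w₀.coeff y⁻¹ = 0 at h1
    rw [hw₀c, inv_inv] at h1
    exact hty h1
  have := Fintype.ofFinite (Blk M (centralizer (D : Set G)))
  obtain ⟨b, hb⟩ : ∃ b : Blk M (centralizer (D : Set G)), br D w₀ * idem M b.1 ≠ 0 := by
    by_contra! hcon
    apply hbw
    rw [eq_sum_mul_idem hM (br D w₀)]
    exact Finset.sum_eq_zero fun b _ => hcon b
  have hbu := isUnion_of_isPBlock b.2
  have hbe : br D e * idem M b.1 ≠ 0 := fun h => hb (by
    have h1 : br D w₀ * br D e = br D w₀ := by rw [← hbr hw₀.1 hecls, hw₀.2]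
    rw [← h1, mul_assoc, h, mul_zero])
  have hbee : br D e * br D e = br D e := by rw [← hbr hecls hecls, hee]
  have hbecls : IsCls (br D e) := isCls_br_of_isCls hecls
  have hmax := isMaximalBrauerPair_of_isDefectGroup hM ((isBrauerPairOf_iff hM).2 ⟨⟨hDp, b.2⟩, hB, fun ξ hξ =>
    (lam_idempotent ξ hbecls hbee).resolve_left fun h => hbe (mul_idem_of_lam_eq_zero hM hbecls hbee hbu fun ζ hζ => by
      rw [lam_eq_of_mem b.2 hζ hξ, h])⟩) hD
  set Φ := BrInj.brz D e (idem M b.1) (isCls_idem b.1) (idem_mul_self hM hbu)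
  have hinj : Function.Injective Φ := by
    rw [← LinearMap.ker_eq_bot]
    by_contra hker
    have hI : ∀ x, x ∈ (LinearMap.ker Φ).map (zblk e).subtype ↔ x ∈ zblk e ∧ br D x * idem M b.1 = 0 := fun x =>
      ⟨fun ⟨z, hz, h⟩ => h ▸ ⟨z.2, congrArg Subtype.val (LinearMap.mem_ker.1 hz)⟩,
        fun h => ⟨⟨x, h.1⟩, LinearMap.mem_ker.2 (Subtype.ext h.2), rfl⟩⟩
    obtain ⟨w, hw, hwc⟩ := hdat.main hdim _ (fun x hx => ((hI x).1 hx).1) (fun x hx z hz => by
      obtain ⟨h1, h2⟩ := (hI x).1 hx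
      refine (hI _).2 ⟨mul_mem_zblk h1 hz, ?_⟩
      rw [hbr h1.1 hz.1, mul_assoc, isCls_comm (isCls_br_of_isCls hz.1), ← mul_assoc, h2, zero_mul])
      fun h => hker (eq_bot_iff.2 fun z hz => (Submodule.mem_bot _).2 (Subtype.ext
        ((Submodule.mem_bot _).1 (h ▸ Submodule.mem_map_of_mem hz))))
    have hww : w = w₀ := ext_coeff fun g => by rw [hwc, hw₀c]
    exact hb (hww ▸ ((hI w).1 hw).2)
  have h1 := LinearMap.finrank_le_finrank_of_injective hinj
  rw [DimBlk.finrank_zblk hM hBu, DimBlk.finrank_zblk hM hbu] at h1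
  exact h1.trans (card_root hM hmax)

omit [Finite G] in
theorem height {d : ℕ} (hd : ∀ χ ∈ B, charDegree (χ : G → ℂ) = d) {χ : IrrCharacter G} (hχ : χ ∈ B) :
    blockHeight p B (χ : G → ℂ) = 0 := by
  obtain ⟨ψ, hψ, h⟩ := Nat.sInf_mem (s := (fun ψ : IrrCharacter G => (charDegree (ψ : G → ℂ)).factorization p) '' B)
    ⟨_, χ, hχ, rfl⟩
  rw [blockHeight, ← h, hd χ hχ]
  simp only [hd ψ hψ, Nat.sub_self]

end OT

/-- **equal degrees: the defect groups are abelian** -/
theorem comm_of_eq_deg (hM : IsPModular p M) (hB : IsPBlock M B) (hD : IsDefectGroup p M B D) {d : ℕ}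
    (hd : ∀ χ ∈ B, charDegree (χ : G → ℂ) = d) : IsMulCommutative D := by
  classical
  have := Fintype.ofFinite G
  have : Fact p.Prime := ⟨hM.1⟩
  have hMp := isPrime_of_isPModular hM
  have hmax : M.IsMaximal := hM.2.1
  have hac : IsAlgClosed (ResField M) := Blocks.CyclicAssembly.isAlgClosed_resField
  obtain ⟨V, hV⟩ := exists_above hM
  have : CharP (ResidueField V) p := hV.charP hM
  have hBu := isUnion_of_isPBlock hB
  obtain ⟨i, hid, hpr, hun⟩ := EqDeg.exists_single hM hV hB hd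
  obtain ⟨n, σ, hdat⟩ := Bridge.exists_dat hM hB (EqDeg.blockRank_eq_one hM hB hd)
  obtain ⟨j, hj, hjn, htr⟩ := Bridge.exists_ibr hM hV hB hdat.irr hdat.one
  have hji : j = i := by rwa [hun] at hj
  have hdim : finrank (ResField M) (blk (idem M B)) ≤ n ^ 2 * finrank (ResField M) (zblk (idem M B)) := by
    have := Characters.Core.finite_irr (G := G)
    have : Fintype (IrrCharacter G) := Fintype.ofFinite _
    rw [DimBlk.finrank_blk hM hBu, DimBlk.finrank_zblk hM hBu, finsum_mem_congr rfl fun χ hχ => congrArg (· ^ 2) (hd χ hχ),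
      finsum_mem_eq_toFinset_sum, Finset.sum_const, smul_eq_mul, Set.toFinset_card, Nat.card_eq_fintype_card, ← hjn, hji,
      hid, mul_comm]
  obtain ⟨g, hg, P, hDP⟩ := id hD
  have hgC : g ∈ centralizer (D : Set G) := mem_centralizer_iff.2 fun x hx => by
    rw [SetLike.mem_coe, hDP] at hx
    obtain ⟨y, -, rfl⟩ := hx
    exact (mem_centralizer_iff.1 y.2 g rfl).symm
  obtain ⟨χ, hχ⟩ := Blocks.Basic.isPBlock_nonempty hB
  have hgreg : ¬ p ∣ orderOf g := fun hdvd => hg.2.1 (by
    have h1 := Blocks.Orthogonality.weak_block_orthogonality hM B (fun g => memLocalRing_blockCoeff hM hBu g) (x := 1)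
      (by rw [orderOf_one]; exact hM.1.not_dvd_one) hdvd
    unfold blockCoeff
    rw [h1, mul_zero]
    exact memLocalIdeal_zero)
  have hty : LinearMap.trace (ResField M) _ (σ g) ≠ 0 := fun h => by
    apply AbDef.not_memLocalIdeal_apply hM hB hD hχ (OT.height hd hχ) hg P hDP
    have hint : MemLocalRing M ((χ : G → ℂ) g) := memLocalRing_of_isIntegral (Blocks.Central.isIntegral_irr χ.2 g)
    rw [← redC_eq_zero_iff hint]
    apply (Bridge.iot hM hV).injective
    rw [map_zero, Bridge.iot_redC hM hV hint]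
    obtain ⟨z, hz, hz'⟩ := phi_spec (p := p) i hgreg
    have h2 : (⟨(χ : G → ℂ) g, hV.mem_of_local hM.2.1 hint⟩ : V) = z := Subtype.ext (by
      show (χ : G → ℂ) g = z
      rw [← hz, ← hpr χ hχ, H608.BlockRank.pReg_of hgreg])
    rw [h2, hz', ← hji, htr, h, map_zero]
  have h1 := OT.card_le hM hB hD hdat hdim hgC hty
  rw [AbDef.card_eq hM hB hD hd] at h1
  have h2 : D ≤ centralizer (D : Set G) := inf_eq_left.1 (eq_of_le_of_card_ge inf_le_left h1)
  exact ⟨⟨fun x y => Subtype.ext (mem_centralizer_iff.1 (h2 y.2) x x.2)⟩⟩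

/-- **Okuyama - Tsushima** -/
theorem nil_of_eq_deg (hM : IsPModular p M) (hB : IsPBlock M B)
    (h : ∀ χ ∈ B, ∀ ψ ∈ B, charDegree (χ : G → ℂ) = charDegree (ψ : G → ℂ)) : IsNilpotentBlock p M B := by
  have : Fact p.Prime := ⟨hM.1⟩
  have := isPrime_of_isPModular hM
  obtain ⟨ψ, hψ⟩ := Blocks.Basic.isPBlock_nonempty hB
  obtain ⟨D, hD⟩ := H609.TwoDefect.exists_defectGroup hM hB
  have hd := fun χ hχ => h χ hχ ψ hψ
  exact (S4889.result p M hM B hB D hD (comm_of_eq_deg hM hB hD hd) fun χ hχ => OT.height hd hχ).1 ⟨_, hd⟩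

end Cfsg.Agent.OM.Gen
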