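import Cfsg.Agent.OM.Red.Basic
import Cfsg.Agent.H652.NilSetup
import Cfsg.Agent.ODD.Red.Bas
import Cfsg.Agent.Characters.Linear
import Cfsg.Agent.Characters.Counting

/-!
# OM (S4894): the members of minimal degree of a nilpotent block (helper8)

* `Sec p M u b s` : a point of a subsection; `chiE b χ (u * s)` is the part of `χ` there;
* `Nd p M B a` : a nilpotent block with a maximal pair; `Nd.part`, `Nd.exists_lin`, `Nd.mn_lin`;
* `Bary p M θ F` : `θ` is the barycentre of the family `F`; `Nd.bary_unique`, `Bary.map`.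
-/

set_option autoImplicit false
set_option linter.unusedSectionVars false

namespace Cfsg.Agent.OM.Gen

open Cfsg Subgroup Cfsg.Agent.H649 Cfsg.Agent.H650 Cfsg.Agent.H651 Cfsg.Agent.H652 Cfsg.Agent.Characters.Core
  Cfsg.Agent.Blocks.Basic

universe u v

variable {p : ℕ} {M : Ideal AlgInt} {G : Type u} [Group G]

/-- a point of a subsection -/
structure Sec (p : ℕ) (M : Ideal AlgInt) (u : G) (b : BrauerPairIdx G) (s : G) : Prop where
  hu : ∃ k : ℕ, orderOf u = p ^ k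
  fst : b.1 = zpowers u
  blk : IsPBlock M b.2
  com : Commute u s
  reg : ¬ p ∣ orderOf s

theorem Sec.map {H : Type v} [Group H] (e : G ≃* H) {u s : G} {b : BrauerPairIdx G} (h : Sec p M u b s) :
    Sec p M (e u) (idxMap e b) (e s) where
  hu := by rw [e.orderOf_eq]; exact h.hu
  fst := by
    change b.1.map e.toMonoidHom = _
    rw [h.fst, MonoidHom.map_zpowers]
    rfl
  blk := isPBlock_blkMap h.blk
  com := h.com.map e
  reg := by rw [e.orderOf_eq]; exact h.reg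

theorem Sec.of_eq [Finite G] {u v s : G} {b : BrauerPairIdx G} (h : Sec p M u b s) (e : zpowers v = zpowers u) :
    Sec p M v b s where
  hu := by rw [← Nat.card_zpowers, e, Nat.card_zpowers]; exact h.hu
  fst := h.fst.trans e.symm
  blk := h.blk
  com := by
    obtain ⟨k, rfl⟩ : v ∈ zpowers u := e ▸ mem_zpowers v
    exact h.com.zpow_left k
  reg := h.reg

theorem Sec.other {u s t : G} {b : BrauerPairIdx G} (h : Sec p M u b s) (h1 : Commute u t) (h2 : ¬ p ∣ orderOf t) :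
    Sec p M u b t := ⟨h.hu, h.fst, h.blk, h1, h2⟩

variable [Finite G]

theorem chiE_map {H : Type v} [Group H] [Finite H] (e : G ≃* H) (b : BrauerPairIdx G) (χ : H → ℂ) (g : G) :
    chiE (idxMap e b) χ (e g) = chiE b (fun x => χ (e x)) g := by
  have := Fintype.ofFinite G
  have := Fintype.ofFinite H
  rw [chiE_eq_sum, chiE_eq_sum]
  refine (Fintype.sum_equiv e.toEquiv _ _ fun k => ?_).symm
  change cfE b k * χ (e (k * g)) = cfE (idxMap e b) (e k) * χ (e k * e g)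
  rw [map_mul]
  exact congrArg (· * χ (e k * e g)) (subgroupBlockCoeff_map e b.1 b.2 k).symm

theorem chiE_mul (b : BrauerPairIdx G) (c : ℂ) (χ : G → ℂ) (g : G) :
    chiE b (fun x => c * χ x) g = c * chiE b χ g := by
  have := Fintype.ofFinite G
  rw [chiE_eq_sum, chiE_eq_sum, Finset.mul_sum]
  exact Finset.sum_congr rfl fun k _ => mul_left_comm _ _ _

theorem cls_left {Q : Subgroup G} {v : G} (hv : v ∈ Q) {χ : G → ℂ} (hχ : IsClassFunction G χ) :
    IsClassFunction (centralizer (Q : Set G)) fun c : centralizer (Q : Set G) => χ (v * c) := by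
  intro g h
  have h1 : v * ((h * g * h⁻¹ : centralizer (Q : Set G)) : G) = h * (v * g) * (h : G)⁻¹ := by
    change v * ((h : G) * g * (h : G)⁻¹) = _
    rw [← mul_assoc, ← mul_assoc, mem_centralizer_iff.1 h.2 v hv]
    simp only [mul_assoc]
  change χ (v * _) = χ (v * g)
  rw [h1, hχ]

theorem chiE_eq' (b : BrauerPairIdx G) {v : G} (hv : v ∈ b.1) {χ : G → ℂ}
    (hχ : IsClassFunction (centralizer (b.1 : Set G)) fun c : centralizer (b.1 : Set G) => χ (v * c))
    (s : centralizer (b.1 : Set G)) :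
    chiE b χ (v * s) = blockPart b.2 (fun c : centralizer (b.1 : Set G) => χ (v * c)) s := by
  have := Fintype.ofFinite (centralizer (b.1 : Set G))
  rw [Blocks.BlockPart.blockPart_eq_sum _ hχ, chiE_eq_sum_centralizer]
  refine Finset.sum_congr rfl fun k _ => ?_
  congr 2
  change (k : G) * (v * s) = v * (k * s)
  rw [← mul_assoc, ← mem_centralizer_iff.1 k.2 v hv, mul_assoc]

theorem chiE_eq (b : BrauerPairIdx G) {v : G} (hv : v ∈ b.1) {χ : G → ℂ} (hχ : IsClassFunction G χ)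
    (s : centralizer (b.1 : Set G)) :
    chiE b χ (v * s) = blockPart b.2 (fun c : centralizer (b.1 : Set G) => χ (v * c)) s :=
  chiE_eq' b hv (cls_left hv hχ) s

theorem Sec.mem {u s : G} {b : BrauerPairIdx G} (h : Sec p M u b s) : u ∈ b.1 := h.fst ▸ mem_zpowers u

theorem Sec.mem_iff {u s : G} {b : BrauerPairIdx G} (h : Sec p M u b s) {t : G} :
    t ∈ centralizer (b.1 : Set G) ↔ Commute u t := by
  rw [h.fst]
  exact mem_Cz_iff

variable [Fact p.Prime]

/-- the parts depend on the values on the section only -/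
theorem chiE_congr' (hM : IsPModular p M) {u v s : G} {b : BrauerPairIdx G} (h : Sec p M u b s) (hv : v ∈ b.1)
    {χ ψ : G → ℂ} (hχ : IsClassFunction (centralizer (b.1 : Set G)) fun c : centralizer (b.1 : Set G) => χ (u * c))
    (hψ : IsClassFunction (centralizer (b.1 : Set G)) fun c : centralizer (b.1 : Set G) => ψ (v * c))
    (e : ∀ t, Commute u t → ¬ p ∣ orderOf t → χ (u * t) = ψ (v * t)) : chiE b χ (u * s) = chiE b ψ (v * s) := by
  have h1 := chiE_eq' b h.mem hχ ⟨s, h.mem_iff.2 h.com⟩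
  have h2 := chiE_eq' b hv hψ ⟨s, h.mem_iff.2 h.com⟩
  refine h1.trans (Eq.trans ?_ h2.symm)
  refine blockPart_congr_reg hM hχ hψ (fun t ht => e t (h.mem_iff.1 t.2) ?_) h.blk ?_
  · rwa [← orderOf_coe_dvd]
  · rw [orderOf_coe_dvd]
    exact h.reg

theorem chiE_congr (hM : IsPModular p M) {u v s : G} {b : BrauerPairIdx G} (h : Sec p M u b s) (hv : v ∈ b.1)
    {χ ψ : G → ℂ} (hχ : IsClassFunction G χ) (hψ : IsClassFunction G ψ)
    (e : ∀ t, Commute u t → ¬ p ∣ orderOf t → χ (u * t) = ψ (v * t)) : chiE b χ (u * s) = chiE b ψ (v * s) :=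
  chiE_congr' hM h hv (cls_left h.mem hχ) (cls_left hv hψ) e

/-- a class function is determined by its parts -/
theorem ext_of_chiE (hM : IsPModular p M) {χ ψ : G → ℂ} (hχ : IsClassFunction G χ) (hψ : IsClassFunction G ψ)
    (h : ∀ u b s, Sec p M u b s → chiE b χ (u * s) = chiE b ψ (u * s)) : χ = ψ := by
  rw [← starW_one_weight hM hχ, ← starW_one_weight hM hψ]
  funext g
  obtain ⟨y, h1, h2, h3, h4⟩ := isPPart_pp p g
  change ∑ᶠ b ∈ blkPairs M (zpowers (pp p g)), 1 * chiE b χ g = ∑ᶠ b ∈ blkPairs M (zpowers (pp p g)), 1 * chiE b ψ g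
  refine finsum_mem_congr rfl fun b hb => ?_
  have h5 := h _ b y ⟨h3, hb.1, hb.2, h2, h4⟩
  rw [h1] at h5
  rw [h5]

theorem chiE_star (hM : IsPModular p M) {a : BrauerPairIdx G} {η : G → ℂ} (hη : IsStable p M a η) {χ : G → ℂ}
    (hχ : IsClassFunction G χ) {u s : G} {b : BrauerPairIdx G} (h : Sec p M u b s) :
    chiE b (H651.star p M a η χ) (u * s) = etaW p M a η u b * chiE b χ (u * s) := by
  obtain ⟨Q, f⟩ := b
  obtain rfl : Q = zpowers u := h.fst
  have h1 := blockPart_secFun_starW hM (isWInv_etaW hη) hχ h.hu h.blk (s := ⟨s, mem_Cz_iff.2 h.com⟩)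
    (by rw [orderOf_coe_dvd]; exact h.reg)
  exact (chiE_zpowers u f (isClassFunction_star hη hχ) ⟨s, mem_Cz_iff.2 h.com⟩).trans
    (h1.trans (congrArg (_ * ·) (chiE_zpowers u f hχ ⟨s, mem_Cz_iff.2 h.com⟩).symm))

theorem chiE_eq_zero (hM : IsPModular p M) {B : Set (IrrCharacter G)} (hB : IsPBlock M B) {χ : IrrCharacter G}
    (hχ : χ ∈ B) {u s : G} {b : BrauerPairIdx G} (h : Sec p M u b s) (hn : ¬ IsBrauerPairOf p M B b.1 b.2) :
    chiE b (χ : G → ℂ) (u * s) = 0 := by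
  obtain ⟨Q, f⟩ := b
  obtain rfl : Q = zpowers u := h.fst
  exact (chiE_zpowers u f (isIrr_isClassFunction χ.2) ⟨s, mem_Cz_iff.2 h.com⟩).trans
    (blockPart_secFun_eq_zero hM hB hχ h.hu h.blk hn (by rw [orderOf_coe_dvd]; exact h.reg))

/-! ### nilpotent blocks -/

/-- a nilpotent block with a maximal pair -/
structure Nd (p : ℕ) (M : Ideal AlgInt) (B : Set (IrrCharacter G)) (a : BrauerPairIdx G) : Prop where
  hM : IsPModular p M
  max : IsMaximalBrauerPair p M B a.1 a.2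
  nil : IsNilpotentBlock p M B

theorem exists_nd (hM : IsPModular p M) {B : Set (IrrCharacter G)} (h : IsNilpotentBlock p M B) :
    ∃ a, Nd p M B a := by
  have := hM.2.1.isPrime
  obtain ⟨P, e, h1⟩ := H644.exists_maximal hM h.1
  exact ⟨⟨P, e⟩, hM, h1, h⟩

/-- the product `η * χ` -/
noncomputable def st (p : ℕ) (M : Ideal AlgInt) (a : BrauerPairIdx G) (η : a.1 → ℂ) (χ : G → ℂ) : G → ℂ :=
  H651.star p M a (NilIrr.ext0 a.1 η) χ

theorem height_of_mn {B : Set (IrrCharacter G)} {χ : IrrCharacter G} (h : Mn B χ) :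
    blockHeight p B (χ : G → ℂ) = 0 := by
  have hne : ((fun χ : IrrCharacter G => (charDegree (χ : G → ℂ)).factorization p) '' B).Nonempty := ⟨_, χ, h.1, rfl⟩
  obtain ⟨ψ, hψ, e⟩ := Nat.sInf_mem hne
  rw [blockHeight_def, ← e]
  exact Nat.sub_eq_zero_of_le ((Nat.factorization_le_iff_dvd (charDegree_pos χ.2).ne' (charDegree_pos ψ.2).ne').2
    (h.2 ψ hψ) p)

namespace Nd

variable {B : Set (IrrCharacter G)} {a : BrauerPairIdx G} (D : Nd p M B a)
include D

theorem inn : DoubleCount.InnerFus p M a :=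
  have := Fintype.ofFinite G
  NilSetup.innerFus D.hM D.max D.nil

theorem loc : ∀ v ∈ a.1, p ^ blockDefect p (DoubleCount.bP p M a v).2 =
    Nat.card (a.1 ⊓ centralizer ({v} : Set G) : Subgroup G) :=
  have := Fintype.ofFinite G
  fun _ hv => NilSetup.card_loc D.hM D.max D.nil hv

theorem pgr : IsPGroup p a.1 := D.max.1.1.1

theorem stable {η : a.1 → ℂ} (hη : IsClassFunction a.1 η) : IsStable p M a (NilIrr.ext0 a.1 η) :=
  NilIrr.isStable_ext0 D.inn hη

theorem cls_st {η : a.1 → ℂ} (hη : IsClassFunction a.1 η) {χ : G → ℂ} (hχ : IsClassFunction G χ) :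
    IsClassFunction G (st p M a η χ) := isClassFunction_star (D.stable hη) hχ

/-- the members of the block -/
theorem exists_st {χ : IrrCharacter G} (hχ : χ ∈ B) (h0 : blockHeight p B (χ : G → ℂ) = 0) {ψ : IrrCharacter G}
    (hψ : ψ ∈ B) : ∃ η : IrrCharacter a.1, (ψ : G → ℂ) = st p M a η χ ∧
      charDegree (ψ : G → ℂ) = charDegree (η : a.1 → ℂ) * charDegree (χ : G → ℂ) := by
  have := Fintype.ofFinite G
  have := D.hM.2.1.isPrime
  obtain ⟨η, rfl⟩ := NilIrr.psi_surjective D.hM D.max D.inn D.loc hχ h0 hψ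
  exact ⟨η, rfl, NilIrr.charDegree_psi D.hM D.max D.inn D.loc hχ h0 η⟩

theorem st_mem {χ : IrrCharacter G} (hχ : χ ∈ B) (h0 : blockHeight p B (χ : G → ℂ) = 0) (η : IrrCharacter a.1) :
    ∃ ψ ∈ B, (ψ : G → ℂ) = st p M a η χ ∧
      charDegree (ψ : G → ℂ) = charDegree (η : a.1 → ℂ) * charDegree (χ : G → ℂ) := by
  have := Fintype.ofFinite G
  have := D.hM.2.1.isPrime
  exact ⟨_, NilIrr.psi_mem D.hM D.max D.inn D.loc hχ h0 η, rfl, NilIrr.charDegree_psi D.hM D.max D.inn D.loc hχ h0 η⟩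

theorem mn_of_height {χ : IrrCharacter G} (hχ : χ ∈ B) (h0 : blockHeight p B (χ : G → ℂ) = 0) : Mn B χ :=
  ⟨hχ, fun _ hψ => by
    obtain ⟨η, -, h⟩ := D.exists_st hχ h0 hψ
    exact Dvd.intro_left _ h.symm⟩

theorem exists_mn : ∃ χ, Mn B χ := by
  have := D.hM.2.1.isPrime
  obtain ⟨χ, hχ, h0⟩ := H648.HeightForm.exists_height_zero (p := p) D.nil.1
  exact ⟨χ, D.mn_of_height hχ h0⟩

theorem inner [Fintype G] [Fintype a.1] {χ : IrrCharacter G} (hχ : Mn B χ) {η η' : a.1 → ℂ}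
    (hη : IsClassFunction a.1 η) (hη' : IsClassFunction a.1 η') :
    classInner (st p M a η χ) (st p M a η' χ) = classInner η η' :=
  have := D.hM.2.1.isPrime
  NilIrr.classInner_star_ext0 D.hM D.max D.inn D.loc hχ.1 (height_of_mn hχ) hη hη'

theorem exists_lin {χ ψ : IrrCharacter G} (hχ : Mn B χ) (hψ : Mn B ψ) :
    ∃ l : a.1 →* ℂˣ, (ψ : G → ℂ) = st p M a (fun x => l x) χ := by
  obtain ⟨η, h1, h2⟩ := D.exists_st hχ.1 (height_of_mn hχ) hψ.1
  rw [Nat.dvd_antisymm (hψ.2 χ hχ.1) (hχ.2 ψ hψ.1)] at h2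
  have h3 : charDegree (η : a.1 → ℂ) = 1 := (Nat.mul_eq_right (charDegree_pos χ.2).ne').1 h2.symm
  obtain ⟨l, hl⟩ := Characters.Linear.exists_hom_of_isIrrCharacter η.2 (by
    rw [irr_one_eq_charDegree η.2, h3, Nat.cast_one])
  exact ⟨l, hl ▸ h1⟩

theorem mn_lin {χ : IrrCharacter G} (hχ : Mn B χ) (l : a.1 →* ℂˣ) :
    ∃ ψ, Mn B ψ ∧ (ψ : G → ℂ) = st p M a (fun x => l x) χ := by
  obtain ⟨ψ, h1, h2, h3⟩ := D.st_mem hχ.1 (height_of_mn hχ) ⟨_, Characters.Linear.isIrrCharacter_hom l⟩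
  refine ⟨ψ, ⟨h1, fun ξ hξ => ?_⟩, h2⟩
  rw [h3, ODD.Red.charDegree_of (n := 1) (by change ((l 1 : ℂˣ) : ℂ) = _; rw [map_one]; simp), one_mul]
  exact hχ.2 ξ hξ

/-- the members of minimal degree agree on the `p`-regular elements -/
theorem reg_eq {χ ψ : IrrCharacter G} (hχ : Mn B χ) (hψ : Mn B ψ) {x : G} (hx : IsPRegular p x) :
    (ψ : G → ℂ) x = (χ : G → ℂ) x := by
  obtain ⟨l, hl⟩ := D.exists_lin hχ hψ
  have h1 := star_apply_reg D.hM D.max
    (D.stable (isCharacter_isClassFunction (Characters.Linear.isCharacter_hom l))) hχ.1 hx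
  rw [NilIrr.ext0_of_mem _ a.1.one_mem] at h1
  have h2 : (⟨1, a.1.one_mem⟩ : a.1) = 1 := rfl
  rw [h2, map_one, Units.val_one, one_mul] at h1
  rw [hl]
  exact h1

theorem chiE_st {η : a.1 → ℂ} (hη : IsClassFunction a.1 η) {χ : G → ℂ} (hχ : IsClassFunction G χ) {u s x : G}
    {b : BrauerPairIdx G} (h : Sec p M u b s) (hx : LEIdx p M (conjIdx x b) a) (hu : x * u * x⁻¹ ∈ a.1) :
    chiE b (st p M a η χ) (u * s) = η ⟨_, hu⟩ * chiE b χ (u * s) := by
  have h1 := chiE_star D.hM (D.stable hη) hχ h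
  rw [etaW_eq (D.stable hη) h.fst hx, NilIrr.ext0_of_mem η hu] at h1
  exact h1

omit D in
theorem mem_of_le {v x : G} {b : BrauerPairIdx G} (hx : LEIdx p M (conjIdx x b) a) (hv : v ∈ b.1) :
    x * v * x⁻¹ ∈ a.1 := LEIdx.le hx ⟨v, hv, rfl⟩

/-- **the parts** -/
theorem part {u s : G} {b : BrauerPairIdx G} (h : Sec p M u b s) :
    (∀ χ ∈ B, chiE b (χ : G → ℂ) (u * s) = 0) ∨ ∃ x, LEIdx p M (conjIdx x b) a := by
  by_cases hb : IsBrauerPairOf p M B b.1 b.2
  · exact Or.inr (exists_conj_leIdx D.hM D.max hb)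
  · exact Or.inl fun χ hχ => chiE_eq_zero D.hM D.nil.1 hχ h hb

theorem eq_one {l : a.1 →* ℂˣ} {n : ℕ} (hn : ¬ p ∣ n) {v : a.1} (h : (l v : ℂ) ^ n = 1) : (l v : ℂ) = 1 := by
  obtain ⟨k, hk⟩ := D.pgr v
  have h1 : (l v : ℂ) ^ p ^ k = 1 := by rw [← Units.val_pow_eq_pow_val, ← map_pow, hk, map_one, Units.val_one]
  have h2 := pow_gcd_eq_one.2 ⟨h, h1⟩
  rwa [(((Fact.out : p.Prime).coprime_iff_not_dvd.2 hn).symm.pow_right k).gcd_eq_one, pow_one] at h2

theorem eq_of_pow {χ ψ : IrrCharacter G} (hχ : Mn B χ) (hψ : Mn B ψ) {n : ℕ} (hn : ¬ p ∣ n)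
    (h : ∀ u b s, Sec p M u b s → chiE b (ψ : G → ℂ) (u * s) ^ n = chiE b (χ : G → ℂ) (u * s) ^ n) : ψ = χ := by
  obtain ⟨l, hl⟩ := D.exists_lin hχ hψ
  refine Subtype.ext (ext_of_chiE D.hM (isIrr_isClassFunction ψ.2) (isIrr_isClassFunction χ.2) fun u b s hs => ?_)
  rcases D.part hs with h0 | ⟨x, hx⟩
  · exact (h0 ψ hψ.1).trans (h0 χ hχ.1).symm
  · have h1 := D.chiE_st (isCharacter_isClassFunction (Characters.Linear.isCharacter_hom l))
      (isIrr_isClassFunction χ.2) hs hx (mem_of_le hx hs.mem)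
    rw [← hl] at h1
    have h2 := h u b s hs
    rw [h1, mul_pow] at h2
    change chiE b (ψ : G → ℂ) (u * s) = chiE b (χ : G → ℂ) (u * s)
    by_cases h0 : chiE b (χ : G → ℂ) (u * s) = 0
    · rw [h1, h0, mul_zero]
    · rw [h1, D.eq_one hn ((mul_eq_right₀ (pow_ne_zero n h0)).1 h2), one_mul]

end Nd

/-- the barycentre of a family -/
def Bary (p : ℕ) (M : Ideal AlgInt) {ι : Type} [Fintype ι] (θ : G → ℂ) (F : ι → G → ℂ) : Prop :=
  ∀ u b s, Sec p M u b s → chiE b θ (u * s) ^ Fintype.card ι = ∏ i, chiE b (F i) (u * s)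

theorem Bary.map {H : Type v} [Group H] [Finite H] {ι : Type} [Fintype ι] {θ : H → ℂ} {F : ι → H → ℂ}
    (h : Bary p M θ F) (e : G ≃* H) : Bary p M (fun x => θ (e x)) fun i x => F i (e x) := fun u b s hs => by
  have h1 := h _ _ _ (hs.map e)
  rw [← map_mul, chiE_map] at h1
  exact h1.trans (Finset.prod_congr rfl fun i _ => chiE_map e b (F i) _)

theorem Bary.perm {ι : Type} [Fintype ι] {θ : G → ℂ} {F : ι → G → ℂ} (h : Bary p M θ F) (σ : ι ≃ ι) :
    Bary p M θ fun i => F (σ i) := fun u b s hs =>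
  (h u b s hs).trans (Equiv.prod_comp σ fun i => chiE b (F i) (u * s)).symm

theorem Nd.bary_unique {B : Set (IrrCharacter G)} {a : BrauerPairIdx G} (D : Nd p M B a) {ι : Type} [Fintype ι]
    (hn : ¬ p ∣ Fintype.card ι) {F : ι → G → ℂ} {χ ψ : IrrCharacter G} (hχ : Mn B χ) (hψ : Mn B ψ)
    (h1 : Bary p M (χ : G → ℂ) F) (h2 : Bary p M (ψ : G → ℂ) F) : ψ = χ :=
  D.eq_of_pow hχ hψ hn fun u b s hs => (h2 u b s hs).trans (h1 u b s hs).symm

end Cfsg.Agent.OM.Gen
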