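import Cfsg.Agent.OM.Gen.Up
import Cfsg.Agent.H597.Degrees
import Cfsg.Agent.H669.Basic

/-!
# OM (S4894): a nilpotent block under a `p`-extension (helper8)

* `Nd.coeff_one`, `Nd.val` : the degrees;
* `Pr` : compatible maximal pairs; `Pr.res_mn`, `Pr.res_st`, `Pr.bary`.
-/

set_option autoImplicit false
set_option linter.unusedSectionVars false

namespace Cfsg.Agent.OM.Gen

open Cfsg Subgroup Cfsg.Agent.H649 Cfsg.Agent.H650 Cfsg.Agent.H651 Cfsg.Agent.H652 Cfsg.Agent.Characters.Core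
  Cfsg.Agent.Blocks.Basic Cfsg.Agent.ODD.Red

universe u

variable {p : ℕ} {M : Ideal AlgInt} {G : Type u} [Group G]

theorem dH_hom [Finite G] (l : G →* ℂˣ) (g : G) : dH (fun x => (l x : ℂ)) g = l g := by
  apply Units.ext
  rw [← Characters.Linear.character_repOfHom, dH_rep, Characters.Linear.repOfHom_apply, LinearMap.det_smul,
    LinearMap.det_id, mul_one, Module.finrank_fin_fun, pow_one]

theorem dH_sum [Finite G] {ι : Type*} (s : Finset ι) (l : ι → G →* ℂˣ) (g : G) :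
    dH (∑ i ∈ s, fun x => (l i x : ℂ)) g = ∏ i ∈ s, l i g := by
  classical
  induction s using Finset.induction_on with
  | empty => rw [Finset.sum_empty, Finset.prod_empty, dH_zero]
  | insert i s hi ih =>
    rw [Finset.sum_insert hi, Finset.prod_insert hi, dH_add (Characters.Linear.isCharacter_hom _)
      (isCharacter_sum s fun j _ => Characters.Linear.isCharacter_hom _), ih, dH_hom]

variable [Fintype G] [Fact p.Prime]

theorem Nd.coeff_one {B : Set (IrrCharacter G)} {a : BrauerPairIdx G} (D : Nd p M B a) {χ : IrrCharacter G}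
    (hχ : Mn B χ) : (Nat.card G : ℂ) * blockCoeff B 1 = Nat.card a.1 * charDegree (χ : G → ℂ) ^ 2 := by
  classical
  have := D.hM.2.1.isPrime
  have := finite_irr (G := a.1)
  have := Fintype.ofFinite (IrrCharacter a.1)
  have h0 := height_of_mn (p := p) hχ
  have h1 : B = Set.range (NilIrr.psi D.hM D.max D.inn D.loc hχ.1 h0) := by
    ext ψ
    exact ⟨fun h => NilIrr.psi_surjective D.hM D.max D.inn D.loc hχ.1 h0 h,
      fun ⟨η, h⟩ => h ▸ NilIrr.psi_mem D.hM D.max D.inn D.loc hχ.1 h0 η⟩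
  have h2 := Characters.Counting.sum_irr_one_mul (G := a.1) 1
  rw [if_pos rfl] at h2
  rw [blockCoeff_def, mul_inv_cancel_left₀ card_ne_zero_complex, ← h2, Finset.sum_mul]
  refine (finsum_mem_congr h1 fun _ _ => rfl).trans ?_
  rw [finsum_mem_range (NilIrr.psi_injective D.hM D.max D.inn D.loc hχ.1 h0), finsum_eq_sum_of_fintype]
  refine Finset.sum_congr rfl fun η _ => ?_
  rw [irr_one_eq_charDegree (NilIrr.psi D.hM D.max D.inn D.loc hχ.1 h0 η).2, NilIrr.charDegree_psi,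
    irr_one_eq_charDegree η.2, map_natCast]
  push_cast
  ring

theorem Nd.val {B : Set (IrrCharacter G)} {a : BrauerPairIdx G} (D : Nd p M B a) {χ : IrrCharacter G}
    (hχ : Mn B χ) : ∃ x, Nat.card a.1 = p ^ x ∧
      (charDegree (χ : G → ℂ)).factorization p + x = (Nat.card G).factorization p := by
  have := D.hM.2.1.isPrime
  refine ⟨_, S0908.result p M D.hM B D.nil.1 _ (H644.isDefectGroup_of_isMaximalBrauerPair D.hM D.max), ?_⟩
  have h0 := height_of_mn (p := p) hχ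
  have h1 : sInf ((fun ψ : IrrCharacter G => (charDegree (ψ : G → ℂ)).factorization p) '' B) ≤
      (charDegree (χ : G → ℂ)).factorization p := Nat.sInf_le ⟨χ, hχ.1, rfl⟩
  have h2 := (Nat.factorization_le_iff_dvd (charDegree_pos χ.2).ne' Nat.card_pos.ne').2
    (H669.Basic.charDegree_dvd_card χ.2) p
  rw [blockHeight_def] at h0
  rw [blockDefect_def]
  omega

/-- compatible maximal pairs -/
structure Pr (p : ℕ) (M : Ideal AlgInt) (N : Subgroup G) [Fintype N] (e : Set (IrrCharacter N))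
    (B : Set (IrrCharacter G)) (a : BrauerPairIdx N) (A : BrauerPairIdx G) : Prop where
  idx : ∃ k : ℕ, N.index = p ^ k
  lo : Nd p M e a
  hi : Nd p M B A
  up : ∃ c, Up M N a c ∧ LEIdx p M c A
  mem : ∀ (χ : IrrCharacter G) (θ : IrrCharacter N), classInner (fun n : N => (χ : G → ℂ) n) (θ : N → ℂ) ≠ 0 →
    (χ ∈ B ↔ θ ∈ e)
  one : blockCoeff B 1 = blockCoeff e 1

variable {N : Subgroup G} [N.Normal] [Fintype N] {e : Set (IrrCharacter N)}

theorem exists_pr (hM : IsPModular p M) (hN : ∃ k : ℕ, N.index = p ^ k) (he : IsNilpotentBlock p M e)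
    (hst : ∀ x : G, StabilizesBlock N e x) : ∃ B a A, Pr p M N e B a A := by
  have := hM.2.1.isPrime
  have hU := H646.UCov.ucov_of_index hM N hN
  obtain ⟨B, hB, h1, h2⟩ := H646.UCov.exists_block_of_stable N hM hU he.1 hst
  have h3 : H644.idem M B = H644.emb N (H644.idem M e) := by
    rw [← H644.toK_subgroupBlockCoeff]
    exact H644.ext_coeff fun g => by rw [H644.coeff_idem, H644.coeff_toK, h2]
  obtain ⟨a, ha⟩ := exists_nd hM he
  obtain ⟨c, hc⟩ := exists_up hM hN ha.max.1.1.2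
  obtain ⟨P, f, h4, h5⟩ := H644.exists_maximal_above hM (hc.of hM hB h3 ha.max.1)
  refine ⟨B, a, ⟨P, f⟩, hN, ha, ⟨hM, h4, Cabanes.cover_nilpotent N hM hN hB h3 he⟩, ⟨c, hc, h5⟩, fun χ θ h =>
    ⟨fun hχ => h1 ▸ ⟨χ, hχ, h⟩, fun hθ => ?_⟩, (h2 1).trans (subgroupBlockCoeff_of_mem N e N.one_mem)⟩
  rw [← H646.UCov.lyingOver_underSet N hU hB, h1]
  exact ⟨θ, hθ, h⟩

namespace Pr

variable {B : Set (IrrCharacter G)} {a : BrauerPairIdx N} {A : BrauerPairIdx G} (R : Pr p M N e B a A)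
include R

theorem le (v : a.1) : ((v : N) : G) ∈ A.1 := by
  obtain ⟨c, h1, h2⟩ := R.up
  exact LEIdx.le h2 (h1.fst ▸ (mem_map_iff a.1 _).1 v.2)

/-- the inclusion of the defect groups -/
def inc : a.1 →* A.1 := (N.subtype.comp a.1.subtype).codRestrict A.1 R.le

/-- **the members of minimal degree restrict irreducibly** -/
theorem res_mn {χ : IrrCharacter G} (hχ : Mn B χ) : ∃ θ, Mn e θ ∧ (fun n : N => (χ : G → ℂ) n) = θ := by
  have hp : p.Prime := Fact.out
  obtain ⟨θ, hθ⟩ := R.lo.exists_mn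
  obtain ⟨ξ, hξ⟩ := Blocks.Fong.exists_constituent N χ
  have h1 := (R.mem χ ξ hξ).1 hχ.1
  obtain ⟨d₁, h2, -⟩ := H597.Degrees.degree_over N χ.2 ξ.2 hξ
  obtain ⟨d₂, h3⟩ := hθ.2 ξ h1
  obtain ⟨k, hk⟩ := R.idx
  obtain ⟨x, hx, hx'⟩ := R.hi.val hχ
  obtain ⟨y, hy, hy'⟩ := R.lo.val hθ
  have h4 := R.hi.coeff_one hχ
  have h5 := R.lo.coeff_one hθ
  have h0 := (charDegree_pos θ.2).ne'
  have hd : d₂ * d₁ ≠ 0 := fun h => (charDegree_pos χ.2).ne' (by rw [h2, h3, mul_assoc, h, mul_zero])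
  rw [R.one, ← N.index_mul_card, hk, Nat.cast_mul, mul_assoc, h5, hx, hy, h2, h3] at h4
  have h6 : p ^ (k + y) = p ^ x * (d₂ * d₁) ^ 2 := by
    refine Nat.eq_of_mul_eq_mul_right (pow_pos (charDegree_pos θ.2) 2) ?_
    have h7 : p ^ k * (p ^ y * charDegree (θ : N → ℂ) ^ 2) = p ^ x * (charDegree (θ : N → ℂ) * d₂ * d₁) ^ 2 := by
      exact_mod_cast h4
    rw [pow_add, mul_assoc, h7]
    ring
  have h7 := congrArg (fun n : ℕ => n.factorization p) h6
  rw [← N.index_mul_card, hk, h2, h3, mul_assoc, Nat.factorization_mul h0 hd,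
    Nat.factorization_mul (pow_ne_zero _ hp.ne_zero) Nat.card_pos.ne', hp.factorization_pow] at hx'
  simp only [Nat.factorization_mul (pow_ne_zero _ hp.ne_zero) (pow_ne_zero 2 hd), hp.factorization_pow,
    Nat.factorization_pow, Finsupp.add_apply, Finsupp.single_eq_same, Finsupp.smul_apply, smul_eq_mul] at h7 hx'
  rw [show k + y = x by omega] at h6
  have h8 : d₂ * d₁ = 1 := (pow_eq_one_iff.1 ((Nat.mul_eq_left (pow_ne_zero _ hp.ne_zero)).1 h6.symm)).resolve_right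
    two_ne_zero
  rw [Nat.eq_one_of_mul_eq_one_left h8, mul_one] at h2
  rw [Nat.eq_one_of_mul_eq_one_right h8, mul_one] at h3
  refine ⟨ξ, ⟨h1, fun ψ hψ => h3 ▸ hθ.2 ψ hψ⟩,
    H597.Base.eq_of_degree_eq (isCharacter_comp N.subtype (isIrr_isCharacter χ.2)) ξ.2 hξ ?_⟩
  rw [irr_one_eq_charDegree ξ.2, ← h2]
  exact irr_one_eq_charDegree χ.2

/-- **the product commutes with the restriction** -/
theorem res_st {χ : IrrCharacter G} {θ : IrrCharacter N} (hθ : θ ∈ e) (h : (fun n : N => (χ : G → ℂ) n) = θ)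
    {η : A.1 → ℂ} (hη : IsClassFunction A.1 η) :
    (fun n : N => st p M A η χ n) = st p M a (fun v => η (R.inc v)) θ := by
  have hM := R.lo.hM
  have := hM.2.1.isPrime
  have c1 := isIrr_isClassFunction χ.2
  have c2 := isIrr_isClassFunction θ.2
  have c3 : IsClassFunction a.1 fun v => η (R.inc v) := fun v w => by
    change η (R.inc (w * v * w⁻¹)) = η (R.inc v)
    rw [map_mul, map_mul, map_inv, hη]
  have c4 := R.hi.cls_st hη c1
  have c5 : IsClassFunction N fun n : N => st p M A η χ n := fun v w => c4 v w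
  have c6 := R.lo.cls_st c3 c2
  have key : ∀ u b s, Sec p M u b s → LEIdx p M b a →
      chiE b (fun n : N => st p M A η χ n) (u * s) = chiE b (st p M a (fun v => η (R.inc v)) θ) (u * s) := by
    intro u b s hs hb
    obtain ⟨c, hc⟩ := exists_up hM R.idx hs.blk
    obtain ⟨c₀, h1, h2⟩ := R.up
    have h3 : LEIdx p M (conjIdx 1 c) A := (conjIdx_one c).symm ▸ (hc.le hM R.idx h1 hb).trans h2
    have h4 : LEIdx p M (conjIdx 1 b) a := (conjIdx_one b).symm ▸ hb
    have h5 := Nd.mem_of_le h4 hs.mem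
    have h6 : (1 : G) * u * 1⁻¹ ∈ A.1 := R.le ⟨_, h5⟩
    rw [hc.chiE_mul hM hs c4 c1 fun t ht => R.hi.chiE_st hη c1 ht h3 h6, R.lo.chiE_st c3 c2 hs h4 h5, h]
    rfl
  refine ext_of_chiE hM c5 c6 fun u b s hs => ?_
  rcases R.lo.part hs with h0 | ⟨x, hx⟩
  · obtain ⟨c, hc⟩ := exists_up hM R.idx hs.blk
    rw [hc.chiE_mul hM hs c4 c1 fun t ht => chiE_star hM (R.hi.stable hη) c1 ht, h, h0 θ hθ, mul_zero]
    exact ((chiE_star hM (R.lo.stable c3) c2 hs).trans (by rw [h0 θ hθ, mul_zero])).symm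
  · have h1 := key _ _ _ (hs.map (MulAut.conj x)) hx
    rw [← map_mul] at h1
    exact (chiE_conjIdx x b c5 _).symm.trans (h1.trans (chiE_conjIdx x b c6 _))

/-- **the barycentre extends** -/
theorem bary {ζ : G → ℂ} (hζ : IsCharacter G ζ) {ι : Type} [Fintype ι] (hn : ¬ p ∣ Fintype.card ι)
    {F : ι → IrrCharacter N} (hF : ∀ i, Mn e (F i)) (h : (fun n : N => ζ n) = ∑ i, (F i : N → ℂ)) :
    ∃ (χ : IrrCharacter G) (θ : IrrCharacter N), Mn e θ ∧ (fun n : N => (χ : G → ℂ) n) = θ ∧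
      Bary p M (θ : N → ℂ) fun i => (F i : N → ℂ) := by
  classical
  have := finite_irr (G := G)
  have := Fintype.ofFinite (IrrCharacter G)
  have := Fintype.ofFinite a.1
  have : Nonempty (IrrCharacter A.1) := ⟨⟨1, isIrr_one⟩⟩
  obtain ⟨χ, hχ⟩ := R.hi.exists_mn
  obtain ⟨θ, hθ, hr⟩ := R.res_mn hχ
  obtain ⟨m, hm⟩ := exists_nat_comb hζ
  have h1 : ∀ φ : N → ℂ, classInner (fun n : N => ζ n) φ =
      ∑ ψ : IrrCharacter G, m ψ * classInner (fun n : N => (ψ : G → ℂ) n) φ := fun φ => by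
    have h2 : (fun n : N => ζ n) = ∑ ψ : IrrCharacter G, (m ψ : ℂ) • fun n : N => (ψ : G → ℂ) n := by
      funext n
      rw [hm, Finset.sum_apply, Finset.sum_apply]
      exact Finset.sum_congr rfl fun ψ _ => nsmul_eq_mul _ _
    rw [h2, classInner_sum_left]
    exact Finset.sum_congr rfl fun ψ _ => classInner_smul_left _ _ _
  have h2 : ∀ ψ, m ψ ≠ 0 → ψ ∈ B := fun ψ hψ => by
    obtain ⟨ξ, hξ⟩ := Blocks.Fong.exists_constituent N ψ
    refine (R.mem ψ ξ hξ).2 (by_contra fun hne => ?_)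
    choose k hk using fun ψ' : IrrCharacter G => classInner_isNat (χ := fun n : N => (ψ' : G → ℂ) n)
      (isCharacter_comp N.subtype (isIrr_isCharacter ψ'.2)) (isIrr_isCharacter ξ.2)
    have h3 := h1 ξ
    rw [h, classInner_sum_left, Finset.sum_eq_zero fun i _ =>
      classInner_irr_ne (F i).2 ξ.2 fun e' => hne (Subtype.ext e' ▸ (hF i).1),
      Finset.sum_congr rfl fun ψ' _ => congrArg ((m ψ' : ℂ) * ·) (hk ψ')] at h3
    have h4 : ∑ ψ' : IrrCharacter G, m ψ' * k ψ' = 0 := by exact_mod_cast h3.symm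
    have h5 := (mul_eq_zero.1 (Finset.sum_eq_zero_iff.1 h4 ψ (Finset.mem_univ _))).resolve_left hψ
    exact hξ ((hk ψ).trans (by rw [h5, Nat.cast_zero]))
  choose! η hη using fun ψ hψ => R.hi.exists_st hχ.1 (height_of_mn hχ) (h2 ψ hψ)
  choose l hl using fun i => R.lo.exists_lin hθ (hF i)
  have c1 : IsCharacter A.1 (∑ ψ, m ψ • (η ψ : A.1 → ℂ)) :=
    isCharacter_sum _ fun ψ _ => isCharacter_nsmul _ (isIrr_isCharacter (η ψ).2)
  have c2 : ∀ i, IsClassFunction a.1 fun v => (l i v : ℂ) := fun i =>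
    isCharacter_isClassFunction (Characters.Linear.isCharacter_hom _)
  have h3 : (fun v => (∑ ψ, m ψ • (η ψ : A.1 → ℂ)) (R.inc v)) = ∑ i, fun v => (l i v : ℂ) := by
    refine classFunction_ext (isCharacter_isClassFunction (isCharacter_comp R.inc c1))
      (isCharacter_isClassFunction (isCharacter_sum _ fun i _ => Characters.Linear.isCharacter_hom _)) fun κ hκ => ?_
    have c3 := isIrr_isClassFunction hκ
    have h4 := h1 (st p M a κ θ)
    rw [h, classInner_sum_left, Finset.sum_congr rfl fun i _ => by rw [hl i, R.lo.inner hθ (c2 i) c3]] at h4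
    have h5 : (fun v => (∑ ψ, m ψ • (η ψ : A.1 → ℂ)) (R.inc v)) =
        ∑ ψ, (m ψ : ℂ) • fun v => (η ψ : A.1 → ℂ) (R.inc v) := by
      funext v
      rw [Finset.sum_apply, Finset.sum_apply]
      exact Finset.sum_congr rfl fun ψ _ => nsmul_eq_mul _ _
    rw [classInner_sum_left, h4, h5, classInner_sum_left]
    refine Finset.sum_congr rfl fun ψ _ => ?_
    rw [classInner_smul_left]
    by_cases h0 : m ψ = 0
    · rw [h0, Nat.cast_zero, zero_mul, zero_mul]
    · rw [(hη ψ h0).1, R.res_st hθ.1 hr (isIrr_isClassFunction (η ψ).2), R.lo.inner hθ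
        (isCharacter_isClassFunction (isCharacter_comp' R.inc (isIrr_isCharacter (η ψ).2))) c3]
  have h4 : ∀ v, dH (∑ ψ, m ψ • (η ψ : A.1 → ℂ)) (R.inc v) = ∏ i, l i v := fun v => by
    rw [← dH_comp R.inc c1, h3, dH_sum]
  generalize dH (∑ ψ, m ψ • (η ψ : A.1 → ℂ)) = μ at h4
  obtain ⟨k, hk⟩ := IsPGroup.iff_card.1 R.hi.pgr
  have h5 : orderOf μ ∣ p ^ k := orderOf_dvd_of_pow_eq_one (MonoidHom.ext fun v => by
    rw [MonoidHom.pow_apply, ← map_pow, ← hk, pow_card_eq_one', map_one, MonoidHom.one_apply])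
  obtain ⟨j, hj⟩ := exists_pow_eq_self_of_coprime
    ((((Fact.out : p.Prime).coprime_iff_not_dvd.2 hn).symm.pow_right k).coprime_dvd_right h5)
  obtain ⟨χ', -, h6⟩ := R.hi.mn_lin hχ (μ ^ j)
  obtain ⟨θ', h7, h8⟩ := R.lo.mn_lin hθ ((μ ^ j).comp R.inc)
  refine ⟨χ', θ', h7, ?_, fun u b s hs => ?_⟩
  · rw [h6, h8]
    exact R.res_st hθ.1 hr (isCharacter_isClassFunction (Characters.Linear.isCharacter_hom _))
  have hι : Fintype.card ι ≠ 0 := fun h0 => hn (h0 ▸ dvd_zero p)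
  rcases R.lo.part hs with h0 | ⟨x, hx⟩
  · obtain ⟨i⟩ := Fintype.card_pos_iff.1 (Nat.pos_of_ne_zero hι)
    rw [h0 θ' h7.1, zero_pow hι, Finset.prod_eq_zero (Finset.mem_univ i) (h0 _ (hF i).1)]
  · have h9 := Nd.mem_of_le hx hs.mem
    have c3 := isIrr_isClassFunction θ.2
    rw [h8, R.lo.chiE_st (isCharacter_isClassFunction (Characters.Linear.isCharacter_hom _)) c3 hs hx h9,
      Finset.prod_congr rfl fun i _ => (congrArg (chiE b · (u * s)) (hl i)).trans (R.lo.chiE_st (c2 i) c3 hs hx h9),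
      Finset.prod_mul_distrib, Finset.prod_const, Finset.card_univ, mul_pow, ← Units.coe_prod, ← h4,
      ← Units.val_pow_eq_pow_val, MonoidHom.comp_apply, ← MonoidHom.pow_apply, ← pow_mul, mul_comm j, pow_mul, hj]

end Pr

end Cfsg.Agent.OM.Gen
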