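import Cfsg.Agent.OM.Gen.Part
import Cfsg.Agent.H652.Cabanes

/-!
# OM (S4894): Brauer pairs over a normal subgroup of `p`-power index (helper8)

* `Up M N b c` : the pair `c` of `G` lies over the pair `b` of `N`; `exists_up`, `Up.le`, `Up.of`;
* `Up.chiE_mul` : proportional parts restrict to proportional parts.
-/

set_option autoImplicit false
set_option linter.unusedSectionVars false

namespace Cfsg.Agent.OM.Gen

open Cfsg Subgroup Cfsg.Agent.H649 Cfsg.Agent.H650 Cfsg.Agent.H651 Cfsg.Agent.H652 Cfsg.Agent.Characters.Core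
  Cfsg.Agent.Blocks.Basic Cfsg.Agent.Blocks.ConvCentral Cfsg.Agent.Blocks.MinMax Cfsg.Agent.Blocks.Local

universe u

variable {p : ℕ} {M : Ideal AlgInt} {G : Type u} [Group G] [Fintype G]

theorem coeff_emb_mkA (L : Subgroup G) (f : L → ℂ) (g : G) :
    (H644.emb L (H644.mkA f)).coeff g = extendByZero L f g := by
  by_cases hg : g ∈ L
  · rw [H644.coeff_emb_of_mem _ hg, extendByZero_of_mem L f hg, H644.coeff_mkA]
  · rw [H644.coeff_emb_of_notMem _ hg, extendByZero_of_notMem L f hg]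

theorem conv_ez (L : Subgroup G) [Fintype L] (f f' : L → ℂ) :
    conv (extendByZero L f) (extendByZero L f') = extendByZero L (conv f f') := by
  funext g
  have h1 : H644.mkA (conv f f') = H644.mkA f * H644.mkA f' :=
    H644.ext_coeff fun x => by rw [H644.coeff_mul_eq_sum]; rfl
  rw [← coeff_emb_mkA, h1, map_mul, H644.coeff_mul_eq_sum, conv_apply]
  exact Finset.sum_congr rfl fun k _ => by rw [coeff_emb_mkA, coeff_emb_mkA]

theorem sbc_eq (L : Subgroup G) (e : Set (IrrCharacter L)) :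
    subgroupBlockCoeff L e = extendByZero L (blockCoeff e) := by
  funext g
  by_cases hg : g ∈ L
  · rw [subgroupBlockCoeff_of_mem L e hg, extendByZero_of_mem L _ hg]
  · rw [subgroupBlockCoeff_of_notMem L e hg, extendByZero_of_notMem L _ hg]

theorem conv_sub {U f : Set (IrrCharacter G)} (h : f ⊆ U) : conv (blockCoeff U) (blockCoeff f) = blockCoeff f := by
  classical
  refine eq_of_omega (isClassFunction_conv (isClassFunction_blockCoeff U) (isClassFunction_blockCoeff f))
    (isClassFunction_blockCoeff f) fun χ hχ => ?_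
  have h1 := omega_blockCoeff U ⟨χ, hχ⟩
  have h2 := omega_blockCoeff f ⟨χ, hχ⟩
  rw [omega_conv hχ (isClassFunction_blockCoeff U)]
  change omega χ _ = _ at h1 h2
  rw [h1, h2]
  by_cases h3 : (⟨χ, hχ⟩ : IrrCharacter G) ∈ f
  · rw [if_pos h3, if_pos (h h3), mul_one]
  · rw [if_neg h3, mul_zero]

variable [Fact p.Prime]

theorem exists_cov (hM : IsPModular p M) (L : Subgroup G) [L.Normal] (hL : ∃ k : ℕ, L.index = p ^ k)
    {f : Set (IrrCharacter L)} (hf : IsPBlock M f) : ∃ F : Set (IrrCharacter G), IsPBlock M F ∧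
      conv (blockCoeff F) (extendByZero L (blockCoeff f)) = extendByZero L (blockCoeff f) := by
  have := hM.2.1.isPrime
  have := Fintype.ofFinite L
  have hU := H646.UCov.ucov_of_index hM L hL
  obtain ⟨θ, hθ⟩ := isPBlock_nonempty hf
  obtain ⟨χ, hχ⟩ := Blocks.Over.exists_over L θ
  have hF : IsPBlock M (blockOf M (χ : G → ℂ)) := isPBlock_blockOf χ
  refine ⟨_, hF, ?_⟩
  rw [funext (H646.UCov.blockCoeff_eq_subgroupBlockCoeff L hU hF), sbc_eq, conv_ez, conv_sub]
  intro φ hφ
  exact (H646.UCov.mem_underSet_iff L hM hU hF hf hθ ⟨χ, mem_blockOf_self χ, hχ⟩ φ).2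
    ⟨1, by rwa [Blocks.Fong.cj_one]⟩

/-- the pair `c` lies over the pair `b` -/
structure Up (M : Ideal AlgInt) (N : Subgroup G) (b : BrauerPairIdx N) (c : BrauerPairIdx G) : Prop where
  fst : c.1 = b.1.map N.subtype
  low : IsPBlock M b.2
  blk : IsPBlock M c.2
  cv : conv (cfE c) (extendByZero N (cfE b)) = extendByZero N (cfE b)

variable {N : Subgroup G}

theorem mem_map_iff (Q : Subgroup N) (n : N) : n ∈ Q ↔ (n : G) ∈ Q.map N.subtype :=
  ⟨fun h => ⟨n, h, rfl⟩, fun ⟨_, hm, h⟩ => Subtype.ext h ▸ hm⟩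

theorem cen_iff (Q : Subgroup N) (n : N) :
    n ∈ centralizer (Q : Set N) ↔ (n : G) ∈ centralizer ((Q.map N.subtype : Subgroup G) : Set G) :=
  Cabanes.mem_centralizer_iff_of (mem_map_iff Q) (map_subtype_le Q) n

/-- the centralizer in `N` as a subgroup of the centralizer in `G` -/
def cenE (Q : Subgroup N) :
    centralizer (Q : Set N) ≃* N.subgroupOf (centralizer ((Q.map N.subtype : Subgroup G) : Set G)) where
  toFun c := ⟨⟨((c : N) : G), (cen_iff Q _).1 c.2⟩, (c : N).2⟩
  invFun c := ⟨⟨_, c.2⟩, (cen_iff Q _).2 c.1.2⟩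
  left_inv _ := rfl
  right_inv _ := rfl
  map_mul' _ _ := rfl

theorem exists_up (hM : IsPModular p M) [N.Normal] (hN : ∃ k : ℕ, N.index = p ^ k) {b : BrauerPairIdx N}
    (hb : IsPBlock M b.2) : ∃ c, Up M N b c := by
  have := Fintype.ofFinite (centralizer ((b.1.map N.subtype : Subgroup G) : Set G))
  obtain ⟨F, hF, h⟩ := exists_cov hM _ (Cabanes.relIndex_pow hM.1 N hN _) (isPBlock_blkMap (e := cenE b.1) hb)
  have h1 : extendByZero N (cfE b) = extendByZero (centralizer ((b.1.map N.subtype : Subgroup G) : Set G))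
      (extendByZero _ (blockCoeff (blkMap (cenE b.1) b.2))) := by
    funext g
    by_cases hg : g ∈ centralizer ((b.1.map N.subtype : Subgroup G) : Set G)
    · rw [extendByZero_of_mem _ _ hg]
      by_cases hn : g ∈ N
      · rw [extendByZero_of_mem _ _ hn, cfE_of_mem b ((cen_iff b.1 ⟨g, hn⟩).2 hg),
          extendByZero_of_mem (N.subgroupOf _) _ (g := ⟨g, hg⟩) hn]
        exact (blockCoeff_blkMap (cenE b.1) b.2 _).symm
      · rw [extendByZero_of_notMem _ _ hn, extendByZero_of_notMem (N.subgroupOf _) _ (g := ⟨g, hg⟩) hn]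
    · rw [extendByZero_of_notMem _ _ hg]
      by_cases hn : g ∈ N
      · rw [extendByZero_of_mem _ _ hn, cfE_of_notMem b fun h => hg ((cen_iff b.1 ⟨g, hn⟩).1 h)]
      · rw [extendByZero_of_notMem _ _ hn]
  refine ⟨⟨_, F⟩, rfl, hb, hF, ?_⟩
  rw [h1, show cfE (⟨_, F⟩ : BrauerPairIdx G) = _ from sbc_eq _ F, conv_ez, h]

/-! ### the parts -/

theorem chiE_res (b : BrauerPairIdx N) (χ : G → ℂ) (g : N) :
    chiE b (fun n => χ n) g = ∑ k : G, extendByZero N (cfE b) k * χ (k * g) := by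
  classical
  have := Fintype.ofFinite N
  rw [chiE_eq_sum]
  refine Finset.sum_of_injOn (fun k : N => (k : G)) Subtype.val_injective.injOn
    (fun _ _ => Finset.mem_coe.2 (Finset.mem_univ _)) (fun k _ hk => ?_) fun k _ => ?_
  · rw [extendByZero_of_notMem N _ fun h => hk ⟨⟨k, h⟩, Finset.mem_coe.2 (Finset.mem_univ _), rfl⟩, zero_mul]
  · rw [extendByZero_of_mem N _ k.2]
    rfl

namespace Up

variable {b b' : BrauerPairIdx N} {c c' : BrauerPairIdx G}

theorem chiE_eq (h : Up M N b c) (χ : G → ℂ) (g : N) :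
    chiE b (fun n => χ n) g = chiE b (fun n => chiE c χ n) g := by
  rw [chiE_res, chiE_res, ← h.cv]
  conv_rhs => rw [h.cv]
  simp only [conv_apply, chiE_eq_sum, Finset.sum_mul, Finset.mul_sum]
  rw [Finset.sum_comm, Finset.sum_comm (f := fun k l => _ * (cfE c l * _))]
  refine Finset.sum_congr rfl fun l _ => ?_
  rw [← Equiv.sum_comp (Equiv.mulLeft l)]
  refine Finset.sum_congr rfl fun m _ => ?_
  rw [Equiv.coe_mulLeft, inv_mul_cancel_left, mul_assoc l]
  ring

theorem sec (h : Up M N b c) {u s : N} (hs : Sec p M u b s) {t : G} (h1 : Commute (u : G) t) (h2 : ¬ p ∣ orderOf t) :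
    Sec p M (u : G) c t where
  hu := by rw [orderOf_coe]; exact hs.hu
  fst := by rw [h.fst, hs.fst, MonoidHom.map_zpowers]; rfl
  blk := h.blk
  com := h1
  reg := h2

theorem cls (h : Up M N b c) {u : N} (hu : u ∈ b.1) {χ : G → ℂ} (hχ : IsClassFunction G χ) (w : ℂ) :
    IsClassFunction (centralizer (b.1 : Set N))
      fun t : centralizer (b.1 : Set N) => w * chiE c χ ((u * t : N) : G) := by
  intro t x
  have hu' : (u : G) ∈ c.1 := h.fst ▸ (mem_map_iff b.1 u).1 hu
  have h1 : ∀ t : centralizer (b.1 : Set N), ((t : N) : G) ∈ centralizer (c.1 : Set G) := fun t =>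
    h.fst ▸ (cen_iff b.1 _).1 t.2
  have h2 := isClassFunction_blockPart c.2 (fun y : centralizer (c.1 : Set G) => χ (u * y)) ⟨_, h1 t⟩ ⟨_, h1 x⟩
  rw [← Gen.chiE_eq c hu' hχ, ← Gen.chiE_eq c hu' hχ] at h2
  exact congrArg (w * ·) h2

/-- proportional parts restrict to proportional parts -/
theorem chiE_mul (hM : IsPModular p M) (h : Up M N b c) {u s : N} (hs : Sec p M u b s) {ζ χ : G → ℂ}
    (hζ : IsClassFunction G ζ) (hχ : IsClassFunction G χ) {w : ℂ}
    (e : ∀ t, Sec p M (u : G) c t → chiE c ζ (u * t) = w * chiE c χ (u * t)) :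
    chiE b (fun n => ζ n) (u * s) = w * chiE b (fun n => χ n) (u * s) := by
  rw [h.chiE_eq ζ, h.chiE_eq χ, ← Gen.chiE_mul]
  refine chiE_congr' hM hs hs.mem (by simpa only [one_mul] using h.cls hs.mem hζ 1) (h.cls hs.mem hχ w)
    fun t h1 h2 => e t (h.sec hs (h1.map N.subtype) ?_)
  rwa [orderOf_coe]

/-! ### inclusions -/

variable [M.IsPrime]

open H644 in
theorem mul (hM : IsPModular p M) (h : Up M N b c) :
    emb _ (idem M c.2) * emb N (emb _ (idem M b.2)) = emb N (emb _ (idem M b.2)) := by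
  have h1 : toK M (extendByZero N (cfE b)) = emb N (emb _ (idem M b.2)) := by
    rw [← toK_subgroupBlockCoeff]
    refine ext_coeff fun g => ?_
    by_cases hg : g ∈ N
    · rw [coeff_toK, extendByZero_of_mem N _ hg, coeff_emb_of_mem _ hg, coeff_toK]
      rfl
    · rw [coeff_toK, extendByZero_of_notMem N _ hg, coeff_emb_of_notMem _ hg, redC_zero]
  have h2 : ∀ g, MemLocalRing M (extendByZero N (cfE b) g) := fun g => by
    by_cases hg : g ∈ N
    · rw [extendByZero_of_mem N _ hg]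
      exact memLocalRing_subgroupBlockCoeff hM (isUnion_of_isPBlock h.low) _
    · rw [extendByZero_of_notMem N _ hg]
      exact memLocalRing_zero
  rw [← h1, ← toK_subgroupBlockCoeff,
    ← toK_conv (memLocalRing_subgroupBlockCoeff hM (isUnion_of_isPBlock h.blk)) h2]
  exact congrArg (toK M) h.cv

open H644 in
theorem ne_zero (hM : IsPModular p M) (h : Up M N b c) : emb N (emb _ (idem M b.2)) ≠ 0 := fun e =>
  Cabanes.emb_idem_ne_zero hM h.low (emb_injective N (e.trans (map_zero _).symm))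

open H644 in
theorem lam_one (hM : IsPModular p M) (h : Up M N b c) {y : MonoidAlgebra (ResField M) (centralizer (c.1 : Set G))}
    (h1 : IsCls y) (h2 : y * y = y) (h3 : emb _ y * emb N (emb _ (idem M b.2)) = emb N (emb _ (idem M b.2)))
    {ξ : IrrCharacter (centralizer (c.1 : Set G))} (hξ : ξ ∈ c.2) : lam M (ξ : _ → ℂ) y = 1 := by
  refine (lam_idempotent ξ h1 h2).resolve_left fun h0 => h.ne_zero hM ?_
  have h4 : y * idem M c.2 = 0 := mul_idem_of_lam_eq_zero hM h1 h2 (isUnion_of_isPBlock h.blk) fun χ hχ => by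
    rw [lam_eq_of_mem h.blk hχ hξ]
    exact h0
  rw [← h3, ← h.mul hM, ← mul_assoc, ← map_mul, h4, map_zero, zero_mul]

open H644 in
theorem eq_of_mul (hM : IsPModular p M) (h : Up M N b c) (h1 : c'.1 = c.1) (h2 : IsPBlock M c'.2)
    (h3 : emb _ (idem M c'.2) * emb N (emb _ (idem M b.2)) = emb N (emb _ (idem M b.2))) : c' = c := by
  obtain ⟨Q, F⟩ := c
  obtain ⟨Q', F'⟩ := c'
  obtain rfl : Q' = Q := h1
  obtain ⟨ξ, hξ⟩ := isPBlock_nonempty h.blk
  have h4 := h.lam_one hM (isCls_idem F') (idem_mul_self hM (isUnion_of_isPBlock h2)) h3 hξ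
  exact congrArg (Sigma.mk Q') (isPBlock_eq_of_mem h2 h.blk ((lam_idem_eq_one_iff hM (isUnion_of_isPBlock h2)).1 h4) hξ)

theorem unique (hM : IsPModular p M) (h : Up M N b c) (h' : Up M N b c') : c' = c :=
  h.eq_of_mul hM (h'.fst.trans h.fst.symm) h'.blk (h'.mul hM)

open H644 in
theorem of (hM : IsPModular p M) (h : Up M N b c) {e : Set (IrrCharacter N)} {B : Set (IrrCharacter G)}
    (hB : IsPBlock M B) (hBe : idem M B = emb N (idem M e)) (hb : IsBrauerPairOf p M e b.1 b.2) :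
    IsBrauerPairOf p M B c.1 c.2 := by
  obtain ⟨Q, F⟩ := c
  obtain rfl : Q = b.1.map N.subtype := h.fst
  have hQ : IsPGroup p (b.1.map N.subtype) := hb.1.1.map _
  refine (isBrauerPairOf_iff hM).2 ⟨⟨hQ, h.blk⟩, hB, fun ξ hξ => h.lam_one hM (isCls_br_of_isCls (isCls_idem B))
    (Cabanes.br_idem_mul_self hM hB hQ) ?_ hξ⟩
  change emb _ (br (b.1.map N.subtype) (idem M B)) * _ = _
  rw [hBe, Cabanes.emb_br_emb _ b.1 (mem_map_iff b.1) (map_subtype_le _), ← map_mul, ← map_mul,
    (Cabanes.isBrauerPairOf_iff_mul hM hb.2.1 hb.1).1 hb]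

open H644 in
theorem rel (hM : IsPModular p M) [N.Normal] (h : Up M N b c) (h' : Up M N b' c') (r : NormalSubpairRel p M b b') :
    NormalSubpairRel p M c c' := by
  have := charP_resField hM
  obtain ⟨r1, r2, r3, r4, r5, r6⟩ := (isNormalSubpair_iff hM).1 r
  have h1 : c.1 ≤ c'.1 := by rw [h.fst, h'.fst]; exact map_mono r3
  have h2 : c'.1 ≤ normalizer (c.1 : Set G) := by
    rw [h.fst, h'.fst]
    exact (map_mono r4).trans (le_normalizer_map _)
  have h3 : IsInv c'.1 (emb N (emb _ (idem M b.2))) := isInv_iff_cj.2 fun x hx => by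
    rw [h'.fst] at hx
    obtain ⟨n, hn, rfl⟩ := hx
    exact (Cabanes.emb_cj n _).symm.trans (congrArg (emb N) (isInv_iff_cj.1 r5 n hn))
  have h4 : IsInv c'.1 (emb _ (idem M c.2)) := isInv_iff_cj.2 fun x hx => by
    have h5 : emb _ (idem M (conjIdx x c).2) = cj x (emb _ (idem M c.2)) := by
      obtain ⟨Q, F⟩ := c
      rw [conjIdx_mk]
      exact emb_idem_conjBlock Q x F
    have h6 : conjIdx x c = c := h.eq_of_mul hM ((mem_normalizer_iff_map_conj c.1 x).1 (h2 hx))
      (isPBlock_blkMap h.blk) (by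
        rw [h5]
        conv_lhs => rw [← isInv_iff_cj.1 h3 x hx]
        rw [← map_mul, h.mul hM, isInv_iff_cj.1 h3 x hx])
    rw [← h5, h6]
  have hP : IsPGroup p c'.1 := by rw [h'.fst]; exact r2.1.map _
  have hQ : IsPGroup p c.1 := by rw [h.fst]; exact r1.1.map _
  refine (isNormalSubpair_iff hM).2 ⟨⟨hQ, h.blk⟩, ⟨hP, h'.blk⟩, h1, h2, h4, fun ξ hξ =>
    h'.lam_one hM (isCls_br_emb h1 (isCls_idem _)) ?_ ?_ hξ⟩
  · rw [← br_mul hP h4 h4, ← map_mul, idem_mul_self hM (isUnion_of_isPBlock h.blk)]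
  · have h5 : br b'.1 (emb _ (idem M b.2)) * idem M b'.2 = idem M b'.2 :=
      mul_idem_of_lam_eq_one hM (isCls_br_emb r3 (isCls_idem _)) (by
        rw [← br_mul r2.1 r5 r5, ← map_mul, idem_mul_self hM (isUnion_of_isPBlock h.low)])
        (isUnion_of_isPBlock h'.low) r6
    have h6 : emb _ (br c'.1 (emb N (emb _ (idem M b.2)))) * emb N (emb _ (idem M b'.2)) =
        emb N (emb _ (idem M b'.2)) := by
      rw [Cabanes.emb_br_emb c'.1 b'.1 (fun n => h'.fst ▸ mem_map_iff b'.1 n) (h'.fst ▸ map_subtype_le _),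
        ← map_mul, ← map_mul, h5]
    rw [← h6, ← mul_assoc, ← map_mul, ← br_mul hP h4 h3, h.mul hM]

theorem le (hM : IsPModular p M) [N.Normal] (hN : ∃ k : ℕ, N.index = p ^ k) (h : Up M N b c) (h' : Up M N b' c')
    (r : LEIdx p M b b') : LEIdx p M c c' := by
  induction r generalizing c' with
  | refl => exact h.unique hM h' ▸ Relation.ReflTransGen.refl
  | tail _ r ih =>
    obtain ⟨d, hd⟩ := exists_up hM hN r.1.2
    exact (ih hd).tail (hd.rel hM h' r)

end Up

end Cfsg.Agent.OM.Gen
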